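import Cfsg.Agent.Mrg.Omega.EH3.CLDone_mg_m3
import Cfsg.Agent.Mrg.Omega.FF.GlobEnd
import Cfsg.Agent.Involutions.BaerSuzuki
import Cfsg.Agent.Mrg.Omega.NO3S.TwoA.Off_m3
import Mathlib.LinearAlgebra.Dual.Lemmas
import Mathlib.LinearAlgebra.FreeModule.Finite.Basic
import Cfsg.Agent.Omega.NOThreeL.ATwo.Fam_m3
import Cfsg.Agent.Omega.NatPair.Semi
import Mathlib.LinearAlgebra.Quotient.Basic
import Cfsg.Agent.Mrg.Omega.FOne.Plug_m3
import Cfsg.Agent.ZN.Facts
import Cfsg.Agent.Mrg.Omega.NOThreeL.Plug_m3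
import Cfsg.Agent.Mrg.Omega.ML.Ex.RowTitsX_m3
import Cfsg.Agent.Mrg.Omega.ML.MinIrr
import Cfsg.Agent.Mrg.Omega.OM.Lev.Low.TorusK.PBCj_mg_m3
import Cfsg.Agent.FastGrp
import Cfsg.Agent.Prune
set_option linter.all false

section
prune_inst 0x7ff1fefb9bfceddfdfff7e7fa7dccffdfdb8bffff6fffdcbffe06bff5bff4b84cfe5fbaf8be890fe5ff6e21490f87b13f9feceffe36bdc7ffffd5ff45ffbff9fedf7bd0951d698340fbc2ffe63f0778e7f3fffffffffffffffffffffffffffbeffbfffffffff

-- part: Mrg/Omega/FOne/Glue/FsPs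
section
prune_inst 0x100000000000000000000002000000000000000000000000000000000000000200000000000000000000020001000000000000000000000000000000000000000000000000000000000000000000000000000000000000000000000000000000
set_option linter.all false
open scoped Cfsg.Agent.FastGrp

-- part: Mrg/Omega/FOne/Act/End
section
/-!
# (F1'), the minimal parabolic case, closed form

`no_min` : in the faithful section of the reduction of (6''), `T` lies in at least two maximal subgroups of `H`.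
-/

set_option autoImplicit false
set_option linter.unusedSectionVars false

namespace Cfsg.Agent.Omega.FOne.Act

open Subgroup
open Cfsg.Agent.Omega.FOne.Tvw (Base)
open Cfsg.Agent.Omega.FOne.AT
open Cfsg.Agent.Omega.FOne.NOv (MAtom)

universe u

variable {W : Type u} [AddCommGroup W] [Module (ZMod 2) W] [Finite W] {H : Subgroup (W ≃ₗ[ZMod 2] W)} {y : W}

/-- **nmax** -/
theorem no_min (base : Base H y) {T : Subgroup (W ≃ₗ[ZMod 2] W)} (TH : T ≤ H)
    (two : IsPGroup 2 T) (syl : ¬ 2 ∣ T.relIndex H) (fix : ∀ w, (∀ t ∈ T, t w = w) → w = 0 ∨ w = y) {θ : W}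
    (θ0 : θ ≠ 0) (θy : θ ≠ y) (Tθ : ∀ t ∈ T, t θ = θ ∨ t θ = θ + y)
    (gen : ∀ U : Submodule (ZMod 2) W, y ∈ U → (∀ x ∈ H, x θ ∈ U) → U = ⊤) {B : Subgroup (W ≃ₗ[ZMod 2] W)}
    (BT : B ≤ T) (sq : ∀ b ∈ B, b * b = 1) (hB : MAtom y B) (h4 : 4 ≤ Nat.card B)
    {M0 : Subgroup (W ≃ₗ[ZMod 2] W)} (hM0 : ¬ H ≤ M0) : ¬ ∀ K, T ≤ K → K ≤ H → K ≤ M0 ∨ K = H := fun max =>
  false_of_min FF.Glob.aStmt base TH two syl fix θ0 θy (fun t ht => mod_iff.2 (Tθ t ht)) gen BT sq hB h4 hM0 max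

end Cfsg.Agent.Omega.FOne.Act
end

-- part: Mrg/Omega/FOne/NOv/TrAbs
section
section


/-!
# THEOREM TR (helper809 #19638, referee helper481 #20070): the abstract form

`ρ : Γ → End(M)` faithful, `M` a finite `𝔽₂`-space, `O₂(Γ) = 1`.

* `Is ρ g w f` : `g` acts as the transvection `v ↦ v + f(v) w`;
* `Dt.nb` : every transvection has a neighbour (`f(w') = 1 = f'(w)`) (Baer–Suzuki);
* `Dt.comp` : transvections in different components commute;
* `Dt.main` : `b = 1 + f.w` in a normal 2-subgroup of `C(λ)` ⟹ there is a functional `f'` with `f'(w) = 1` and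
  `f'(t w) = 0` for all `t ∈ C(λ)` with `t w ≠ w`.
-/

set_option autoImplicit false
set_option linter.unusedSectionVars false

namespace Cfsg.Agent.Omega.FOne.NOv.TrA

open Subgroup
open Cfsg.Agent.Omega.FOne.Tvw (z2 addself z2add)

variable {Γ M : Type*} [Group Γ] [AddCommGroup M] [Module (ZMod 2) M]

structure Dt (ρ : Γ →* Module.End (ZMod 2) M) : Prop where
  inj : Function.Injective ρ
  core : ∀ N : Subgroup Γ, N.Normal → IsPGroup 2 N → N = ⊥

/-- `g` acts as the transvection `v ↦ v + f(v) w` -/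
structure Is (ρ : Γ →* Module.End (ZMod 2) M) (g : Γ) (w : M) (f : M →ₗ[ZMod 2] ZMod 2) : Prop where
  w0 : w ≠ 0
  f0 : f ≠ 0
  e : ∀ v, ρ g v = v + f v • w

section

variable (ρ : Γ →* Module.End (ZMod 2) M)

theorem ap_mul (g h : Γ) (v : M) : ρ (g * h) v = ρ g (ρ h v) := by rw [map_mul]; rfl

theorem ap_one (v : M) : ρ 1 v = v := by rw [map_one]; rfl

theorem inv_ap (g : Γ) (v : M) : ρ g⁻¹ (ρ g v) = v := by rw [← ap_mul, inv_mul_cancel, ap_one]

theorem ap_inv (g : Γ) (v : M) : ρ g (ρ g⁻¹ v) = v := by rw [← ap_mul, mul_inv_cancel, ap_one]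

end

theorem exists_one {f : M →ₗ[ZMod 2] ZMod 2} (hf : f ≠ 0) : ∃ v, f v = 1 := by
  by_contra hcon
  push Not at hcon
  exact hf (LinearMap.ext fun v => (z2 (f v)).resolve_right (hcon v))

variable {ρ : Γ →* Module.End (ZMod 2) M}

theorem Dt.ext (D : Dt ρ) {g h : Γ} (e : ∀ v, ρ g v = ρ h v) : g = h := D.inj (LinearMap.ext e)

theorem Is.fw {g : Γ} {w : M} {f : M →ₗ[ZMod 2] ZMod 2} (h : Is ρ g w f) : f w = 0 := by
  rcases z2 (f w) with a | a
  · exact a
  exfalso
  have e := h.e w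
  rw [a, one_smul, addself] at e
  apply h.w0
  rw [← inv_ap ρ g w, e, map_zero]

theorem Is.gg (D : Dt ρ) {g : Γ} {w : M} {f : M →ₗ[ZMod 2] ZMod 2} (h : Is ρ g w f) : g * g = 1 := by
  apply D.ext
  intro v
  rw [ap_mul, ap_one, h.e, h.e, map_add, map_smul, h.fw, smul_zero, add_zero, add_assoc, ← add_smul, z2add,
    zero_smul, add_zero]

theorem Is.inv (D : Dt ρ) {g : Γ} {w : M} {f : M →ₗ[ZMod 2] ZMod 2} (h : Is ρ g w f) : g⁻¹ = g :=
  inv_eq_of_mul_eq_one_left (h.gg D)

/-- the conjugate functional -/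
abbrev cf (ρ : Γ →* Module.End (ZMod 2) M) (k : Γ) (f : M →ₗ[ZMod 2] ZMod 2) : M →ₗ[ZMod 2] ZMod 2 :=
  f.comp (ρ k⁻¹)

theorem cf_apply (k : Γ) (f : M →ₗ[ZMod 2] ZMod 2) (v : M) : cf ρ k f v = f (ρ k⁻¹ v) := rfl

theorem cf_ap (k : Γ) (f : M →ₗ[ZMod 2] ZMod 2) (v : M) : cf ρ k f (ρ k v) = f v := by
  rw [cf_apply, inv_ap]

theorem cf_inj (k : Γ) : Function.Injective (cf ρ k) := by
  intro f f' h
  ext v
  rw [← cf_ap (ρ := ρ) k f v, h, cf_ap]

theorem cf_ne {k : Γ} {f : M →ₗ[ZMod 2] ZMod 2} (hf : f ≠ 0) : cf ρ k f ≠ 0 := by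
  intro h
  apply hf
  apply cf_inj (ρ := ρ) k
  rw [h]; rfl

theorem ap_ne {k : Γ} {w : M} (hw : w ≠ 0) : ρ k w ≠ 0 := by
  intro h
  apply hw
  rw [← inv_ap ρ k w, h, map_zero]

theorem Is.conj {g : Γ} {w : M} {f : M →ₗ[ZMod 2] ZMod 2} (h : Is ρ g w f) (k : Γ) :
    Is ρ (k * g * k⁻¹) (ρ k w) (cf ρ k f) where
  w0 := ap_ne h.w0
  f0 := cf_ne h.f0
  e := by
    intro v
    rw [ap_mul, ap_mul, h.e, map_add, map_smul, ap_inv, cf_apply]

/-- the commutator of two transvections -/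
theorem comm_one {x y : Γ} {u w : M} {f k : M →ₗ[ZMod 2] ZMod 2} (hx : Is ρ x u f) (hy : Is ρ y w k)
    (h1 : f w = 1) (h0 : k u = 0) : Is ρ (x * y * (x * y)) u k where
  w0 := hx.w0
  f0 := hy.f0
  e := by
    intro v
    rw [ap_mul, ap_mul, ap_mul, hy.e v, hx.e, hy.e, hx.e]
    simp only [map_add, map_smul, h1, h0, hx.fw, hy.fw, add_zero, smul_eq_mul, mul_one, mul_zero]
    linear_combination (norm := module) f v • addself u + k v • addself w + k v • addself u

theorem comm_zero (D : Dt ρ) {x y : Γ} {u w : M} {f k : M →ₗ[ZMod 2] ZMod 2} (hx : Is ρ x u f) (hy : Is ρ y w k)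
    (h1 : f w = 0) (h0 : k u = 0) : x * y * (x * y) = 1 := by
  apply D.ext
  intro v
  rw [ap_one, ap_mul, ap_mul, ap_mul, hy.e v, hx.e, hy.e, hx.e]
  simp only [map_add, map_smul, h1, h0, hx.fw, hy.fw, add_zero, smul_eq_mul, mul_zero]
  linear_combination (norm := module) f v • addself u + k v • addself w

/-- the braid relation: `x y x = y x y` -/
theorem braid (D : Dt ρ) {x y : Γ} {u w : M} {f k : M →ₗ[ZMod 2] ZMod 2} (hx : Is ρ x u f) (hy : Is ρ y w k)
    (h1 : f w = 1) (h0 : k u = 1) : x * y * x = y * x * y := by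
  apply D.ext
  intro v
  rw [ap_mul, ap_mul, ap_mul, ap_mul, hx.e v, hy.e, hx.e, hy.e v, hx.e, hy.e]
  simp only [map_add, map_smul, h1, h0, hx.fw, hy.fw, add_zero, smul_eq_mul, mul_one, mul_zero]
  linear_combination (norm := module) f v • addself u - k v • addself w

theorem Is.ne {x y : Γ} {u w : M} {f k : M →ₗ[ZMod 2] ZMod 2} (hx : Is ρ x u f) (hy : Is ρ y w k)
    (h1 : f w = 1) : x ≠ y := by
  rintro rfl
  have e1 := hx.e w
  rw [h1, one_smul, hy.e w, hy.fw, zero_smul, add_zero] at e1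
  exact hx.w0 (by simpa using e1.symm)

/-- two neighbours are not in a common 2-group -/
theorem not_two (D : Dt ρ) {N : Subgroup Γ} (hN : IsPGroup 2 N) {x y : Γ} (xN : x ∈ N) (yN : y ∈ N) {u w : M}
    {f k : M →ₗ[ZMod 2] ZMod 2} (hx : Is ρ x u f) (hy : Is ρ y w k) (h1 : f w = 1) (h0 : k u = 1) : False := by
  have hb := braid D hx hy h1 h0
  have h3 : (x * y) ^ 3 = 1 := by
    have : (x * y) ^ 3 = (x * y * x) * (y * x * y) := by simp only [pow_succ, pow_zero, one_mul, mul_assoc]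
    rw [this, ← hb]
    calc x * y * x * (x * y * x) = x * y * (x * x) * y * x := by group
      _ = x * (y * y) * x := by rw [hx.gg D]; group
      _ = 1 := by rw [hy.gg D, mul_one, hx.gg D]
  obtain ⟨n, hn⟩ := hN ⟨x * y, N.mul_mem xN yN⟩
  have hn' : (x * y) ^ (2 ^ n) = 1 := congrArg Subtype.val hn
  have h4 : orderOf (x * y) ∣ 1 := by
    have hc : Nat.Coprime 3 (2 ^ n) := Nat.Coprime.pow_right _ (by decide)
    have := Nat.dvd_gcd (orderOf_dvd_of_pow_eq_one h3) (orderOf_dvd_of_pow_eq_one hn')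
    rwa [hc] at this
  have h5 : x * y = 1 := orderOf_eq_one_iff.mp (Nat.dvd_one.mp h4)
  apply hx.ne hy h1
  rw [← hy.inv D]
  exact eq_inv_of_mul_eq_one_left h5

theorem isPGroup_pair {t s : Γ} (ht : t * t = 1) (hs : s * s = 1) (h : (t * s) ^ 4 = 1) :
    IsPGroup 2 (Subgroup.closure {t, s} : Subgroup Γ) := by
  have htinv : t⁻¹ = t := inv_eq_of_mul_eq_one_left ht
  have hsinv : s⁻¹ = s := inv_eq_of_mul_eq_one_left hs
  have hinv : t * (t * s) * t⁻¹ = (t * s)⁻¹ := by
    rw [mul_inv_rev, hsinv, htinv]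
    calc t * (t * s) * t = (t * t) * s * t := by group
      _ = s * t := by rw [ht, one_mul]
  have hA : IsPGroup 2 (Subgroup.zpowers (t * s)) := by
    rintro ⟨x, hx⟩
    obtain ⟨n, rfl⟩ := Subgroup.mem_zpowers_iff.1 hx
    refine ⟨2, Subtype.ext ?_⟩
    change ((t * s) ^ n) ^ (2 ^ 2) = 1
    rw [← zpow_natCast, ← zpow_mul, mul_comm, zpow_mul, zpow_natCast]
    have : (2 : ℕ) ^ 2 = 4 := rfl
    rw [this, h, one_zpow]
  have hT : IsPGroup 2 (Subgroup.zpowers t) := by
    rintro ⟨x, hx⟩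
    obtain ⟨n, rfl⟩ := Subgroup.mem_zpowers_iff.1 hx
    refine ⟨1, Subtype.ext ?_⟩
    have h1 : (t ^ n) ^ 2 = 1 := by
      rw [pow_two, ← zpow_add, ← two_mul, zpow_mul]
      norm_cast
      rw [pow_two, ht, one_zpow]
    simpa only [_root_.pow_one, _root_.SubmonoidClass.mk_pow, _root_.OneMemClass.coe_one] using h1
  have hnorm : Subgroup.zpowers t ≤ Subgroup.normalizer ((Subgroup.zpowers (t * s) : Subgroup Γ) : Set Γ) := by
    rw [Subgroup.zpowers_le, Subgroup.mem_normalizer_iff]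
    have hfor : ∀ h ∈ Subgroup.zpowers (t * s), t * h * t⁻¹ ∈ Subgroup.zpowers (t * s) := by
      rintro h ⟨n, rfl⟩
      simp only
      rw [← conj_zpow, hinv]
      exact ⟨-n, by simp only [zpow_neg, inv_zpow]⟩
    intro h
    refine ⟨hfor h, fun hh => ?_⟩
    have := hfor _ hh
    rw [htinv] at this
    have h2 : t * (t * h * t) * t = h := by
      calc t * (t * h * t) * t = (t * t) * h * (t * t) := by group
        _ = h := by rw [ht]; group
    rwa [h2] at this
  refine (IsPGroup.to_sup_of_normal_left' hA hT hnorm).to_le ?_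
  rw [Subgroup.closure_le]
  intro w hw
  rcases hw with rfl | hw
  · exact Subgroup.mem_sup_right (Subgroup.mem_zpowers _)
  · rw [Set.mem_singleton_iff] at hw
    subst hw
    have h1 : t * (t * w) = w := by rw [← mul_assoc, ht, one_mul]
    have h2 : t * (t * w) ∈ Subgroup.zpowers (t * w) ⊔ Subgroup.zpowers t :=
      mul_mem (Subgroup.mem_sup_right (Subgroup.mem_zpowers _)) (Subgroup.mem_sup_left (Subgroup.mem_zpowers _))
    rwa [h1] at h2

/-- **every transvection has a neighbour** -/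
theorem Dt.nb [Finite Γ] (D : Dt ρ) {g : Γ} {w : M} {f : M →ₗ[ZMod 2] ZMod 2} (hg : Is ρ g w f) :
    ∃ g' w' f', Is ρ g' w' f' ∧ f w' = 1 ∧ f' w = 1 := by
  by_contra hcon
  push Not at hcon
  have hf : Fact (Nat.Prime 2) := ⟨Nat.prime_two⟩
  have hp : IsPGroup 2 (Subgroup.normalClosure {g} : Subgroup Γ) := by
    refine Involutions.BaerSuzuki.baer_suzuki_element g fun k => ?_
    have hk := hg.conj k
    refine isPGroup_pair (hg.gg D) (hk.gg D) ?_
    have e4 : (g * (k * g * k⁻¹)) ^ 4 = (g * (k * g * k⁻¹) * (g * (k * g * k⁻¹))) *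
        (g * (k * g * k⁻¹) * (g * (k * g * k⁻¹))) := by
      simp only [pow_succ, pow_zero, one_mul, mul_assoc]
    rw [e4]
    rcases z2 (f (ρ k w)) with a | a
    · rcases z2 (cf ρ k f w) with b | b
      · rw [comm_zero D hg hk a b, one_mul]
      · have h1 := comm_one hk hg b a
        have h2 := h1.gg D
        set s := k * g * k⁻¹ with hs
        have e5 : s * g * (s * g) = (g * s * (g * s))⁻¹ := by
          rw [mul_inv_rev, mul_inv_rev, hg.inv D, hk.inv D]
        rw [e5, ← mul_inv_rev] at h2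
        exact inv_eq_one.mp h2
    · rcases z2 (cf ρ k f w) with b | b
      · exact (comm_one hg hk a b).gg D
      · exact absurd b (hcon _ _ _ hk a)
  have h1 := D.core _ Subgroup.normalClosure_normal hp
  have h2 : g ∈ Subgroup.normalClosure ({g} : Set Γ) := Subgroup.subset_normalClosure (by simp)
  rw [h1, mem_bot] at h2
  obtain ⟨v, hv⟩ := exists_one hg.f0
  have h3 := hg.e v
  rw [h2, ap_one, hv, one_smul] at h3
  exact hg.w0 (by simpa using h3.symm)

/-! ### components -/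

/-- neighbours -/
def Ed (ρ : Γ →* Module.End (ZMod 2) M) (p q : M × (M →ₗ[ZMod 2] ZMod 2)) : Prop :=
  (∃ g, Is ρ g p.1 p.2) ∧ (∃ g, Is ρ g q.1 q.2) ∧ p.2 q.1 = 1 ∧ q.2 p.1 = 1

/-- connected -/
def Co (ρ : Γ →* Module.End (ZMod 2) M) : M × (M →ₗ[ZMod 2] ZMod 2) → M × (M →ₗ[ZMod 2] ZMod 2) → Prop :=
  Relation.ReflTransGen (Ed ρ)

theorem Ed.symm {p q : M × (M →ₗ[ZMod 2] ZMod 2)} (h : Ed ρ p q) : Ed ρ q p :=
  ⟨h.2.1, h.1, h.2.2.2, h.2.2.1⟩

theorem Co.symm {p q : M × (M →ₗ[ZMod 2] ZMod 2)} (h : Co ρ p q) : Co ρ q p := by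
  induction h with
  | refl => exact Relation.ReflTransGen.refl
  | tail _ h2 ih => exact Relation.ReflTransGen.head h2.symm ih

theorem Co.trans {p q r : M × (M →ₗ[ZMod 2] ZMod 2)} (h : Co ρ p q) (h' : Co ρ q r) : Co ρ p r :=
  Relation.ReflTransGen.trans h h'

theorem Ed.co {p q : M × (M →ₗ[ZMod 2] ZMod 2)} (h : Ed ρ p q) : Co ρ p q := Relation.ReflTransGen.single h

/-- the conjugate of a node -/
def cn (ρ : Γ →* Module.End (ZMod 2) M) (k : Γ) (p : M × (M →ₗ[ZMod 2] ZMod 2)) :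
    M × (M →ₗ[ZMod 2] ZMod 2) := (ρ k p.1, cf ρ k p.2)

theorem Ed.conj {p q : M × (M →ₗ[ZMod 2] ZMod 2)} (h : Ed ρ p q) (k : Γ) : Ed ρ (cn ρ k p) (cn ρ k q) := by
  obtain ⟨⟨g, hg⟩, ⟨g', hg'⟩, h1, h2⟩ := h
  exact ⟨⟨_, hg.conj k⟩, ⟨_, hg'.conj k⟩, by rw [cn, cn, cf_ap]; exact h1, by rw [cn, cn, cf_ap]; exact h2⟩

theorem Co.conj {p q : M × (M →ₗ[ZMod 2] ZMod 2)} (h : Co ρ p q) (k : Γ) : Co ρ (cn ρ k p) (cn ρ k q) := by
  induction h with
  | refl => exact Relation.ReflTransGen.refl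
  | tail _ h2 ih => exact Relation.ReflTransGen.tail ih (h2.conj k)

/-- connected nodes have conjugate centres -/
theorem Co.exists_conj {p q : M × (M →ₗ[ZMod 2] ZMod 2)} (h : Co ρ p q) : ∃ k, ρ k p.1 = q.1 := by
  induction h with
  | refl => exact ⟨1, ap_one ρ _⟩
  | @tail r s _ h2 ih =>
    obtain ⟨k, hk⟩ := ih
    obtain ⟨⟨g, hg⟩, ⟨g', hg'⟩, h1, h3⟩ := h2
    refine ⟨g * g' * k, ?_⟩
    rw [ap_mul, ap_mul, hk, hg'.e, h3, one_smul, map_add, hg.e, hg.e, hg.fw, h1, zero_smul, one_smul, add_zero]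
    linear_combination (norm := module) addself r.1

/-- **LEMMA COMP** -/
theorem Dt.comp [Finite Γ] (D : Dt ρ) {p q : M × (M →ₗ[ZMod 2] ZMod 2)} (hp : ∃ g, Is ρ g p.1 p.2)
    (hq : ∃ g, Is ρ g q.1 q.2) (h1 : p.2 q.1 = 1) : Co ρ p q := by
  rcases z2 (q.2 p.1) with a | a
  swap
  · exact Ed.co ⟨hp, hq, h1, a⟩
  obtain ⟨x, hx⟩ := hp
  obtain ⟨y, hy⟩ := hq
  obtain ⟨u, f⟩ := p
  obtain ⟨w, k⟩ := q
  simp only at hx hy h1 a
  obtain ⟨g₃, w₃, f₃, hg₃, b1, b2⟩ := D.nb (comm_one hx hy h1 a)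
  -- first move
  obtain ⟨g₄, w₄, f₄, hg₄, c1, c2, c3⟩ : ∃ g₄ w₄ f₄, Is ρ g₄ w₄ f₄ ∧ k w₄ = 1 ∧ f₄ u = 1 ∧ f w₄ = 1 := by
    rcases z2 (f w₃) with d | d
    swap
    · exact ⟨_, _, _, hg₃, b1, b2, d⟩
    · refine ⟨_, _, _, hg₃.conj y, ?_, ?_, ?_⟩
      · rw [hy.e, map_add, map_smul, hy.fw, smul_zero, add_zero, b1]
      · rw [cf_apply, hy.inv D, hy.e, a, zero_smul, add_zero, b2]
      · rw [hy.e, map_add, map_smul, h1, d, b1, one_smul, zero_add]
  obtain ⟨g₅, w₅, f₅, hg₅, e1, e2, e3, e4⟩ : ∃ g₅ w₅ f₅, Is ρ g₅ w₅ f₅ ∧ k w₅ = 1 ∧ f₅ u = 1 ∧ f w₅ = 1 ∧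
      f₅ w = 1 := by
    rcases z2 (f₄ w) with d | d
    swap
    · exact ⟨_, _, _, hg₄, c1, c2, c3, d⟩
    · refine ⟨_, _, _, hg₄.conj x, ?_, ?_, ?_, ?_⟩
      · rw [hx.e, map_add, map_smul, a, smul_zero, add_zero, c1]
      · rw [cf_apply, hx.inv D, hx.e, hx.fw, zero_smul, add_zero, c2]
      · rw [hx.e, map_add, map_smul, hx.fw, smul_zero, add_zero, c3]
      · rw [cf_apply, hx.inv D, hx.e, h1, one_smul, map_add, d, c2, zero_add]
  refine Co.trans (q := (w₅, f₅)) (Ed.co ⟨⟨x, hx⟩, ⟨g₅, hg₅⟩, e3, e2⟩) (Ed.co ⟨⟨g₅, hg₅⟩, ⟨y, hy⟩, e4, e1⟩)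

/-! ### step (i) -/

/-- the property which is constant on the component -/
def Pr (ρ : Γ →* Module.End (ZMod 2) M) (μ : M) (p : M × (M →ₗ[ZMod 2] ZMod 2)) : Prop :=
  (∃ N : Subgroup Γ, IsPGroup 2 N ∧ (∀ h, ρ h (μ + p.1) = μ + p.1 → ∀ n ∈ N, h * n * h⁻¹ ∈ N) ∧
    ∃ g ∈ N, Is ρ g p.1 p.2) ∧ p.2 μ = 0

theorem Pr.step (D : Dt ρ) {μ : M} {p q : M × (M →ₗ[ZMod 2] ZMod 2)} (hP : Pr ρ μ p) (h : Ed ρ p q) :
    Pr ρ μ q := by
  obtain ⟨⟨N, N2, Nn, b, bN, hb⟩, hf⟩ := hP
  obtain ⟨-, ⟨b', hb'⟩, h1, h2⟩ := h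
  obtain ⟨w, f⟩ := p
  obtain ⟨w', f'⟩ := q
  simp only at hb hb' h1 h2 hf Nn
  -- `f'(λ) = 1`
  have h3 : f' (μ + w) = 1 := by
    rcases z2 (f' (μ + w)) with a | a
    swap
    · exact a
    exfalso
    have h4 : b' * b * b'⁻¹ ∈ N := Nn b' (by rw [hb'.e, a, zero_smul, add_zero]) b bN
    refine not_two D N2 bN h4 hb (hb.conj b') ?_ ?_
    · rw [hb'.e, h2, one_smul, map_add, hb.fw, h1, zero_add]
    · rw [cf_apply, hb'.inv D, hb'.e, h2, one_smul, map_add, hb.fw, h1, zero_add]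
  have h4 : f' μ = 0 := by
    rw [map_add, h2] at h3
    rcases z2 (f' μ) with a | a
    · exact a
    · rw [a] at h3; exact absurd h3 (by decide)
  refine ⟨⟨N.map (MulAut.conj (b * b')).toMonoidHom, N2.map _, ?_, b', ?_, hb'⟩, h4⟩
  · intro h hh n hn
    obtain ⟨m, hm, rfl⟩ := hn
    simp only at hh
    -- `b b' (μ + w) = μ + w'`
    have e1 : ρ (b * b') (μ + w) = μ + w' := by
      rw [ap_mul, hb'.e, h3, one_smul, hb.e, map_add, map_add, hf, hb.fw, h1, zero_add, zero_add, one_smul]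
      linear_combination (norm := module) addself w
    have e2 : ρ ((b * b')⁻¹ * h * (b * b')) (μ + w) = μ + w := by
      rw [ap_mul, ap_mul, e1, hh, ← e1, inv_ap]
    refine ⟨_, Nn _ e2 m hm, ?_⟩
    change b * b' * ((b * b')⁻¹ * h * (b * b') * m * ((b * b')⁻¹ * h * (b * b'))⁻¹) * (b * b')⁻¹ =
      h * (b * b' * m * (b * b')⁻¹) * h⁻¹
    group
  · refine ⟨b, bN, ?_⟩
    change b * b' * b * (b * b')⁻¹ = b'
    rw [braid D hb hb' h1 h2, mul_inv_rev, hb.inv D, hb'.inv D]
    calc b' * b * b' * (b' * b) = b' * b * (b' * b') * b := by group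
      _ = b' := by rw [hb'.gg D, mul_one, mul_assoc, hb.gg D, mul_one]

theorem Pr.co (D : Dt ρ) {μ : M} {p q : M × (M →ₗ[ZMod 2] ZMod 2)} (hP : Pr ρ μ p) (h : Co ρ p q) :
    Pr ρ μ q := by
  induction h with
  | refl => exact hP
  | tail _ h2 ih => exact ih.step D h2

/-! ### `O₂(Γ) = 1` -/

theorem Dt.core3 (D : Dt ρ) (E R : Submodule (ZMod 2) M) (hE : ∀ k, ∀ e ∈ E, ρ k e ∈ E)
    (hR : ∀ k, ∀ e ∈ R, ρ k e ∈ R) {g : Γ} (h1 : ∀ v, ρ g v + v ∈ E) (h2 : ∀ e ∈ E, ρ g e + e ∈ R)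
    (h3 : ∀ r ∈ R, ρ g r = r) : g = 1 := by
  let N : Subgroup Γ :=
    { carrier := {g | (∀ v, ρ g v + v ∈ E) ∧ (∀ e ∈ E, ρ g e + e ∈ R) ∧ ∀ r ∈ R, ρ g r = r}
      one_mem' := ⟨fun v => by rw [ap_one, addself]; exact E.zero_mem,
        fun v _ => by rw [ap_one, addself]; exact R.zero_mem, fun r _ => ap_one ρ r⟩
      mul_mem' := by
        rintro a b ⟨a1, a2, a3⟩ ⟨b1, b2, b3⟩
        have key : ∀ v, ρ (a * b) v + v = (ρ a (ρ b v) + ρ b v) + (ρ b v + v) := by
          intro v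
          rw [ap_mul]
          linear_combination (norm := module) (-1 : ZMod 2) • addself (ρ b v)
        refine ⟨fun v => ?_, fun e he => ?_, fun r hr => ?_⟩
        · rw [key]; exact E.add_mem (a1 _) (b1 _)
        · rw [key]; exact R.add_mem (a2 _ (hE b e he)) (b2 e he)
        · rw [ap_mul, b3 r hr, a3 r hr]
      inv_mem' := by
        rintro a ⟨a1, a2, a3⟩
        have key : ∀ v, ρ a⁻¹ v + v = ρ a (ρ a⁻¹ v) + ρ a⁻¹ v := by
          intro v
          rw [ap_inv, add_comm]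
        refine ⟨fun v => ?_, fun e he => ?_, fun r hr => ?_⟩
        · rw [key]; exact a1 _
        · rw [key]; exact a2 _ (hE _ e he)
        · conv_lhs => rw [← a3 r hr]
          exact inv_ap ρ a r }
  have hn : N.Normal := by
    refine ⟨fun a ha k => ?_⟩
    obtain ⟨a1, a2, a3⟩ := ha
    have key : ∀ v, ρ (k * a * k⁻¹) v + v = ρ k (ρ a (ρ k⁻¹ v) + ρ k⁻¹ v) := by
      intro v
      rw [ap_mul, ap_mul, map_add, ap_inv]
    refine ⟨fun v => ?_, fun e he => ?_, fun r hr => ?_⟩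
    · rw [key]; exact hE k _ (a1 _)
    · rw [key]; exact hR k _ (a2 _ (hE _ e he))
    · rw [ap_mul, ap_mul, a3 _ (hR _ r hr), ap_inv]
  have h2' : IsPGroup 2 N := by
    rintro ⟨a, a1, a2, a3⟩
    refine ⟨2, Subtype.ext ?_⟩
    change a ^ (2 ^ 2) = 1
    apply D.ext
    intro v
    have e1 : a ^ (2 ^ 2) = a * (a * (a * a)) := by
      rw [show (2 : ℕ) ^ 2 = 4 from rfl]
      simp only [pow_succ, pow_zero, one_mul, mul_assoc]
    have key : ∀ v, ∃ r ∈ R, ρ a (ρ a v) = v + r := by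
      intro v
      refine ⟨_, a2 _ (a1 v), ?_⟩
      rw [map_add]
      linear_combination (norm := module) (-1 : ZMod 2) • addself (ρ a v) + (-1 : ZMod 2) • addself v
    rw [e1, ap_mul, ap_mul, ap_mul, ap_one]
    obtain ⟨r, hr, e2⟩ := key v
    rw [e2, map_add, map_add, a3 r hr, a3 r hr, e2, add_assoc, addself, add_zero]
  have h4 : g ∈ N := ⟨h1, h2, h3⟩
  rw [D.core N hn h2'] at h4
  exact mem_bot.mp h4

/-! ### step (ii) -/

/-- `E` : the span of the centres -/
def Ec (ρ : Γ →* Module.End (ZMod 2) M) : Submodule (ZMod 2) M :=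
  Submodule.span (ZMod 2) {u | ∃ g f, Is ρ g u f}

/-- `R` : the common kernel of the functionals -/
def Rc (ρ : Γ →* Module.End (ZMod 2) M) : Submodule (ZMod 2) M where
  carrier := {v | ∀ g u f, Is ρ g u f → f v = 0}
  zero_mem' := fun _ _ _ _ => map_zero _
  add_mem' := fun ha hb g u f h => by rw [map_add, ha g u f h, hb g u f h, add_zero]
  smul_mem' := fun c v hv g u f h => by rw [map_smul, hv g u f h, smul_zero]

theorem Ec_inv (k : Γ) {e : M} (he : e ∈ Ec ρ) : ρ k e ∈ Ec ρ := by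
  induction he using Submodule.span_induction with
  | mem u hu =>
    obtain ⟨g, f, h⟩ := hu
    exact Submodule.subset_span ⟨_, _, h.conj k⟩
  | zero => rw [map_zero]; exact Submodule.zero_mem _
  | add u v _ _ hu hv => rw [map_add]; exact Submodule.add_mem _ hu hv
  | smul c u _ hu => rw [map_smul]; exact Submodule.smul_mem _ c hu

theorem Rc_inv (k : Γ) {e : M} (he : e ∈ Rc ρ) : ρ k e ∈ Rc ρ := by
  intro g u f h
  have h1 := he _ _ _ (h.conj k⁻¹)
  rwa [cf_apply, inv_inv] at h1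

/-- `f = f'` on the centres, hence on `E` -/
theorem eq_on_Ec {f f' : M →ₗ[ZMod 2] ZMod 2} (h : ∀ g u k, Is ρ g u k → f u = f' u) {e : M} (he : e ∈ Ec ρ) :
    f e = f' e := by
  induction he using Submodule.span_induction with
  | mem u hu =>
    obtain ⟨g, k, h1⟩ := hu
    exact h g u k h1
  | zero => rw [map_zero, map_zero]
  | add u v _ _ hu hv => rw [map_add, map_add, hu, hv]
  | smul c u _ hu => rw [map_smul, map_smul, hu]

section two

variable [Finite Γ] (D : Dt ρ) {b : Γ} {w : M} {f : M →ₗ[ZMod 2] ZMod 2} {t : Γ}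
include D

/-- case A: `f^t = f` on `E` -/
theorem Dt.caseA (hb : Is ρ b w f) (hr : w + ρ t w ∈ Rc ρ) (hE : ∀ g u k, Is ρ g u k → f u = cf ρ t f u) :
    ρ t w = w := by
  have hbt := hb.conj t
  have h0 : f (ρ t w) = 0 := by
    have := hr _ _ _ hb
    rwa [map_add, hb.fw, zero_add] at this
  have hv : ∀ v, ρ (b * (t * b * t⁻¹)) v = v + cf ρ t f v • ρ t w + f v • w := by
    intro v
    rw [ap_mul, hbt.e, hb.e, map_add, map_smul, h0, smul_zero, add_zero]
  have wE : w ∈ Ec ρ := Submodule.subset_span ⟨_, _, hb⟩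
  have h1 : b * (t * b * t⁻¹) = 1 := by
    refine D.core3 (Ec ρ) (Rc ρ) (fun k e he => Ec_inv k he) (fun k e he => Rc_inv k he) (fun v => ?_)
      (fun e he => ?_) fun r hr' => ?_
    · rw [hv]
      have : v + cf ρ t f v • ρ t w + f v • w + v = cf ρ t f v • ρ t w + f v • w := by
        linear_combination (norm := module) addself v
      rw [this]
      exact Submodule.add_mem _ (Submodule.smul_mem _ _ (Ec_inv t wE)) (Submodule.smul_mem _ _ wE)
    · rw [hv, ← eq_on_Ec hE he]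
      have : e + f e • ρ t w + f e • w + e = f e • (w + ρ t w) := by
        linear_combination (norm := module) addself e
      rw [this]
      exact Submodule.smul_mem _ _ hr
    · rw [hv, hr' _ _ _ hbt, hr' _ _ _ hb, zero_smul, zero_smul, add_zero, add_zero]
  obtain ⟨v, hf⟩ := exists_one hb.f0
  have h2 := hv v
  rw [h1, ap_one, hf, one_smul] at h2
  rcases z2 (cf ρ t f v) with a | a
  · rw [a, zero_smul, add_zero] at h2
    exact absurd (by simpa using h2.symm) hb.w0
  · rw [a, one_smul] at h2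
    linear_combination (norm := module) (-1 : ZMod 2) • h2 - addself w

/-- case B: some centre has `f(w') = 1`, `f^t(w') = 0` -/
theorem Dt.caseB [Finite M] (hb : Is ρ b w f) (hr : w + ρ t w ∈ Rc ρ) {b' : Γ} {w' : M}
    {f' : M →ₗ[ZMod 2] ZMod 2} (hb' : Is ρ b' w' f') (h1 : f w' = 1) (h2 : cf ρ t f w' = 0) : ρ t w = w := by
  have hfin : Finite (M →ₗ[ZMod 2] ZMod 2) := DFunLike.finite _
  have hbt := hb.conj t
  -- a transvection `(k, w')` with `k(w) = 1`
  obtain ⟨k, ⟨g, hg⟩, hk⟩ : ∃ k, (∃ g, Is ρ g w' k) ∧ k w = 1 := by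
    by_contra hcon
    push Not at hcon
    obtain ⟨c, hc⟩ := (D.comp (p := (w, f)) (q := (w', f')) ⟨b, hb⟩ ⟨b', hb'⟩ h1).exists_conj
    simp only at hc
    let F : M → Set (M →ₗ[ZMod 2] ZMod 2) := fun u => {k | ∃ g, Is ρ g u k}
    have hsub : F w' ⊆ F w := by
      rintro k ⟨g, hg⟩
      have hk : k w = 0 := (z2 _).resolve_right (hcon k ⟨g, hg⟩)
      exact ⟨_, comm_one hb hg h1 hk⟩
    have hle : (F w).ncard ≤ (F w').ncard := by
      refine Set.ncard_le_ncard_of_injOn (cf ρ c) ?_ (cf_inj c).injOn (Set.toFinite _)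
      rintro k ⟨g, hg⟩
      exact ⟨_, by rw [← hc]; exact hg.conj c⟩
    have heq := Set.eq_of_subset_of_ncard_le hsub hle (Set.toFinite _)
    have hm : f ∈ F w' := by rw [heq]; exact ⟨b, hb⟩
    obtain ⟨g, hg⟩ := hm
    have := hg.fw
    rw [h1] at this
    exact one_ne_zero this
  have h3 : k (ρ t w) = 1 := by
    have := hr _ _ _ hg
    rw [map_add, hk] at this
    rcases z2 (k (ρ t w)) with a | a
    · rw [a] at this; exact absurd this (by decide)
    · exact a
  have z1 := comm_one hg hbt h3 h2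
  have h4 : cf ρ t f w = 0 := by
    have := hr _ _ _ hbt
    rwa [map_add, cf_ap, hb.fw, add_zero] at this
  have z3 := comm_one hb z1 h1 h4
  by_contra hne
  have hr0 : w + ρ t w ≠ 0 := by
    intro e
    apply hne
    linear_combination (norm := module) e - addself w
  have z4 : Is ρ (b * (g * (t * b * t⁻¹) * (g * (t * b * t⁻¹))) * (b * (g * (t * b * t⁻¹) *
      (g * (t * b * t⁻¹)))) * (t * b * t⁻¹)) (w + ρ t w) (cf ρ t f) := by
    refine ⟨hr0, hbt.f0, fun v => ?_⟩
    rw [ap_mul, z3.e, hbt.e, map_add, map_smul, cf_ap, hb.fw, smul_zero, add_zero]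
    module
  obtain ⟨_, _, f'', h5, -, h6⟩ := D.nb z4
  have := hr _ _ _ h5
  rw [h6] at this
  exact one_ne_zero this

/-- **(ii)** -/
theorem Dt.fixed [Finite M] (hb : Is ρ b w f) {N : Subgroup Γ} (N2 : IsPGroup 2 N) (bN : b ∈ N) {v₀ : M}
    (Nn : ∀ h, ρ h v₀ = v₀ → ∀ n ∈ N, h * n * h⁻¹ ∈ N) (Nv : ∀ n ∈ N, ρ n v₀ = v₀) (ht : ρ t v₀ = v₀)
    (hc : Co ρ (w, f) (cn ρ t (w, f))) : ρ t w = w := by
  have hbt := hb.conj t
  have hfv : f v₀ = 0 := by
    have := hb.e v₀
    rw [Nv b bN] at this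
    rcases z2 (f v₀) with a | a
    · exact a
    · rw [a, one_smul] at this
      exact absurd (by simpa using this.symm) hb.w0
  have ht' : ρ t⁻¹ v₀ = v₀ := by conv_lhs => rw [← ht, inv_ap]
  have P1 : Pr ρ (v₀ + w) (w, f) := by
    refine ⟨⟨N, N2, fun h hh => Nn h ?_, b, bN, hb⟩, ?_⟩
    · have e : v₀ + w + w = v₀ := by rw [add_assoc, addself, add_zero]
      rwa [e] at hh
    · change f (v₀ + w) = 0
      rw [map_add, hfv, hb.fw, add_zero]
  have P2 : Pr ρ (v₀ + ρ t w) (cn ρ t (w, f)) := by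
    refine ⟨⟨N, N2, fun h hh => Nn h ?_, t * b * t⁻¹, Nn t ht b bN, hbt⟩, ?_⟩
    · have e : v₀ + ρ t w + ρ t w = v₀ := by rw [add_assoc, addself, add_zero]
      change ρ h (v₀ + ρ t w + ρ t w) = v₀ + ρ t w + ρ t w at hh
      rwa [e] at hh
    · change f (ρ t⁻¹ (v₀ + ρ t w)) = 0
      rw [map_add, ht', inv_ap, map_add, hfv, hb.fw, add_zero]
  have hr : w + ρ t w ∈ Rc ρ := by
    intro g u k hg
    have e : w + ρ t w = (v₀ + w) + (v₀ + ρ t w) := by
      linear_combination (norm := module) (-1 : ZMod 2) • addself v₀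
    by_cases h : Co ρ (w, f) (u, k)
    · have q1 := (P1.co D h).2
      have q2 := (P2.co D (hc.symm.trans h)).2
      simp only at q1 q2
      rw [e, map_add, q1, q2, add_zero]
    · have q1 : k w = 0 := by
        rcases z2 (k w) with a | a
        · exact a
        · exact absurd (D.comp (p := (u, k)) (q := (w, f)) ⟨g, hg⟩ ⟨b, hb⟩ a).symm h
      have q2 : k (ρ t w) = 0 := by
        rcases z2 (k (ρ t w)) with a | a
        · exact a
        · exact absurd (hc.trans (D.comp (p := (u, k)) (q := cn ρ t (w, f)) ⟨g, hg⟩ ⟨_, hbt⟩ a).symm) h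
      rw [map_add, q1, q2, add_zero]
  by_cases hE : ∀ g u k, Is ρ g u k → f u = cf ρ t f u
  · exact D.caseA hb hr hE
  push Not at hE
  obtain ⟨g, u, k, hg, hne⟩ := hE
  rcases z2 (f u) with a | a
  · -- use `t⁻¹`
    have a' : cf ρ t f u = 1 := by
      rcases z2 (cf ρ t f u) with a' | a'
      · exact absurd (a.trans a'.symm) hne
      · exact a'
    have hr' : w + ρ t⁻¹ w ∈ Rc ρ := by
      have := Rc_inv t⁻¹ hr
      rw [map_add, inv_ap, add_comm] at this
      exact this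
    have := D.caseB hb hr' (hg.conj t⁻¹) (h1 := a') (h2 := by rw [cf_apply, inv_inv, ap_inv]; exact a)
    conv_lhs => rw [← this]
    exact ap_inv ρ t w
  · have a' : cf ρ t f u = 0 := by
      rcases z2 (cf ρ t f u) with a' | a'
      · exact a'
      · exact absurd (a.trans a'.symm) hne
    exact D.caseB hb hr hg a a'

/-- **THEOREM TR, abstract form** -/
theorem Dt.main [Finite M] (hb : Is ρ b w f) {N : Subgroup Γ} (N2 : IsPGroup 2 N) (bN : b ∈ N) {v₀ : M}
    (Nn : ∀ h, ρ h v₀ = v₀ → ∀ n ∈ N, h * n * h⁻¹ ∈ N) (Nv : ∀ n ∈ N, ρ n v₀ = v₀) :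
    ∃ f' : M →ₗ[ZMod 2] ZMod 2, f' w = 1 ∧ ∀ t, ρ t v₀ = v₀ → ρ t w ≠ w → f' (ρ t w) = 0 := by
  obtain ⟨b', w', f', hb', h1, h2⟩ := D.nb hb
  refine ⟨f', h2, fun t ht hne => ?_⟩
  rcases z2 (f' (ρ t w)) with a | a
  · exact a
  exfalso
  apply hne
  refine D.fixed hb N2 bN Nn Nv ht ?_
  exact (D.comp (p := (w, f)) (q := (w', f')) ⟨b, hb⟩ ⟨b', hb'⟩ h1).trans
    (D.comp (p := (w', f')) (q := cn ρ t (w, f)) ⟨b', hb'⟩ ⟨_, hb.conj t⟩ a)

end two

end Cfsg.Agent.Omega.FOne.NOv.TrA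

end

section


/-!
# THEOREM A (helper297 #20655, referee helper270 #21082): the frame and the K-free part

`ρ : Γ → End(M)` faithful, `B` an atom (`|B||C_M(B)| = |M|`, quadratic), `B ≤ L` trivial on `M / X`,
`Y = C_L(X)`, `Φ : Y → X^*` an `L`-equivariant homomorphism with `Φ(u')([m,u]) = Φ(u)([m,u'])`, moved by `B`.

* `Fr.two` : `u ∈ Y` commutes with `B`, or `M = [M,u] + C_M(B)`;
* `Fr.sep` : in the second case `Φ(u)` is not trivial on `[X, b]`, `1 ≠ b ∈ B`;
* `Fr.Mn Y₁` : `Y₁` is a minimal `L`-invariant subgroup of `Y` moved by `B`.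
-/

set_option autoImplicit false
set_option linter.unusedSectionVars false

namespace Cfsg.Agent.Omega.FOne.ThmA

open Subgroup
open Cfsg.Agent.Omega.FOne.Tvw (z2 addself z2add eq_of_add_eq_zero')
open Cfsg.Agent.Omega.FOne.NOv.TrA (ap_mul ap_one inv_ap ap_inv)

universe u

variable {Γ : Type*} {M : Type u} [Group Γ] [AddCommGroup M] [Module (ZMod 2) M]

/-- `m ↦ [m, g]` -/
def dl (ρ : Γ →* Module.End (ZMod 2) M) (g : Γ) : M →ₗ[ZMod 2] M := ρ g + LinearMap.id

theorem dl_apply (ρ : Γ →* Module.End (ZMod 2) M) (g : Γ) (m : M) : dl ρ g m = ρ g m + m := rfl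

theorem ap_eq (ρ : Γ →* Module.End (ZMod 2) M) (g : Γ) (m : M) : ρ g m = m + dl ρ g m := by
  rw [dl_apply]; linear_combination (norm := module) -addself m

theorem dl_eq_zero {ρ : Γ →* Module.End (ZMod 2) M} {g : Γ} {m : M} : dl ρ g m = 0 ↔ ρ g m = m := by
  rw [dl_apply]
  exact ⟨fun h => eq_of_add_eq_zero' h, fun h => by rw [h]; exact addself m⟩

/-- the fixed points -/
def cv (ρ : Γ →* Module.End (ZMod 2) M) (B : Subgroup Γ) : Submodule (ZMod 2) M where
  carrier := {v | ∀ b ∈ B, ρ b v = v}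
  zero_mem' := fun b _ => map_zero _
  add_mem' := fun hv hw b hb => by rw [map_add, hv b hb, hw b hb]
  smul_mem' := fun c v hv b hb => by rw [map_smul, hv b hb]

theorem cv_anti {ρ : Γ →* Module.End (ZMod 2) M} {B D : Subgroup Γ} (h : D ≤ B) : cv ρ B ≤ cv ρ D :=
  fun _ hv b hb => hv b (h hb)

/-- the normal closure of `B` in `L` -/
def L1 (B L : Subgroup Γ) : Subgroup Γ := _root_.Subgroup.closure {x | ∃ l ∈ L, ∃ b ∈ B, l * b * l⁻¹ = x}

theorem B_le_L1 {B L : Subgroup Γ} : B ≤ L1 B L := fun b hb =>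
  subset_closure ⟨1, one_mem _, b, hb, by group⟩

theorem L1_le {B L : Subgroup Γ} (h : B ≤ L) : L1 B L ≤ L := by
  rw [L1, closure_le]
  rintro _ ⟨l, hl, b, hb, rfl⟩
  exact L.mul_mem (L.mul_mem hl (h hb)) (L.inv_mem hl)

theorem L1_conj {B L : Subgroup Γ} {l g : Γ} (hl : l ∈ L) (hg : g ∈ L1 B L) : l * g * l⁻¹ ∈ L1 B L := by
  induction hg using closure_induction with
  | mem x hx =>
    obtain ⟨k, hk, b, hb, rfl⟩ := hx
    exact subset_closure ⟨l * k, L.mul_mem hl hk, b, hb, by group⟩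
  | one => rw [mul_one, mul_inv_cancel]; exact one_mem _
  | mul x y _ _ hx hy =>
    have : l * (x * y) * l⁻¹ = (l * x * l⁻¹) * (l * y * l⁻¹) := by group
    rw [this]; exact mul_mem hx hy
  | inv x _ hx =>
    have : l * x⁻¹ * l⁻¹ = (l * x * l⁻¹)⁻¹ := by group
    rw [this]; exact inv_mem hx

/-- the hypotheses of the abstract THEOREM A -/
structure Fr (ρ : Γ →* Module.End (ZMod 2) M) (B L N : Subgroup Γ) (X : Submodule (ZMod 2) M)
    (Φ : Γ → M → ZMod 2) : Prop where
  inj : Function.Injective ρ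
  BL : B ≤ L
  BN : B ≤ N
  Lm : ∀ l ∈ L, ∀ v, ρ l v + v ∈ X
  sq : ∀ b ∈ B, b * b = 1
  quad : ∀ b ∈ B, ∀ b' ∈ B, ∀ v, ρ b' (ρ b v + v) = ρ b v + v
  ex : Nat.card B * Nat.card (cv ρ B) = Nat.card M
  atom : ∀ D ≤ B, Nat.card D * Nat.card (cv ρ D) = Nat.card M → D = ⊥ ∨ D = B
  no : ∀ A ≤ N, (∀ a ∈ A, a * a = 1) → Nat.card A * Nat.card (cv ρ A) ≤ Nat.card M
  nN : ∀ u ∈ L, (∀ v ∈ X, ρ u v = v) → ∀ n ∈ N, u * n * u⁻¹ ∈ N
  fX : ∀ b ∈ B, (∀ v ∈ X, ρ b v = v) → b = 1
  rad : ∀ R ≤ L1 B L, (∀ g ∈ L1 B L, ∀ r ∈ R, g * r * g⁻¹ ∈ R) → IsPGroup 2 R → ∀ r ∈ R, ∀ v ∈ X, ρ r v = v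
  padd : ∀ u ∈ L, (∀ v ∈ X, ρ u v = v) → ∀ v ∈ X, ∀ w ∈ X, Φ u (v + w) = Φ u v + Φ u w
  pmul : ∀ u ∈ L, (∀ v ∈ X, ρ u v = v) → ∀ u' ∈ L, (∀ v ∈ X, ρ u' v = v) → ∀ v ∈ X,
    Φ (u * u') v = Φ u v + Φ u' v
  pinv : ∀ u ∈ L, (∀ v ∈ X, ρ u v = v) → ∀ l ∈ L, ∀ v ∈ X, Φ (l * u * l⁻¹) (ρ l v) = Φ u v
  pcomm : ∀ u ∈ L, (∀ v ∈ X, ρ u v = v) → ∀ u' ∈ L, (∀ v ∈ X, ρ u' v = v) → ∀ m,
    Φ u' (ρ u m + m) = Φ u (ρ u' m + m)
  pself : ∀ u ∈ L, (∀ v ∈ X, ρ u v = v) → ∀ m, Φ u (ρ u m + m) = 0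
  mv : ∃ u ∈ L, (∀ v ∈ X, ρ u v = v) ∧ ∃ b ∈ B, ∃ v ∈ X, Φ u (ρ b v + v) ≠ 0

/-- `C_L(X)` -/
def YY (ρ : Γ →* Module.End (ZMod 2) M) (L : Subgroup Γ) (X : Submodule (ZMod 2) M) : Subgroup Γ where
  carrier := {u | u ∈ L ∧ ∀ v ∈ X, ρ u v = v}
  one_mem' := ⟨L.one_mem, fun v _ => ap_one ρ v⟩
  mul_mem' := fun {a b} ha hb => ⟨L.mul_mem ha.1 hb.1, fun v hv => by rw [ap_mul, hb.2 v hv, ha.2 v hv]⟩
  inv_mem' := fun {a} ha => ⟨L.inv_mem ha.1, fun v hv => by
    conv_lhs => rw [← ha.2 v hv]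
    exact inv_ap ρ a v⟩

/-! ### counting -/

theorem card_sup_inf [Finite M] (U V : Submodule (ZMod 2) M) :
    Nat.card (U ⊔ V : Submodule (ZMod 2) M) * Nat.card (U ⊓ V : Submodule (ZMod 2) M) =
      Nat.card U * Nat.card V := by
  have h1 := Submodule.finrank_sup_add_finrank_inf_eq U V
  rw [Module.natCard_eq_pow_finrank (K := ZMod 2) (V := U), Module.natCard_eq_pow_finrank (K := ZMod 2) (V := V),
    Module.natCard_eq_pow_finrank (K := ZMod 2) (V := (U ⊔ V : Submodule (ZMod 2) M)),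
    Module.natCard_eq_pow_finrank (K := ZMod 2) (V := (U ⊓ V : Submodule (ZMod 2) M)), ← pow_add, ← pow_add, h1]

theorem card_comap [Finite M] (f : M →ₗ[ZMod 2] M) (C : Submodule (ZMod 2) M) :
    Nat.card M * Nat.card (LinearMap.range f ⊓ C : Submodule (ZMod 2) M) =
      Nat.card (LinearMap.range f) * Nat.card (C.comap f) := by
  have h1 := LinearMap.finrank_range_add_finrank_ker f
  let g : C.comap f →ₗ[ZMod 2] M := f.comp (C.comap f).subtype
  have h2 := LinearMap.finrank_range_add_finrank_ker g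
  have h3 : LinearMap.range g = LinearMap.range f ⊓ C := by
    ext x
    constructor
    · rintro ⟨⟨v, hv⟩, rfl⟩
      exact ⟨⟨v, rfl⟩, hv⟩
    · rintro ⟨⟨v, rfl⟩, hv⟩
      exact ⟨⟨v, hv⟩, rfl⟩
  have h4 : Module.finrank (ZMod 2) (LinearMap.ker g) = Module.finrank (ZMod 2) (LinearMap.ker f) := by
    refine LinearEquiv.finrank_eq (LinearEquiv.ofBijective
      ({ toFun := fun x => ⟨x.1.1, x.2⟩
         map_add' := fun _ _ => rfl
         map_smul' := fun _ _ => rfl } : LinearMap.ker g →ₗ[ZMod 2] LinearMap.ker f) ⟨?_, ?_⟩)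
    · intro a b hab
      have h5 := congrArg (fun t : LinearMap.ker f => (t : M)) hab
      exact Subtype.ext (Subtype.ext h5)
    · rintro ⟨v, hv⟩
      refine ⟨⟨⟨v, ?_⟩, hv⟩, rfl⟩
      rw [Submodule.mem_comap, LinearMap.mem_ker.mp hv]
      exact C.zero_mem
  rw [h3, h4] at h2
  rw [Module.natCard_eq_pow_finrank (K := ZMod 2) (V := M),
    Module.natCard_eq_pow_finrank (K := ZMod 2) (V := (LinearMap.range f ⊓ C : Submodule (ZMod 2) M)),
    Module.natCard_eq_pow_finrank (K := ZMod 2) (V := LinearMap.range f),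
    Module.natCard_eq_pow_finrank (K := ZMod 2) (V := C.comap f), ← pow_add, ← pow_add]
  congr 1
  omega

namespace Fr

variable {ρ : Γ →* Module.End (ZMod 2) M} {B L N : Subgroup Γ} {X : Submodule (ZMod 2) M} {Φ : Γ → M → ZMod 2}
  (h : Fr ρ B L N X Φ)
include h

theorem ext {g k : Γ} (e : ∀ v, ρ g v = ρ k v) : g = k := h.inj (LinearMap.ext e)

theorem LX {l : Γ} (hl : l ∈ L) {v : M} (hv : v ∈ X) : ρ l v ∈ X := by
  rw [ap_eq]; exact X.add_mem hv (h.Lm l hl v)

theorem inv {b : Γ} (hb : b ∈ B) : b⁻¹ = b := inv_eq_of_mul_eq_one_left (h.sq b hb)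

variable {u u' : Γ} (hu : u ∈ YY ρ L X) (hu' : u' ∈ YY ρ L X)
include hu

theorem dX (m : M) : dl ρ u m ∈ X := h.Lm u hu.1 m

omit h in
theorem dzero {v : M} (hv : v ∈ X) : dl ρ u v = 0 := dl_eq_zero.mpr (hu.2 v hv)

theorem d_ap {l : Γ} (hl : l ∈ L) (m : M) : dl ρ u (ρ l m) = dl ρ u m := by
  have h1 : dl ρ u (dl ρ l m) = 0 := dzero hu (h.Lm l hl m)
  rw [ap_eq ρ l m, map_add, h1, add_zero]

theorem usq : u * u = 1 := by
  refine h.ext fun v => ?_
  rw [ap_mul, ap_one, ap_eq ρ u (ρ u v), h.d_ap hu hu.1, ap_eq ρ u v, add_assoc, addself, add_zero]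

theorem uinv : u⁻¹ = u := inv_eq_of_mul_eq_one_left (h.usq hu)

theorem conj {l : Γ} (hl : l ∈ L) : l * u * l⁻¹ ∈ YY ρ L X := by
  refine ⟨L.mul_mem (L.mul_mem hl hu.1) (L.inv_mem hl), fun v hv => ?_⟩
  rw [ap_mul, ap_mul, hu.2 _ (h.LX (L.inv_mem hl) hv), ap_inv]

theorem d_conj {l : Γ} (hl : l ∈ L) (m : M) : dl ρ (l * u * l⁻¹) m = ρ l (dl ρ u m) := by
  have h1 : dl ρ (l * u * l⁻¹) m = ρ l (dl ρ u (ρ l⁻¹ m)) := by
    rw [dl_apply, dl_apply, ap_mul, ap_mul, map_add, ap_inv]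
  rw [h1, h.d_ap hu (L.inv_mem hl)]

theorem pconj {l : Γ} (hl : l ∈ L) {v : M} (hv : v ∈ X) : Φ (l * u * l⁻¹) v = Φ u (ρ l⁻¹ v) := by
  have h1 := h.pinv u hu.1 hu.2 l hl (ρ l⁻¹ v) (h.LX (L.inv_mem hl) hv)
  rwa [ap_inv] at h1

theorem pzero : Φ u 0 = 0 := by
  have h1 := h.padd u hu.1 hu.2 0 X.zero_mem 0 X.zero_mem
  rw [add_zero] at h1
  rcases z2 (Φ u 0) with a | a
  · exact a
  · rw [a] at h1; exact absurd h1 (by decide)

include hu'

theorem d_mul (m : M) : dl ρ (u * u') m = dl ρ u m + dl ρ u' m := by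
  have h1 : dl ρ u (ρ u' m) = dl ρ u m := h.d_ap hu hu'.1 m
  rw [dl_apply, ap_mul, ap_eq ρ u, h1, ap_eq ρ u' m]
  linear_combination (norm := module) addself m

theorem pc (m : M) : Φ u' (dl ρ u m) = Φ u (dl ρ u' m) := h.pcomm u hu.1 hu.2 u' hu'.1 hu'.2 m

omit hu'

/-! ### the commutators `[u, b]` -/

/-- `z_b = [u, b]` -/
theorem z_mem {b : Γ} (hb : b ∈ L) : u * (b * u * b⁻¹) ∈ YY ρ L X := mul_mem hu (h.conj hu hb)

theorem d_z {b : Γ} (hb : b ∈ L) (m : M) : dl ρ (u * (b * u * b⁻¹)) m = dl ρ b (dl ρ u m) := by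
  rw [h.d_mul hu (h.conj hu hb), h.d_conj hu hb, dl_apply ρ b, add_comm]

omit hu in
theorem dq {b b' : Γ} (hb : b ∈ B) (hb' : b' ∈ B) (v : M) : dl ρ b' (dl ρ b v) = 0 :=
  dl_eq_zero.mpr (h.quad b hb b' hb' v)

omit hu in
theorem dbb {b b' : Γ} (hb : b ∈ B) (hb' : b' ∈ B) (v : M) : dl ρ (b * b') v = dl ρ b v + dl ρ b' v := by
  have h1 := h.dq hb' hb v
  rw [dl_apply, ap_mul, ap_eq ρ b' v, map_add, ap_eq ρ b v, ap_eq ρ b (dl ρ b' v), h1]
  linear_combination (norm := module) addself v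

/-- the homomorphism `b ↦ [u, b]` -/
theorem zmul {b b' : Γ} (hb : b ∈ B) (hb' : b' ∈ B) :
    u * (b * b' * u * (b * b')⁻¹) = u * (b * u * b⁻¹) * (u * (b' * u * b'⁻¹)) := by
  have hbL := h.BL hb
  have hbL' := h.BL hb'
  refine h.ext fun v => ?_
  rw [ap_eq, ap_eq ρ (u * (b * u * b⁻¹) * (u * (b' * u * b'⁻¹))), h.d_z hu (L.mul_mem hbL hbL'),
    h.d_mul (h.z_mem hu hbL) (h.z_mem hu hbL'), h.d_z hu hbL, h.d_z hu hbL', h.dbb hb hb']

/-- `[u, B]` -/
def ub (h : Fr ρ B L N X Φ) (u : Γ) (hu : u ∈ YY ρ L X) : B →* Γ where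
  toFun b := u * ((b : Γ) * u * (b : Γ)⁻¹)
  map_one' := by
    change u * (1 * u * 1⁻¹) = 1
    rw [inv_one, one_mul, mul_one, h.usq hu]
  map_mul' b b' := h.zmul hu b.2 b'.2

theorem z_mem_N {b : Γ} (hb : b ∈ B) : u * (b * u * b⁻¹) ∈ N := by
  have h1 := N.mul_mem (h.nN u hu.1 hu.2 b (h.BN hb)) (N.inv_mem (h.BN hb))
  have h2 : u * b * u⁻¹ * b⁻¹ = u * (b * u * b⁻¹) := by rw [h.uinv hu]; group
  rwa [h2] at h1

end Fr

/-! ### (U) -/

/-- `C_B(U)` -/
def cb (ρ : Γ →* Module.End (ZMod 2) M) (B : Subgroup Γ) (U : Submodule (ZMod 2) M) : Subgroup Γ where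
  carrier := {b | b ∈ B ∧ ∀ v ∈ U, ρ b v = v}
  one_mem' := ⟨B.one_mem, fun v _ => ap_one ρ v⟩
  mul_mem' := fun {a b} ha hb => ⟨B.mul_mem ha.1 hb.1, fun v hv => by rw [ap_mul, hb.2 v hv, ha.2 v hv]⟩
  inv_mem' := fun {a} ha => ⟨B.inv_mem ha.1, fun v hv => by
    conv_lhs => rw [← ha.2 v hv]
    exact inv_ap ρ a v⟩

namespace Fr

variable {ρ : Γ →* Module.End (ZMod 2) M} {B L N : Subgroup Γ} {X : Submodule (ZMod 2) M} {Φ : Γ → M → ZMod 2}
  [Finite Γ] [Finite M] (h : Fr ρ B L N X Φ)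
include h

/-- **(U)** -/
theorem U_le (U : Submodule (ZMod 2) M) :
    Nat.card (cb ρ B U) * Nat.card U ≤ Nat.card B * Nat.card (U ⊓ cv ρ B : Submodule (ZMod 2) M) ∧
      (Nat.card B * Nat.card (U ⊓ cv ρ B : Submodule (ZMod 2) M) ≤ Nat.card (cb ρ B U) * Nat.card U →
        (cb ρ B U = ⊥ ∧ U ⊔ cv ρ B = ⊤) ∨ cb ρ B U = B) := by
  set D := cb ρ B U with hD
  have hDB : D ≤ B := fun b hb => hb.1
  have h1 : U ⊔ cv ρ B ≤ cv ρ D := sup_le (fun v hv b hb => hb.2 v hv) (cv_anti hDB)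
  have h2 := card_sup_inf U (cv ρ B)
  have h3 : Nat.card (U ⊔ cv ρ B : Submodule (ZMod 2) M) ≤ Nat.card (cv ρ D) :=
    Nat.card_le_card_of_injective (Submodule.inclusion h1) (Submodule.inclusion_injective h1)
  have h4 := h.no D (hDB.trans h.BN) fun a ha => h.sq a (hDB ha)
  have h5 := h.ex
  have p1 : 0 < Nat.card (cv ρ B) := Nat.card_pos
  have p2 : 0 < Nat.card (U ⊓ cv ρ B : Submodule (ZMod 2) M) := Nat.card_pos
  have p3 : 0 < Nat.card D := Nat.card_pos
  set a := Nat.card (U ⊔ cv ρ B : Submodule (ZMod 2) M)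
  set i := Nat.card (U ⊓ cv ρ B : Submodule (ZMod 2) M)
  have h6 : Nat.card D * Nat.card U * Nat.card (cv ρ B) ≤ Nat.card B * i * Nat.card (cv ρ B) := by
    calc Nat.card D * Nat.card U * Nat.card (cv ρ B) = Nat.card D * (a * i) := by rw [h2]; ring
      _ ≤ Nat.card D * (Nat.card (cv ρ D) * i) := Nat.mul_le_mul_left _ (Nat.mul_le_mul_right _ h3)
      _ = Nat.card D * Nat.card (cv ρ D) * i := by ring
      _ ≤ Nat.card M * i := Nat.mul_le_mul_right _ h4
      _ = Nat.card B * i * Nat.card (cv ρ B) := by rw [← h5]; ring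
  refine ⟨Nat.le_of_mul_le_mul_right h6 p1, fun h7 => ?_⟩
  -- equality
  have h8 : Nat.card M * i ≤ Nat.card D * (a * i) := by
    calc Nat.card M * i = Nat.card B * i * Nat.card (cv ρ B) := by rw [← h5]; ring
      _ ≤ Nat.card D * Nat.card U * Nat.card (cv ρ B) := Nat.mul_le_mul_right _ h7
      _ = Nat.card D * (a * i) := by rw [h2]; ring
  have h9 : Nat.card M ≤ Nat.card D * a := by
    rw [← mul_assoc] at h8
    exact Nat.le_of_mul_le_mul_right h8 p2
  have h10 : Nat.card D * Nat.card (cv ρ D) ≤ Nat.card D * a := h4.trans h9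
  have h11 : Nat.card (cv ρ D) ≤ a := Nat.le_of_mul_le_mul_left h10 p3
  have h12 : Nat.card D * Nat.card (cv ρ D) = Nat.card M :=
    le_antisymm h4 (h9.trans (Nat.mul_le_mul_left _ h3))
  rcases h.atom D hDB h12 with h13 | h13
  · left
    refine ⟨h13, ?_⟩
    have h14 : (cv ρ D : Submodule (ZMod 2) M) = ⊤ := by
      rw [h13, eq_top_iff]
      intro v _ b hb
      rw [mem_bot.mp hb, ap_one]
    rw [h14] at h11 h1
    have h15 : Nat.card (⊤ : Submodule (ZMod 2) M) = Nat.card M :=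
      Nat.card_congr (Equiv.subtypeUnivEquiv fun _ => trivial)
    rw [h15] at h11
    have h16 : (U ⊔ cv ρ B : Submodule (ZMod 2) M).toAddSubgroup = ⊤ :=
      AddSubgroup.eq_top_of_le_card _ h11
    rw [eq_top_iff]
    intro v _
    have : v ∈ (U ⊔ cv ρ B : Submodule (ZMod 2) M).toAddSubgroup := by rw [h16]; trivial
    exact this
  · right; exact h13

/-- `u` is moved by `B` -/
def _root_.Cfsg.Agent.Omega.FOne.ThmA.Mv (ρ : Γ →* Module.End (ZMod 2) M) (B : Subgroup Γ) (u : Γ) : Prop :=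
  ∃ b ∈ B, ∃ m, dl ρ b (dl ρ u m) ≠ 0

variable {u : Γ} (hu : u ∈ YY ρ L X)
include hu

/-- **(2)** -/
theorem two (hm : Mv ρ B u) :
    (∀ b ∈ B, (∀ m, dl ρ b (dl ρ u m) = 0) → b = 1) ∧ ∀ v, ∃ m, ∃ w ∈ cv ρ B, v = dl ρ u m + w := by
  set U := LinearMap.range (dl ρ u) with hU
  -- `[u, B]`
  have hZ := h.no (h.ub u hu).range (by
    rintro _ ⟨b, rfl⟩
    exact h.z_mem_N hu b.2) (by
    rintro _ ⟨b, rfl⟩
    exact h.usq (h.z_mem hu (h.BL b.2)))
  have h1 : cv ρ (h.ub u hu).range = (cv ρ B).comap (dl ρ u) := by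
    ext m
    constructor
    · intro hm b hb
      have := hm _ ⟨⟨b, hb⟩, rfl⟩
      rw [← dl_eq_zero] at this
      change dl ρ (u * (b * u * b⁻¹)) m = 0 at this
      rw [h.d_z hu (h.BL hb)] at this
      exact dl_eq_zero.mp this
    · rintro hm _ ⟨b, rfl⟩
      rw [← dl_eq_zero]
      change dl ρ (u * ((b : Γ) * u * (b : Γ)⁻¹)) m = 0
      rw [h.d_z hu (h.BL b.2)]
      exact dl_eq_zero.mpr (hm b b.2)
  have h2 : Nat.card (h.ub u hu).range * Nat.card (cb ρ B U) = Nat.card B := by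
    have h3 : Nat.card (h.ub u hu).ker = Nat.card (cb ρ B U) := by
      refine Nat.card_congr
        { toFun := fun b => ⟨b.1, b.1.2, ?_⟩
          invFun := fun b => ⟨⟨b.1, b.2.1⟩, ?_⟩
          left_inv := fun b => rfl
          right_inv := fun b => rfl }
      · rintro _ ⟨m, rfl⟩
        rw [← dl_eq_zero, ← h.d_z hu (h.BL b.1.2)]
        have := b.2
        rw [MonoidHom.mem_ker] at this
        change u * ((b.1 : Γ) * u * (b.1 : Γ)⁻¹) = 1 at this
        rw [this, dl_eq_zero, ap_one]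
      · rw [MonoidHom.mem_ker]
        change u * ((b : Γ) * u * (b : Γ)⁻¹) = 1
        refine h.ext fun v => ?_
        rw [ap_one, ← dl_eq_zero, h.d_z hu (h.BL b.2.1), dl_eq_zero]
        exact b.2.2 _ ⟨v, rfl⟩
    rw [← h3, mul_comm, ← Subgroup.index_ker]
    exact Subgroup.card_mul_index _
  have h3 := card_comap (dl ρ u) (cv ρ B)
  rw [← hU, ← h1] at h3
  have h4 : Nat.card B * Nat.card (U ⊓ cv ρ B : Submodule (ZMod 2) M) ≤ Nat.card (cb ρ B U) * Nat.card U := by
    have p : 0 < Nat.card (cv ρ (h.ub u hu).range) := Nat.card_pos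
    have p2 : 0 < Nat.card M := Nat.card_pos
    refine Nat.le_of_mul_le_mul_left ?_ p2
    calc Nat.card M * (Nat.card B * Nat.card (U ⊓ cv ρ B : Submodule (ZMod 2) M))
        = Nat.card B * (Nat.card M * Nat.card (U ⊓ cv ρ B : Submodule (ZMod 2) M)) := by ring
      _ = Nat.card B * (Nat.card U * Nat.card (cv ρ (h.ub u hu).range)) := by rw [h3]
      _ = (Nat.card (h.ub u hu).range * Nat.card (cv ρ (h.ub u hu).range)) * Nat.card (cb ρ B U) * Nat.card U := by
          rw [← h2]; ring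
      _ ≤ Nat.card M * Nat.card (cb ρ B U) * Nat.card U :=
          Nat.mul_le_mul_right _ (Nat.mul_le_mul_right _ hZ)
      _ = Nat.card M * (Nat.card (cb ρ B U) * Nat.card U) := by ring
  rcases (h.U_le U).2 h4 with ⟨h5, h6⟩ | h5
  · refine ⟨fun b hb hbm => ?_, fun v => ?_⟩
    · have : b ∈ cb ρ B U := ⟨hb, by
        rintro _ ⟨m, rfl⟩
        exact dl_eq_zero.mp (hbm m)⟩
      rw [h5] at this
      exact mem_bot.mp this
    · have hv : v ∈ U ⊔ cv ρ B := by rw [h6]; trivial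
      obtain ⟨_, ⟨m, rfl⟩, w, hw, e⟩ := Submodule.mem_sup.mp hv
      exact ⟨m, w, hw, e.symm⟩
  · exfalso
    obtain ⟨b, hb, m, hbm⟩ := hm
    rw [← h5] at hb
    exact hbm (dl_eq_zero.mpr (hb.2 _ ⟨m, rfl⟩))

/-- if `Φ(u) = 0` then `u` commutes with `B` -/
theorem not_mv (h0 : ∀ v ∈ X, Φ u v = 0) : ¬ Mv ρ B u := by
  intro hm
  obtain ⟨-, h2⟩ := h.two hu hm
  obtain ⟨r, hrL, hrX, b, hb, v, hv, hne⟩ := h.mv
  have hr : r ∈ YY ρ L X := ⟨hrL, hrX⟩
  apply hne
  obtain ⟨m, w, hw, e⟩ := h2 v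
  have hbL := h.BL hb
  have hdX : dl ρ u m ∈ X := h.dX hu m
  have e1 : ρ b v + v = ρ b (dl ρ u m) + dl ρ u m := by
    rw [e, map_add, hw b hb]
    linear_combination (norm := module) addself w
  rw [e1, h.padd r hrL hrX _ (h.LX hbL hdX) _ hdX]
  have e2 : Φ r (ρ b (dl ρ u m)) = Φ (b⁻¹ * r * b⁻¹⁻¹) (dl ρ u m) := by
    rw [h.pconj hr (L.inv_mem hbL) hdX, inv_inv]
  rw [e2, h.pc hu (h.conj hr (L.inv_mem hbL)), h.pc hu hr, h0 _ (h.dX (h.conj hr (L.inv_mem hbL)) m),
    h0 _ (h.dX hr m), add_zero]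

omit hu [Finite Γ] [Finite M] in
/-- a vector fixed by all conjugates of `B` under `L` is fixed by `L₁` -/
theorem fix_L1 {v : M} (hv : ∀ l ∈ L, ∀ b ∈ B, ρ (l * b * l⁻¹) v = v) {g : Γ} (hg : g ∈ L1 B L) : ρ g v = v := by
  induction hg using closure_induction with
  | mem x hx =>
    obtain ⟨l, hl, b, hb, rfl⟩ := hx
    exact hv l hl b hb
  | one => exact ap_one ρ v
  | mul x y _ _ hx hy => rw [ap_mul, hy, hx]
  | inv x _ hx =>
    conv_lhs => rw [← hx]
    exact inv_ap ρ x v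

/-- an `L`-invariant set of elements that commute with `B` commutes with `L₁` -/
theorem cent_of (hn : ∀ l ∈ L, ¬ Mv ρ B (l * u * l⁻¹)) {g : Γ} (hg : g ∈ L1 B L) (m : M) :
    ρ g (dl ρ u m) = dl ρ u m := by
  refine h.fix_L1 (fun l hl b hb => ?_) hg
  have h1 := hn l⁻¹ (L.inv_mem hl)
  simp only [Mv, not_exists, not_and, not_not] at h1
  have h2 := h1 b hb m
  rw [h.d_conj hu (L.inv_mem hl), dl_eq_zero] at h2
  rw [ap_mul, ap_mul, h2, ap_inv]

omit hu in
/-- `[M, b] ≤ C_M(L₁)` implies `b = 1` -/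
theorem eq_one {b : Γ} (hb : b ∈ B) (hf : ∀ g ∈ L1 B L, ∀ m, ρ g (dl ρ b m) = dl ρ b m) : b = 1 := by
  refine h.fX b hb ?_
  let R : Subgroup Γ :=
    { carrier := {x | x ∈ L1 B L ∧ ∀ g ∈ L1 B L, ∀ m, ρ g (dl ρ x m) = dl ρ x m}
      one_mem' := ⟨one_mem _, fun g _ m => by
        have : dl ρ (1 : Γ) m = 0 := dl_eq_zero.mpr (ap_one ρ m)
        rw [this, map_zero]⟩
      mul_mem' := by
        rintro x y ⟨hx, hx1⟩ ⟨hy, hy1⟩
        have key : ∀ m, dl ρ (x * y) m = dl ρ x m + dl ρ y m := by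
          intro m
          have e1 := hy1 x hx m
          rw [dl_apply, ap_mul, ap_eq ρ y m, map_add, e1, ap_eq ρ x m]
          linear_combination (norm := module) addself m
        refine ⟨mul_mem hx hy, fun g hg m => ?_⟩
        rw [key, map_add, hx1 g hg, hy1 g hg]
      inv_mem' := by
        rintro x ⟨hx, hx1⟩
        have key : ∀ m, dl ρ x⁻¹ m = dl ρ x m := by
          intro m
          have e1 := hx1 x⁻¹ (inv_mem hx) m
          have e2 : ρ x⁻¹ (dl ρ x m) = dl ρ x⁻¹ m := by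
            rw [dl_apply, dl_apply, map_add, inv_ap, add_comm]
          rw [← e2, e1]
        refine ⟨inv_mem hx, fun g hg m => ?_⟩
        rw [key, hx1 g hg] }
  have hR1 : R ≤ L1 B L := fun x hx => hx.1
  have hR2 : ∀ g ∈ L1 B L, ∀ r ∈ R, g * r * g⁻¹ ∈ R := by
    rintro g hg r ⟨hr, hr1⟩
    refine ⟨mul_mem (mul_mem hg hr) (inv_mem hg), fun k hk m => ?_⟩
    have key : dl ρ (g * r * g⁻¹) m = ρ g (dl ρ r (ρ g⁻¹ m)) := by
      rw [dl_apply, dl_apply, ap_mul, ap_mul, map_add, ap_inv]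
    rw [key, hr1 g hg, hr1 k hk]
  have hR3 : IsPGroup 2 R := by
    rintro ⟨x, hx, hx1⟩
    refine ⟨1, Subtype.ext ?_⟩
    change x ^ (2 ^ 1) = 1
    rw [pow_one, pow_two]
    refine h.ext fun v => ?_
    have e1 := hx1 x hx v
    rw [ap_mul, ap_one, ap_eq ρ x v, map_add, e1, ap_eq ρ x v]
    linear_combination (norm := module) addself (dl ρ x v)
  exact h.rad R hR1 hR2 hR3 b ⟨B_le_L1 hb, hf⟩

/-- `[u, b]` is not centralised by `L₁` -/
theorem z_one (hm : Mv ρ B u) {b : Γ} (hb : b ∈ B)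
    (hf : ∀ g ∈ L1 B L, ∀ m, ρ g (dl ρ (u * (b * u * b⁻¹)) m) = dl ρ (u * (b * u * b⁻¹)) m) : b = 1 := by
  obtain ⟨-, h2⟩ := h.two hu hm
  refine h.eq_one hb fun g hg v => ?_
  obtain ⟨m, w, hw, rfl⟩ := h2 v
  have e : dl ρ b (dl ρ u m + w) = dl ρ (u * (b * u * b⁻¹)) m := by
    rw [h.d_z hu (h.BL hb), map_add, dl_eq_zero.mpr (hw b hb), add_zero]
  rw [e, hf g hg m]

/-- **(c')** : `Φ(u)` is not trivial on `[X, b]` -/
theorem sep (hm : Mv ρ B u) {b : Γ} (hb : b ∈ B) (hb1 : b ≠ 1) : ∃ v ∈ X, Φ u (dl ρ b v) ≠ 0 := by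
  by_contra hcon
  push Not at hcon
  apply hb1
  have hbL := h.BL hb
  have hz := h.z_mem hu hbL
  have hz0 : ∀ v ∈ X, Φ (u * (b * u * b⁻¹)) v = 0 := by
    intro v hv
    rw [h.pmul u hu.1 hu.2 _ (h.conj hu hbL).1 (h.conj hu hbL).2 v hv, h.pconj hu hbL hv, h.inv hb,
      ← h.padd u hu.1 hu.2 _ hv _ (h.LX hbL hv)]
    have := hcon v hv
    rwa [dl_apply, add_comm] at this
  refine h.z_one hu hm hb fun g hg m => h.cent_of hz (fun l hl => ?_) hg m
  refine h.not_mv (h.conj hz hl) fun v hv => ?_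
  rw [h.pconj hz hl hv]
  exact hz0 _ (h.LX (L.inv_mem hl) hv)

end Fr

end Cfsg.Agent.Omega.FOne.ThmA

end

section


/-!
# THEOREM A (helper297 #20655): the minimal `L`-submodule `Y₁` of `Y` moved by `B`
-/

set_option autoImplicit false
set_option linter.unusedSectionVars false

namespace Cfsg.Agent.Omega.FOne.ThmA

open Subgroup
open Cfsg.Agent.Omega.FOne.Tvw (z2 addself z2add eq_of_add_eq_zero')
open Cfsg.Agent.Omega.FOne.NOv.TrA (ap_mul ap_one inv_ap ap_inv)

universe u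

variable {Γ : Type*} {M : Type u} [Group Γ] [AddCommGroup M] [Module (ZMod 2) M]

/-- a minimal `L`-invariant subgroup of `Y` moved by `B` -/
structure Mn (ρ : Γ →* Module.End (ZMod 2) M) (B L : Subgroup Γ) (X : Submodule (ZMod 2) M) (Y1 : Subgroup Γ) :
    Prop where
  le : Y1 ≤ YY ρ L X
  inv : ∀ l ∈ L, ∀ u ∈ Y1, l * u * l⁻¹ ∈ Y1
  mv : ∃ u ∈ Y1, Mv ρ B u
  min : ∀ Y' ≤ Y1, (∀ l ∈ L, ∀ u ∈ Y', l * u * l⁻¹ ∈ Y') → (∃ u ∈ Y', Mv ρ B u) → Y' = Y1

/-- `u` is centralised by `L₁` -/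
def Ce (ρ : Γ →* Module.End (ZMod 2) M) (B L : Subgroup Γ) (u : Γ) : Prop :=
  ∀ g ∈ L1 B L, ∀ m, ρ g (dl ρ u m) = dl ρ u m

variable {ρ : Γ →* Module.End (ZMod 2) M} {B L N : Subgroup Γ} {X : Submodule (ZMod 2) M} {Φ : Γ → M → ZMod 2}

theorem Fr.exists_mn [Finite Γ] [Finite M] (h : Fr ρ B L N X Φ) : ∃ Y1, Mn ρ B L X Y1 := by
  have hne : {Y' : Subgroup Γ | Y' ≤ YY ρ L X ∧ (∀ l ∈ L, ∀ u ∈ Y', l * u * l⁻¹ ∈ Y') ∧
      ∃ u ∈ Y', Mv ρ B u}.Nonempty := by
    refine ⟨YY ρ L X, le_rfl, fun l hl u hu => h.conj hu hl, ?_⟩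
    obtain ⟨u, hu1, hu2, b, hb, v, hv, hne⟩ := h.mv
    have hu : u ∈ YY ρ L X := ⟨hu1, hu2⟩
    refine ⟨u, hu, ?_⟩
    by_contra hm
    simp only [Mv, not_exists, not_and, not_not] at hm
    have hbL := h.BL hb
    have h1 : u * (b * u * b⁻¹) = 1 := by
      refine h.ext fun m => ?_
      rw [ap_one, ← dl_eq_zero, h.d_z hu hbL]
      exact hm b hb m
    have h2 := h.pmul u hu.1 hu.2 _ (h.conj hu hbL).1 (h.conj hu hbL).2 v hv
    have h3 : Φ 1 v = 0 := by
      have := h.pmul 1 L.one_mem (fun v _ => ap_one ρ v) 1 L.one_mem (fun v _ => ap_one ρ v) v hv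
      rw [mul_one] at this
      rcases z2 (Φ 1 v) with a | a
      · exact a
      · rw [a] at this; exact absurd this (by decide)
    rw [h1, h3, h.pconj hu hbL hv, h.inv hb, ← h.padd u hu.1 hu.2 _ hv _ (h.LX hbL hv), add_comm] at h2
    exact hne h2.symm
  obtain ⟨Y1, hY1⟩ := (Set.toFinite {Y' : Subgroup Γ | Y' ≤ YY ρ L X ∧ (∀ l ∈ L, ∀ u ∈ Y', l * u * l⁻¹ ∈ Y') ∧
      ∃ u ∈ Y', Mv ρ B u}).exists_minimal hne
  obtain ⟨h1, h2, h3⟩ := hY1.prop
  exact ⟨Y1, h1, h2, h3, fun Y' hle hinv hmv =>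
    le_antisymm hle (hY1.le_of_le ⟨hle.trans h1, hinv, hmv⟩ hle)⟩

namespace Mn

variable [Finite Γ] [Finite M] (h : Fr ρ B L N X Φ) {Y1 : Subgroup Γ} (n : Mn ρ B L X Y1)
include h n

/-- proper `L`-invariant subgroups are centralised by `L₁` -/
theorem cent {Y' : Subgroup Γ} (hle : Y' ≤ Y1) (hinv : ∀ l ∈ L, ∀ u ∈ Y', l * u * l⁻¹ ∈ Y') (hne : Y' ≠ Y1)
    {u : Γ} (hu : u ∈ Y') : Ce ρ B L u := by
  intro g hg m
  refine h.cent_of (n.le (hle hu)) (fun l hl hm => hne ?_) hg m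
  exact n.min Y' hle hinv ⟨_, hinv l hl u hu, hm⟩

theorem z_mem {u b : Γ} (hu : u ∈ Y1) (hb : b ∈ L) : u * (b * u * b⁻¹) ∈ Y1 := mul_mem hu (n.inv b hb u hu)

/-- `Y₁ = [Y₁, L₁]` -/
theorem gen : _root_.Subgroup.closure {x | ∃ u ∈ Y1, ∃ g ∈ L1 B L, u * (g * u * g⁻¹) = x} = Y1 := by
  set Y2 := _root_.Subgroup.closure {x | ∃ u ∈ Y1, ∃ g ∈ L1 B L, u * (g * u * g⁻¹) = x} with hY2
  have hLB := L1_le h.BL
  have hle : Y2 ≤ Y1 := by
    rw [hY2, closure_le]
    rintro _ ⟨u, hu, g, hg, rfl⟩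
    exact n.z_mem h hu (hLB hg)
  by_contra hne
  have hinv : ∀ l ∈ L, ∀ u ∈ Y2, l * u * l⁻¹ ∈ Y2 := by
    intro l hl u hu
    induction hu using closure_induction with
    | mem x hx =>
      obtain ⟨u, hu, g, hg, rfl⟩ := hx
      refine subset_closure ⟨_, n.inv l hl u hu, _, L1_conj hl hg, ?_⟩
      group
    | one => rw [mul_one, mul_inv_cancel]; exact one_mem _
    | mul x y _ _ hx hy =>
      have : l * (x * y) * l⁻¹ = (l * x * l⁻¹) * (l * y * l⁻¹) := by group
      rw [this]; exact mul_mem hx hy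
    | inv x _ hx =>
      have : l * x⁻¹ * l⁻¹ = (l * x * l⁻¹)⁻¹ := by group
      rw [this]; exact inv_mem hx
  obtain ⟨u, hu, hm⟩ := n.mv
  obtain ⟨b, hb, m, hbm⟩ := hm
  have h1 : b = 1 := h.z_one (n.le hu) ⟨b, hb, m, hbm⟩ hb (n.cent h hle hinv hne
    (subset_closure ⟨u, hu, b, B_le_L1 hb, rfl⟩))
  apply hbm
  rw [h1]
  exact dl_eq_zero.mpr (ap_one ρ _)

/-- **(α)** `Φ(Y₁)` is trivial on the vectors fixed by `L₁` -/
theorem p_fix {r : Γ} (hr : r ∈ Y1) {c : M} (hc : c ∈ X) (hf : ∀ g ∈ L1 B L, ρ g c = c) : Φ r c = 0 := by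
  have hLB := L1_le h.BL
  have key : ∀ r ∈ _root_.Subgroup.closure {x | ∃ u ∈ Y1, ∃ g ∈ L1 B L, u * (g * u * g⁻¹) = x}, Φ r c = 0 := by
    intro r hr
    have hsub : _root_.Subgroup.closure {x | ∃ u ∈ Y1, ∃ g ∈ L1 B L, u * (g * u * g⁻¹) = x} ≤ Y1 := (n.gen h).le
    induction hr using closure_induction with
    | mem x hx =>
      obtain ⟨u, hu, g, hg, rfl⟩ := hx
      have hu' := n.le hu
      rw [h.pmul u hu'.1 hu'.2 _ (h.conj hu' (hLB hg)).1 (h.conj hu' (hLB hg)).2 c hc, h.pconj hu' (hLB hg) hc,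
        hf _ (inv_mem hg)]
      exact z2add _
    | one =>
      have := h.pmul 1 L.one_mem (fun v _ => ap_one ρ v) 1 L.one_mem (fun v _ => ap_one ρ v) c hc
      rw [mul_one] at this
      rcases z2 (Φ 1 c) with a | a
      · exact a
      · rw [a] at this; exact absurd this (by decide)
    | mul x y hx hy hx' hy' =>
      have h1 := n.le (hsub hx)
      have h2 := n.le (hsub hy)
      rw [h.pmul x h1.1 h1.2 y h2.1 h2.2 c hc, hx', hy', add_zero]
    | inv x hx hx' =>
      rw [h.uinv (n.le (hsub hx))]; exact hx'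
  rw [n.gen h] at key
  exact key r hr

/-- some form `f_m` is not zero -/
theorem exists_m : ∃ m, ∃ u ∈ Y1, ∃ r ∈ Y1, Φ r (dl ρ u m) ≠ 0 := by
  obtain ⟨u, hu, hm⟩ := n.mv
  have hm' := hm
  obtain ⟨b, hb, m1, hbm⟩ := hm
  have hb1 : b ≠ 1 := by
    rintro rfl
    exact hbm (dl_eq_zero.mpr (ap_one ρ _))
  obtain ⟨v, hv, hne⟩ := h.sep (n.le hu) hm' hb hb1
  obtain ⟨-, h2⟩ := h.two (n.le hu) hm'
  obtain ⟨m, w, hw, rfl⟩ := h2 v
  have e : dl ρ b (dl ρ u m + w) = dl ρ (u * (b * u * b⁻¹)) m := by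
    rw [h.d_z (n.le hu) (h.BL hb), map_add, dl_eq_zero.mpr (hw b hb), add_zero]
  rw [e] at hne
  exact ⟨m, _, n.z_mem h hu (h.BL hb), u, hu, hne⟩

/-- the radical of a non-zero form is centralised by `L₁` -/
theorem ce_of {m0 : M} (hm0 : ∃ u ∈ Y1, ∃ r ∈ Y1, Φ r (dl ρ u m0) ≠ 0) {u : Γ} (hu : u ∈ Y1)
    (h0 : ∀ r ∈ Y1, Φ r (dl ρ u m0) = 0) : Ce ρ B L u := by
  let C : Subgroup Γ :=
    { carrier := {u | u ∈ Y1 ∧ ∀ r ∈ Y1, Φ r (dl ρ u m0) = 0}
      one_mem' := ⟨Y1.one_mem, fun r hr => by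
        have : dl ρ (1 : Γ) m0 = 0 := dl_eq_zero.mpr (ap_one ρ m0)
        rw [this]
        exact h.pzero (n.le hr)⟩
      mul_mem' := by
        rintro x y ⟨hx, hx1⟩ ⟨hy, hy1⟩
        refine ⟨mul_mem hx hy, fun r hr => ?_⟩
        have hr' := n.le hr
        rw [h.d_mul (n.le hx) (n.le hy), h.padd r hr'.1 hr'.2 _ (h.dX (n.le hx) m0) _ (h.dX (n.le hy) m0), hx1 r hr,
          hy1 r hr, add_zero]
      inv_mem' := by
        rintro x ⟨hx, hx1⟩
        rw [Set.mem_setOf_eq, h.uinv (n.le hx)]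
        exact ⟨hx, hx1⟩ }
  refine n.cent h (Y' := C) (fun x hx => hx.1) ?_ ?_ ⟨hu, h0⟩
  · rintro l hl x ⟨hx, hx1⟩
    refine ⟨n.inv l hl x hx, fun r hr => ?_⟩
    rw [h.d_conj (n.le hx) hl, ← hx1 _ (n.inv l⁻¹ (L.inv_mem hl) r hr),
      h.pconj (n.le hr) (L.inv_mem hl) (h.dX (n.le hx) m0), inv_inv]
  · intro e
    obtain ⟨u, hu, r, hr, hne⟩ := hm0
    rw [← e] at hu
    exact hne (hu.2 r hr)

/-- `q(u) = 0` iff `u` is centralised by `L₁` iff `dl u m₀` is fixed by `L₁` -/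
theorem ce_iff {m0 : M} (hm0 : ∃ u ∈ Y1, ∃ r ∈ Y1, Φ r (dl ρ u m0) ≠ 0) {u : Γ} (hu : u ∈ Y1) :
    Ce ρ B L u ↔ ∀ g ∈ L1 B L, ρ g (dl ρ u m0) = dl ρ u m0 := by
  constructor
  · intro hc g hg
    exact hc g hg m0
  · intro hf
    exact n.ce_of h hm0 hu fun r hr => n.p_fix h hr (h.dX (n.le hu) m0) hf

/-- the form `f_m` is symmetric -/
theorem symm {u r : Γ} (hu : u ∈ Y1) (hr : r ∈ Y1) (m : M) : Φ r (dl ρ u m) = Φ u (dl ρ r m) :=
  h.pc (n.le hu) (n.le hr) m

theorem p_ce {u r : Γ} (hu : u ∈ Y1) (hr : r ∈ Y1) (hc : Ce ρ B L u) (m : M) : Φ r (dl ρ u m) = 0 :=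
  n.p_fix h hr (h.dX (n.le hu) m) fun g hg => hc g hg m

theorem p_ce' {u r : Γ} (hu : u ∈ Y1) (hr : r ∈ Y1) (hc : Ce ρ B L r) (m : M) : Φ r (dl ρ u m) = 0 := by
  rw [n.symm h hu hr]
  exact n.p_ce h hr hu hc m

end Mn

end Cfsg.Agent.Omega.FOne.ThmA

end

section


/-!
# THEOREM A (helper297 #20655): the quotient `V` of `Y₁`, its forms and its field
-/

set_option autoImplicit false
set_option linter.unusedSectionVars false

namespace Cfsg.Agent.Omega.FOne.ThmA

open Subgroup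
open Cfsg.Agent.Omega.FOne.Tvw (z2 addself z2add eq_of_add_eq_zero')
open Cfsg.Agent.Omega.FOne.NOv.TrA (ap_mul ap_one inv_ap ap_inv)

universe u

/-- a homomorphism on `Y₁` that is trivial on `ker q` gives a linear map on `V` -/
theorem exists_lift {Γ V A : Type*} [Group Γ] [AddCommGroup V] [Module (ZMod 2) V] [AddCommGroup A]
    [Module (ZMod 2) A] {Y1 : Subgroup Γ} {q : Γ → V} (qm : ∀ u ∈ Y1, ∀ u' ∈ Y1, q (u * u') = q u + q u')
    (qs : ∀ x, ∃ u ∈ Y1, q u = x) (F : Γ → A) (Fm : ∀ u ∈ Y1, ∀ u' ∈ Y1, F (u * u') = F u + F u')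
    (F0 : ∀ u ∈ Y1, q u = 0 → F u = 0) : ∃ f : V →ₗ[ZMod 2] A, ∀ u ∈ Y1, f (q u) = F u := by
  have wd : ∀ u ∈ Y1, ∀ u' ∈ Y1, q u = q u' → F u = F u' := by
    intro u hu u' hu' e
    have h1 : F (u * u') = 0 := F0 _ (mul_mem hu hu') (by rw [qm u hu u' hu', e]; exact addself _)
    rw [Fm u hu u' hu'] at h1
    exact eq_of_add_eq_zero' h1
  choose g hg hq using qs
  refine ⟨{ toFun := fun x => F (g x), map_add' := fun x y => ?_, map_smul' := fun c x => ?_ }, fun u hu => ?_⟩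
  · rw [← Fm _ (hg x) _ (hg y)]
    exact wd _ (hg _) _ (mul_mem (hg x) (hg y)) (by rw [hq, qm _ (hg x) _ (hg y), hq, hq])
  · rcases z2 c with rfl | rfl
    · rw [RingHom.id_apply, zero_smul, zero_smul]
      exact F0 _ (hg 0) (hq 0)
    · rw [RingHom.id_apply, one_smul, one_smul]
  · exact wd _ (hg _) _ hu (hq _)

variable {Γ : Type*} {M : Type u} [Group Γ] [AddCommGroup M] [Module (ZMod 2) M]

/-- the quotient `V` of `Y₁` -/
structure Qt (ρ : Γ →* Module.End (ZMod 2) M) (B L : Subgroup Γ) (X : Submodule (ZMod 2) M) (Φ : Γ → M → ZMod 2)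
    (Y1 : Subgroup Γ) (m0 : M) {V : Type u} [AddCommGroup V] [Module (ZMod 2) V] (q : Γ → V) : Prop where
  mn : Mn ρ B L X Y1
  ne : ∃ u ∈ Y1, ∃ r ∈ Y1, Φ r (dl ρ u m0) ≠ 0
  mul : ∀ u ∈ Y1, ∀ u' ∈ Y1, q (u * u') = q u + q u'
  sur : ∀ x, ∃ u ∈ Y1, q u = x
  zero : ∀ u ∈ Y1, q u = 0 ↔ Ce ρ B L u

variable {ρ : Γ →* Module.End (ZMod 2) M} {B L N : Subgroup Γ} {X : Submodule (ZMod 2) M} {Φ : Γ → M → ZMod 2}

/-- `S = [m₀, Y₁]` -/
def Sm [Finite Γ] [Finite M] (h : Fr ρ B L N X Φ) {Y1 : Subgroup Γ} (n : Mn ρ B L X Y1) (m0 : M) :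
    Submodule (ZMod 2) M where
  carrier := {v | ∃ u ∈ Y1, dl ρ u m0 = v}
  zero_mem' := ⟨1, Y1.one_mem, dl_eq_zero.mpr (ap_one ρ m0)⟩
  add_mem' := by
    rintro _ _ ⟨u, hu, rfl⟩ ⟨u', hu', rfl⟩
    exact ⟨u * u', mul_mem hu hu', h.d_mul (n.le hu) (n.le hu') m0⟩
  smul_mem' := by
    rintro c _ ⟨u, hu, rfl⟩
    rcases z2 c with rfl | rfl
    · exact ⟨1, Y1.one_mem, by rw [zero_smul]; exact dl_eq_zero.mpr (ap_one ρ m0)⟩
    · exact ⟨u, hu, by rw [one_smul]⟩

section

variable [Finite Γ] [Finite M] (h : Fr ρ B L N X Φ) {Y1 : Subgroup Γ} (n : Mn ρ B L X Y1) {m0 : M}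

theorem Sm_le : Sm h n m0 ≤ X := by
  rintro _ ⟨u, hu, rfl⟩
  exact h.dX (n.le hu) m0

theorem Sm_inv {l : Γ} (hl : l ∈ L) {v : M} (hv : v ∈ Sm h n m0) : ρ l v ∈ Sm h n m0 := by
  obtain ⟨u, hu, rfl⟩ := hv
  exact ⟨_, n.inv l hl u hu, h.d_conj (n.le hu) hl m0⟩

/-- **the quotient** -/
theorem exists_qt (hm0 : ∃ u ∈ Y1, ∃ r ∈ Y1, Φ r (dl ρ u m0) ≠ 0) :
    ∃ (V : Type u) (_ : AddCommGroup V) (_ : Module (ZMod 2) V) (_ : Finite V) (q : Γ → V)
      (p : Sm h n m0 →ₗ[ZMod 2] V), Qt ρ B L X Φ Y1 m0 q ∧ Function.Surjective p ∧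
      ∀ u (hu : u ∈ Y1), q u = p ⟨dl ρ u m0, u, hu, rfl⟩ := by
  classical
  let Z : Submodule (ZMod 2) (Sm h n m0) :=
    { carrier := {v | ∀ g ∈ L1 B L, ρ g v = v}
      zero_mem' := fun g _ => map_zero _
      add_mem' := fun {v w} hv hw g hg => by
        rw [Submodule.coe_add, map_add, hv g hg, hw g hg]
      smul_mem' := fun c v hv g hg => by
        rw [Submodule.coe_smul, map_smul, hv g hg] }
  let q : Γ → (Sm h n m0 ⧸ Z) := fun u => if hu : u ∈ Y1 then Z.mkQ ⟨dl ρ u m0, u, hu, rfl⟩ else 0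
  have hq : ∀ u (hu : u ∈ Y1), q u = Z.mkQ ⟨dl ρ u m0, u, hu, rfl⟩ := fun u hu => dif_pos hu
  refine ⟨Sm h n m0 ⧸ Z, inferInstance, inferInstance, Finite.of_surjective _ Z.mkQ_surjective, q, Z.mkQ, ?_,
    Z.mkQ_surjective, hq⟩
  refine ⟨n, hm0, fun u hu u' hu' => ?_, fun x => ?_, fun u hu => ?_⟩
  · rw [hq _ (mul_mem hu hu'), hq u hu, hq u' hu', ← map_add]
    congr 1
    exact Subtype.ext (h.d_mul (n.le hu) (n.le hu') m0)
  · obtain ⟨⟨v, u, hu, rfl⟩, rfl⟩ := Z.mkQ_surjective x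
    exact ⟨u, hu, hq u hu⟩
  · rw [hq u hu, Submodule.mkQ_apply, Submodule.Quotient.mk_eq_zero, n.ce_iff h hm0 hu]
    rfl

end

namespace Qt

variable [Finite Γ] [Finite M] (h : Fr ρ B L N X Φ) {Y1 : Subgroup Γ} {m0 : M} {V : Type u} [AddCommGroup V]
  [Module (ZMod 2) V] {q : Γ → V} (Q : Qt ρ B L X Φ Y1 m0 q)
include h Q

/-- the form `f_m` -/
theorem exists_form (m : M) : ∃ f : V →ₗ[ZMod 2] Module.Dual (ZMod 2) V,
    ∀ u ∈ Y1, ∀ r ∈ Y1, f (q u) (q r) = Φ r (dl ρ u m) := by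
  classical
  have n := Q.mn
  have h1 : ∀ u ∈ Y1, ∃ g : Module.Dual (ZMod 2) V, ∀ r ∈ Y1, g (q r) = Φ r (dl ρ u m) := by
    intro u hu
    refine exists_lift Q.mul Q.sur (fun r => Φ r (dl ρ u m)) (fun r hr r' hr' => ?_) fun r hr h0 => ?_
    · have a := n.le hr
      have b := n.le hr'
      exact h.pmul r a.1 a.2 r' b.1 b.2 _ (h.dX (n.le hu) m)
    · exact n.p_ce' h hu hr ((Q.zero r hr).mp h0) m
  choose! g hg using h1
  refine exists_lift Q.mul Q.sur g (fun u hu u' hu' => ?_) (fun u hu h0 => ?_) |>.imp fun f hf u hu r hr => ?_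
  · ext x
    obtain ⟨r, hr, rfl⟩ := Q.sur x
    have hr' := n.le hr
    rw [LinearMap.add_apply, hg _ (mul_mem hu hu') r hr, hg u hu r hr, hg u' hu' r hr,
      h.d_mul (n.le hu) (n.le hu'), h.padd r hr'.1 hr'.2 _ (h.dX (n.le hu) m) _ (h.dX (n.le hu') m)]
  · ext x
    obtain ⟨r, hr, rfl⟩ := Q.sur x
    rw [hg u hu r hr, LinearMap.zero_apply]
    exact n.p_ce h hu hr ((Q.zero u hu).mp h0) m
  · rw [hf u hu, hg u hu r hr]

omit [Finite Γ] [Finite M] in
theorem ce_conj {u l : Γ} (hu : u ∈ Y1) (hl : l ∈ L) (hc : Ce ρ B L u) : Ce ρ B L (l * u * l⁻¹) := by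
  intro g hg m
  have n := Q.mn
  have h1 : l⁻¹ * g * l ∈ L1 B L := by
    have := L1_conj (B := B) (L := L) (L.inv_mem hl) hg
    rwa [inv_inv] at this
  rw [h.d_conj (n.le hu) hl]
  have h2 := hc _ h1 m
  rw [ap_mul, ap_mul] at h2
  have h3 := congrArg (ρ l) h2
  rwa [ap_inv] at h3

theorem exists_s {l : Γ} (hl : l ∈ L) : ∃ s : V →ₗ[ZMod 2] V, ∀ u ∈ Y1, s (q u) = q (l * u * l⁻¹) := by
  have n := Q.mn
  refine exists_lift Q.mul Q.sur (fun u => q (l * u * l⁻¹)) (fun u hu u' hu' => ?_) fun u hu h0 => ?_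
  · have e : l * (u * u') * l⁻¹ = (l * u * l⁻¹) * (l * u' * l⁻¹) := by group
    rw [e, Q.mul _ (n.inv l hl u hu) _ (n.inv l hl u' hu')]
  · rw [Q.zero _ (n.inv l hl u hu)]
    exact Q.ce_conj h hu hl ((Q.zero u hu).mp h0)

omit h in
theorem q_one : q 1 = 0 := by
  have h1 := Q.mul 1 Y1.one_mem 1 Y1.one_mem
  rw [mul_one] at h1
  exact left_eq_add.mp h1

theorem q_inv {u : Γ} (hu : u ∈ Y1) : q u⁻¹ = q u := by rw [h.uinv (Q.mn.le hu)]

/-- an element moved by `B` is not in the kernel, nor are its commutators -/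
theorem q_z {u b : Γ} (hu : u ∈ Y1) (hm : Mv ρ B u) (hb : b ∈ B) (hz : q (u * (b * u * b⁻¹)) = 0) : b = 1 :=
  h.z_one (Q.mn.le hu) hm hb ((Q.zero _ (Q.mn.z_mem h hu (h.BL hb))).mp hz)

theorem exists_mv : ∃ u ∈ Y1, Mv ρ B u ∧ q u ≠ 0 := by
  obtain ⟨u, hu, hm⟩ := Q.mn.mv
  refine ⟨u, hu, hm, fun h0 => ?_⟩
  obtain ⟨b, hb, m, hbm⟩ := hm
  apply hbm
  rw [dl_eq_zero]
  exact (Q.zero u hu).mp h0 b (B_le_L1 hb) m

/-- irreducibility -/
theorem irr (W : AddSubgroup V) (hW : ∀ l ∈ L, ∀ u ∈ Y1, q u ∈ W → q (l * u * l⁻¹) ∈ W) : W = ⊥ ∨ W = ⊤ := by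
  have n := Q.mn
  let Y' : Subgroup Γ :=
    { carrier := {u | u ∈ Y1 ∧ q u ∈ W}
      one_mem' := ⟨Y1.one_mem, by rw [Q.q_one]; exact W.zero_mem⟩
      mul_mem' := fun {a b} ha hb => ⟨mul_mem ha.1 hb.1, by rw [Q.mul a ha.1 b hb.1]; exact W.add_mem ha.2 hb.2⟩
      inv_mem' := fun {a} ha => ⟨inv_mem ha.1, by rw [Q.q_inv h ha.1]; exact ha.2⟩ }
  by_cases hY : Y' = Y1
  · right
    rw [eq_top_iff]
    intro x _
    obtain ⟨u, hu, rfl⟩ := Q.sur x
    rw [← hY] at hu
    exact hu.2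
  · left
    rw [eq_bot_iff]
    intro x hx
    obtain ⟨u, hu, rfl⟩ := Q.sur x
    rw [AddSubgroup.mem_bot, Q.zero u hu]
    exact n.cent h (Y' := Y') (fun u hu => hu.1) (fun l hl u hu => ⟨n.inv l hl u hu.1, hW l hl u hu.1 hu.2⟩) hY ⟨hu, hx⟩

end Qt

/-- the field `K` of the irreducible `L`-module `V` -/
structure Fd (ρ : Γ →* Module.End (ZMod 2) M) (B L : Subgroup Γ) (X : Submodule (ZMod 2) M) (Φ : Γ → M → ZMod 2)
    (Y1 : Subgroup Γ) (m0 : M) {V : Type u} [AddCommGroup V] [Module (ZMod 2) V] (q : Γ → V) {K : Type u} [Field K]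
    [Module K V] (f : V →ₗ[ZMod 2] Module.Dual (ZMod 2) V) (s : Γ → V →ₗ[ZMod 2] V) (t : M →+ K) : Prop
    extends Qt ρ B L X Φ Y1 m0 q where
  fq : ∀ u ∈ Y1, ∀ r ∈ Y1, f (q u) (q r) = Φ r (dl ρ u m0)
  sl : ∀ l ∈ L, ∀ u ∈ Y1, s l (q u) = q (l * u * l⁻¹)
  sk : ∀ l ∈ L, ∀ (k : K) (x : V), s l (k • x) = k • s l x
  t0 : t m0 = 1
  tq : ∀ m, ∀ u ∈ Y1, ∀ r ∈ Y1, f (t m • q u) (q r) = Φ r (dl ρ u m)

theorem Qt.exists_fd [Finite Γ] [Finite M] (h : Fr ρ B L N X Φ) {Y1 : Subgroup Γ} {m0 : M} {V : Type u}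
    [AddCommGroup V] [Module (ZMod 2) V] [Finite V] {q : Γ → V} (Q : Qt ρ B L X Φ Y1 m0 q) :
    ∃ (K : Type u) (_ : Field K) (_ : Finite K) (_ : Module K V) (f : V →ₗ[ZMod 2] Module.Dual (ZMod 2) V)
      (s : Γ → V →ₗ[ZMod 2] V) (t : M →+ K), Fd ρ B L X Φ Y1 m0 q f s t := by
  classical
  have n := Q.mn
  obtain ⟨f, hf⟩ := Q.exists_form h m0
  have hs : ∀ l, ∃ s : V →ₗ[ZMod 2] V, l ∈ L → ∀ u ∈ Y1, s (q u) = q (l * u * l⁻¹) := by
    intro l
    by_cases hl : l ∈ L
    · obtain ⟨s, hs⟩ := Q.exists_s h hl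
      exact ⟨s, fun _ => hs⟩
    · exact ⟨0, fun h => absurd h hl⟩
  choose s hs using hs
  have hnt : Nontrivial V := by
    obtain ⟨u, hu, -, hq⟩ := Q.exists_mv h
    exact ⟨⟨q u, 0, hq⟩⟩
  obtain ⟨K, iK, iF, iM, c1, c2, -⟩ := NO1.Comp.exists_field (V := V)
    {g : AddMonoid.End V | ∃ l ∈ L, ∀ x, g x = s l x} (by
      intro W hW
      refine Q.irr h W fun l hl u hu hq => ?_
      rw [← hs l hl u hu]
      exact hW (s l).toAddMonoidHom ⟨l, hl, fun x => rfl⟩ _ hq)
  have c1' : ∀ l ∈ L, ∀ (k : K) (x : V), s l (k • x) = k • s l x := by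
    intro l hl k x
    exact c1 (s l).toAddMonoidHom ⟨l, hl, fun x => rfl⟩ k x
  -- the form is non-degenerate
  have finj : Function.Injective f := by
    rw [injective_iff_map_eq_zero]
    intro x hx
    obtain ⟨u, hu, rfl⟩ := Q.sur x
    rw [Q.zero u hu]
    refine n.ce_of h Q.ne hu fun r hr => ?_
    rw [← hf u hu r hr, hx]; rfl
  have fsur : Function.Surjective f :=
    (LinearMap.injective_iff_surjective_of_finrank_eq_finrank (by exact Subspace.dual_finrank_eq.symm)).mp finj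
  have hT : ∀ m, ∃ k : K, ∀ u ∈ Y1, ∀ r ∈ Y1, f (k • q u) (q r) = Φ r (dl ρ u m) := by
    intro m
    obtain ⟨g, hg⟩ := Q.exists_form h m
    choose T hT using fun x => fsur (g x)
    have Tadd : ∀ x y, T (x + y) = T x + T y := fun x y => finj (by rw [map_add, hT, hT, hT, map_add])
    obtain ⟨k, hk⟩ := c2 ⟨⟨T, finj (by rw [hT, map_zero, map_zero])⟩, Tadd⟩ (by
      rintro σ ⟨l, hl, hσ⟩ x
      change T (σ x) = σ (T x)
      rw [hσ, hσ]
      apply finj
      rw [hT]
      obtain ⟨u, hu, rfl⟩ := Q.sur x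
      obtain ⟨u', hu', e⟩ := Q.sur (T (q u))
      ext y
      obtain ⟨r, hr, rfl⟩ := Q.sur y
      have r1 := n.inv _ (L.inv_mem hl) r hr
      have hr2 : r = l * (l⁻¹ * r * l⁻¹⁻¹) * l⁻¹ := by group
      have e1 : g (q u) (q (l⁻¹ * r * l⁻¹⁻¹)) = f (T (q u)) (q (l⁻¹ * r * l⁻¹⁻¹)) := by rw [hT]
      rw [hg u hu _ r1, ← e, hf u' hu' _ r1] at e1
      rw [← e, hs l hl u hu, hs l hl u' hu', hg _ (n.inv l hl u hu) r hr, hf _ (n.inv l hl u' hu') r hr,
        h.d_conj (n.le hu) hl, h.d_conj (n.le hu') hl, hr2,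
        h.pinv _ (n.le r1).1 (n.le r1).2 l hl _ (h.dX (n.le hu) m),
        h.pinv _ (n.le r1).1 (n.le r1).2 l hl _ (h.dX (n.le hu') m0)]
      exact e1)
    have hk' : ∀ x, T x = k • x := hk
    refine ⟨k, fun u hu r hr => ?_⟩
    rw [← hg u hu r hr, ← hk', hT]
  choose t ht using hT
  have huniq : ∀ k k' : K, (∀ u ∈ Y1, ∀ r ∈ Y1, f (k • q u) (q r) = f (k' • q u) (q r)) → k = k' := by
    intro k k' e
    obtain ⟨u, hu, -, hq⟩ := Q.exists_mv h
    have h1 : k • q u = k' • q u := by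
      apply finj
      ext y
      obtain ⟨r, hr, rfl⟩ := Q.sur y
      exact e u hu r hr
    have h2 : (k - k') • q u = 0 := by rw [sub_smul, h1, sub_self]
    rcases smul_eq_zero.mp h2 with h3 | h3
    · exact sub_eq_zero.mp h3
    · exact absurd h3 hq
  refine ⟨K, iK, iF, iM, f, s, ⟨⟨t, ?_⟩, ?_⟩, ⟨Q, hf, hs, c1', ?_, ht⟩⟩
  · refine huniq _ _ fun u hu r hr => ?_
    rw [ht 0 u hu r hr, map_zero, zero_smul, map_zero, LinearMap.zero_apply]
    exact h.pzero (n.le hr)
  · intro m m'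
    refine huniq _ _ fun u hu r hr => ?_
    have hr' := n.le hr
    change f (t (m + m') • q u) (q r) = f ((t m + t m') • q u) (q r)
    rw [ht _ u hu r hr, add_smul, map_add f, LinearMap.add_apply, ht m u hu r hr, ht m' u hu r hr, map_add,
      h.padd r hr'.1 hr'.2 _ (h.dX (n.le hu) m) _ (h.dX (n.le hu) m')]
  · refine huniq _ _ fun u hu r hr => ?_
    change f (t m0 • q u) (q r) = f ((1 : K) • q u) (q r)
    rw [ht m0 u hu r hr, one_smul, hf u hu r hr]

end Cfsg.Agent.Omega.FOne.ThmA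

end

section


/-!
# THEOREM A (helper297 #20655): counting: `|K| = |B|`, `M = S + C_M(B)`, `B` is a full root group on `V`
-/

set_option autoImplicit false
set_option linter.unusedSectionVars false

namespace Cfsg.Agent.Omega.FOne.ThmA

open Subgroup
open Cfsg.Agent.Omega.FOne.Tvw (z2 addself z2add eq_of_add_eq_zero')
open Cfsg.Agent.Omega.FOne.NOv.TrA (ap_mul ap_one inv_ap ap_inv)

universe u

theorem card_dual {E : Type*} [AddCommGroup E] [Module (ZMod 2) E] [Finite E] :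
    Nat.card (Module.Dual (ZMod 2) E) = Nat.card E := by
  rw [Module.natCard_eq_pow_finrank (K := ZMod 2) (V := Module.Dual (ZMod 2) E),
    Module.natCard_eq_pow_finrank (K := ZMod 2) (V := E), Subspace.dual_finrank_eq]

theorem card_comap_sur {S V : Type*} [AddCommGroup S] [Module (ZMod 2) S] [Finite S] [AddCommGroup V]
    [Module (ZMod 2) V] [Finite V] (p : S →ₗ[ZMod 2] V) (ps : Function.Surjective p) (W : Submodule (ZMod 2) V) :
    Nat.card (W.comap p) = Nat.card W * Nat.card (LinearMap.ker p) := by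
  let g : W.comap p →ₗ[ZMod 2] V := p.comp (W.comap p).subtype
  have h2 := LinearMap.finrank_range_add_finrank_ker g
  have h3 : LinearMap.range g = W := by
    ext x
    constructor
    · rintro ⟨⟨v, hv⟩, rfl⟩
      exact hv
    · intro hx
      obtain ⟨v, rfl⟩ := ps x
      exact ⟨⟨v, hx⟩, rfl⟩
  have h4 : Module.finrank (ZMod 2) (LinearMap.ker g) = Module.finrank (ZMod 2) (LinearMap.ker p) := by
    refine LinearEquiv.finrank_eq (LinearEquiv.ofBijective
      ({ toFun := fun x => ⟨x.1.1, x.2⟩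
         map_add' := fun _ _ => rfl
         map_smul' := fun _ _ => rfl } : LinearMap.ker g →ₗ[ZMod 2] LinearMap.ker p) ⟨?_, ?_⟩)
    · intro a b hab
      have h5 := congrArg (fun t : LinearMap.ker p => (t : S)) hab
      exact Subtype.ext (Subtype.ext h5)
    · rintro ⟨v, hv⟩
      refine ⟨⟨⟨v, ?_⟩, hv⟩, rfl⟩
      rw [Submodule.mem_comap, LinearMap.mem_ker.mp hv]
      exact W.zero_mem
  rw [h3, h4] at h2
  rw [Module.natCard_eq_pow_finrank (K := ZMod 2) (V := W.comap p),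
    Module.natCard_eq_pow_finrank (K := ZMod 2) (V := W),
    Module.natCard_eq_pow_finrank (K := ZMod 2) (V := LinearMap.ker p), ← pow_add, h2]

theorem card_sur {S V : Type*} [AddCommGroup S] [Module (ZMod 2) S] [Finite S] [AddCommGroup V]
    [Module (ZMod 2) V] [Finite V] (p : S →ₗ[ZMod 2] V) (ps : Function.Surjective p) :
    Nat.card S = Nat.card V * Nat.card (LinearMap.ker p) := by
  have h1 := card_comap_sur p ps ⊤
  rwa [Submodule.comap_top, Nat.card_congr (Equiv.subtypeUnivEquiv (p := (· ∈ (⊤ : Submodule (ZMod 2) S)))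
    fun _ => trivial), Nat.card_congr (Equiv.subtypeUnivEquiv (p := (· ∈ (⊤ : Submodule (ZMod 2) V)))
    fun _ => trivial)] at h1

theorem card_lt {K V : Type*} [Field K] [Finite K] [AddCommGroup V] [Module K V] [Finite V] {W : Submodule K V}
    (hW : W ≠ ⊤) : Nat.card K * Nat.card W ≤ Nat.card V := by
  have h1 : Module.finrank K W < Module.finrank K V := Submodule.finrank_lt hW
  rw [Module.natCard_eq_pow_finrank (K := K) (V := W), Module.natCard_eq_pow_finrank (K := K) (V := V), ← pow_succ']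
  exact Nat.pow_le_pow_right Nat.card_pos h1

variable {Γ : Type*} {M : Type u} [Group Γ] [AddCommGroup M] [Module (ZMod 2) M]
variable {ρ : Γ →* Module.End (ZMod 2) M} {B L N : Subgroup Γ} {X : Submodule (ZMod 2) M} {Φ : Γ → M → ZMod 2}

namespace Fd

variable [Finite Γ] [Finite M] (h : Fr ρ B L N X Φ) {Y1 : Subgroup Γ} {m0 : M} {V : Type u} [AddCommGroup V]
  [Module (ZMod 2) V] [Finite V] {q : Γ → V} {K : Type u} [Field K] [Finite K] [Module K V]
  {f : V →ₗ[ZMod 2] Module.Dual (ZMod 2) V} {s : Γ → V →ₗ[ZMod 2] V} {t : M →+ K}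
  (D : Fd ρ B L X Φ Y1 m0 q f s t)
include h D

theorem fz {x : V} (hx : ∀ y, f x y = 0) : x = 0 := by
  obtain ⟨u, hu, rfl⟩ := D.sur x
  rw [D.zero u hu]
  exact D.mn.ce_of h D.ne hu fun r hr => by rw [← D.fq u hu r hr, hx]

theorem feq {x x' : V} (hx : ∀ y, f x y = f x' y) : x = x' := by
  rw [← sub_eq_zero]
  refine D.fz h fun y => ?_
  rw [map_sub, LinearMap.sub_apply, hx, sub_self]

theorem fsymm (x y : V) : f x y = f y x := by
  obtain ⟨u, hu, rfl⟩ := D.sur x
  obtain ⟨r, hr, rfl⟩ := D.sur y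
  rw [D.fq u hu r hr, D.fq r hr u hu, D.mn.symm h hu hr]

omit h in
theorem s_mul {l l' : Γ} (hl : l ∈ L) (hl' : l' ∈ L) (x : V) : s (l * l') x = s l (s l' x) := by
  obtain ⟨u, hu, rfl⟩ := D.sur x
  rw [D.sl _ (L.mul_mem hl hl') u hu, D.sl l' hl' u hu, D.sl l hl _ (D.mn.inv l' hl' u hu)]
  congr 1; group

omit h in
theorem s_one (x : V) : s 1 x = x := by
  obtain ⟨u, hu, rfl⟩ := D.sur x
  rw [D.sl _ L.one_mem u hu]
  congr 1; group

omit h in
theorem s_inv {l : Γ} (hl : l ∈ L) (x : V) : s l⁻¹ (s l x) = x := by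
  rw [← D.s_mul (L.inv_mem hl) hl, inv_mul_cancel, D.s_one]

omit h in
theorem s_inv' {l : Γ} (hl : l ∈ L) (x : V) : s l (s l⁻¹ x) = x := by
  rw [← D.s_mul hl (L.inv_mem hl), mul_inv_cancel, D.s_one]

theorem fs {l : Γ} (hl : l ∈ L) (x y : V) : f (s l x) (s l y) = f x y := by
  have n := D.mn
  obtain ⟨u, hu, rfl⟩ := D.sur x
  obtain ⟨r, hr, rfl⟩ := D.sur y
  rw [D.sl l hl u hu, D.sl l hl r hr, D.fq _ (n.inv l hl u hu) _ (n.inv l hl r hr), D.fq u hu r hr,
    h.d_conj (n.le hu) hl, h.pinv r (n.le hr).1 (n.le hr).2 l hl _ (h.dX (n.le hu) m0)]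

theorem fs' {l : Γ} (hl : l ∈ L) (x y : V) : f (s l x) y = f x (s l⁻¹ y) := by
  rw [← D.fs h (L.inv_mem hl) (s l x) y, D.s_inv hl]

theorem ftk (m : M) (x y : V) : f (t m • x) y = f x (t m • y) := by
  obtain ⟨u, hu, rfl⟩ := D.sur x
  obtain ⟨r, hr, rfl⟩ := D.sur y
  rw [D.tq m u hu r hr, D.fsymm h, D.tq m r hr u hu, D.mn.symm h hu hr]

/-- `s b x + x` for `x = q(u)` -/
theorem q_z {u b : Γ} (hu : u ∈ Y1) (hb : b ∈ L) : q (u * (b * u * b⁻¹)) = s b (q u) + q u := by
  rw [D.mul u hu _ (D.mn.inv b hb u hu), D.sl b hb u hu, add_comm]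

theorem sym_b {b : Γ} (hb : b ∈ B) (x y : V) : f (s b x + x) y = f x (s b y + y) := by
  rw [map_add, LinearMap.add_apply, map_add, D.fs' h (h.BL hb), h.inv hb]

theorem q_conj {u l : Γ} (hu : u ∈ Y1) (hl : l ∈ L) (hf : ρ l (dl ρ u m0) = dl ρ u m0) : s l (q u) = q u := by
  have n := D.mn
  refine D.feq h fun y => ?_
  obtain ⟨r, hr, rfl⟩ := D.sur y
  rw [D.sl l hl u hu, D.fq _ (n.inv l hl u hu) r hr, D.fq u hu r hr, h.d_conj (n.le hu) hl, hf]

theorem quadr {b b' : Γ} (hb : b ∈ B) (hb' : b' ∈ B) (x : V) : s b' (s b x + x) = s b x + x := by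
  obtain ⟨u, hu, rfl⟩ := D.sur x
  have n := D.mn
  rw [← D.q_z h hu (h.BL hb)]
  refine D.q_conj h (n.z_mem h hu (h.BL hb)) (h.BL hb') ?_
  rw [h.d_z (n.le hu) (h.BL hb)]
  exact dl_eq_zero.mp (h.dq hb hb' _)

/-- `B` is faithful on `V` -/
theorem faith {b : Γ} (hb : b ∈ B) (hf : ∀ x, s b x = x) : b = 1 := by
  obtain ⟨u, hu, hm, -⟩ := D.toQt.exists_mv h
  refine D.toQt.q_z h hu hm hb ?_
  rw [D.q_z h hu (h.BL hb), hf]
  exact addself _

/-- the decomposition -/
theorem dec {u0 : Γ} (hu0 : u0 ∈ Y1) (hm : Mv ρ B u0) (x : V) :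
    ∃ m, ∀ b ∈ B, s b x + x = t m • (s b (q u0) + q u0) := by
  have n := D.mn
  obtain ⟨r, hr, rfl⟩ := D.sur x
  obtain ⟨-, h2⟩ := h.two (n.le hu0) hm
  obtain ⟨m, w, hw, e⟩ := h2 (dl ρ r m0)
  refine ⟨m, fun b hb => ?_⟩
  have hbL := h.BL hb
  refine D.feq h fun y => ?_
  obtain ⟨r', hr', rfl⟩ := D.sur y
  rw [← D.q_z h hr hbL, ← D.q_z h hu0 hbL, D.fq _ (n.z_mem h hr hbL) r' hr',
    D.tq m _ (n.z_mem h hu0 hbL) r' hr', h.d_z (n.le hr) hbL, h.d_z (n.le hu0) hbL, e, map_add,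
    dl_eq_zero.mpr (hw b hb), add_zero]

/-- `K` has characteristic 2 -/
theorem char2 (k : K) : k + k = 0 := by
  obtain ⟨u, hu, -, hq⟩ := D.toQt.exists_mv h
  have h1 : (k + k) • q u = 0 := by rw [add_smul]; exact addself _
  rcases smul_eq_zero.mp h1 with h2 | h2
  · exact h2
  · exact absurd h2 hq

/-- the fixed points of `B` on `V` -/
def WB : Submodule K V where
  carrier := {x | ∀ b ∈ B, s b x = x}
  zero_mem' := fun b _ => map_zero _
  add_mem' := fun hx hy b hb => by rw [map_add, hx b hb, hy b hb]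
  smul_mem' := fun k x hx b hb => by rw [D.sk b (h.BL hb), hx b hb]

theorem mem_WB {x : V} : x ∈ D.WB h ↔ ∀ b ∈ B, s b x = x := Iff.rfl

theorem e0_notMem {u0 : Γ} (hu0 : u0 ∈ Y1) (hm : Mv ρ B u0) : q u0 ∉ D.WB h := by
  intro hW
  obtain ⟨b, hb, m, hbm⟩ := id hm
  have : b = 1 := by
    refine D.toQt.q_z h hu0 hm hb ?_
    rw [D.q_z h hu0 (h.BL hb), hW b hb]
    exact addself _
  apply hbm
  rw [this]
  exact dl_eq_zero.mpr (ap_one ρ _)

/-- **`|B| ≤ |t(M)|`** -/
theorem card_le_range : Nat.card B ≤ Nat.card t.range := by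
  classical
  have n := D.mn
  obtain ⟨u0, hu0, hm, -⟩ := D.toQt.exists_mv h
  let iK : Module (ZMod 2) K := AddCommGroup.zmodModule (fun k => by rw [two_nsmul]; exact D.char2 h k)
  let t' : M →ₗ[ZMod 2] K := t.toZModLinearMap 2
  have ht' : ∀ m, t' m = t m := fun m => rfl
  have hcard : Nat.card t.range = Nat.card (LinearMap.range t') := by
    refine Nat.card_congr (Equiv.subtypeEquivRight fun x => ?_)
    rw [AddMonoidHom.mem_range, LinearMap.mem_range]
    rfl
  have hsm : ∀ (c : ZMod 2) (k : K) (x : V), (c • k) • x = c • (k • x) := by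
    intro c k x
    rcases z2 c with rfl | rfl
    · rw [zero_smul, zero_smul, zero_smul]
    · rw [one_smul, one_smul]
  let κ : B → Module.Dual (ZMod 2) (LinearMap.range t') := fun b =>
    { toFun := fun τ => f ((τ : K) • q u0) (q (u0 * ((b : Γ) * u0 * (b : Γ)⁻¹)))
      map_add' := fun τ τ' => by
        rw [Submodule.coe_add, add_smul, map_add f, LinearMap.add_apply]
      map_smul' := fun c τ => by
        rw [Submodule.coe_smul, hsm, map_smul f, LinearMap.smul_apply, RingHom.id_apply] }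
  have hfE : Finite (Module.Dual (ZMod 2) (LinearMap.range t')) := DFunLike.finite _
  rw [hcard, ← card_dual (E := LinearMap.range t')]
  refine Nat.card_le_card_of_injective κ ?_
  intro b b' e
  -- `b b' = 1`
  have hbb : (b : Γ) * (b' : Γ) = 1 := by
    by_contra hne
    have hbb' : (b : Γ) * (b' : Γ) ∈ B := B.mul_mem b.2 b'.2
    obtain ⟨v, hv, hne'⟩ := h.sep (n.le hu0) hm hbb' hne
    obtain ⟨-, h2⟩ := h.two (n.le hu0) hm
    obtain ⟨m, w, hw, rfl⟩ := h2 v
    apply hne'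
    have hz := h.zmul (n.le hu0) b.2 b'.2
    have hz1 := n.z_mem h hu0 (h.BL b.2)
    have hz2 := n.z_mem h hu0 (h.BL b'.2)
    rw [map_add, dl_eq_zero.mpr (hw _ hbb'), add_zero, ← h.d_z (n.le hu0) (h.BL hbb'),
      h.pc (h.z_mem (n.le hu0) (h.BL hbb')) (n.le hu0), hz]
    have e1 := congrArg (fun g : Module.Dual (ZMod 2) (LinearMap.range t') => g ⟨t' m, m, rfl⟩) e
    change f (t m • q u0) (q _) = f (t m • q u0) (q _) at e1
    rw [D.tq m u0 hu0 _ hz1, D.tq m u0 hu0 _ hz2] at e1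
    have h3 := n.le hz1
    have h4 := n.le hz2
    rw [h.pmul _ h3.1 h3.2 _ h4.1 h4.2 _ (h.dX (n.le hu0) m), e1]
    exact z2add _
  have h1 : (b : Γ) = (b' : Γ)⁻¹ := eq_inv_of_mul_eq_one_left hbb
  rw [h.inv b'.2] at h1
  exact Subtype.ext h1

/-- the output of the counting -/
theorem count {p : Sm h D.mn m0 →ₗ[ZMod 2] V} (ps : Function.Surjective p)
    (pq : ∀ u (hu : u ∈ Y1), q u = p ⟨dl ρ u m0, u, hu, rfl⟩) :
    Function.Surjective t ∧ Nat.card K = Nat.card B ∧ Sm h D.mn m0 ⊔ cv ρ B = ⊤ ∧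
      ∀ v : Sm h D.mn m0, (∀ b ∈ B, s b (p v) = p v) → (v : M) ∈ cv ρ B := by
  classical
  obtain ⟨u0, hu0, hm, -⟩ := D.toQt.exists_mv h
  have hWB := D.e0_notMem h hu0 hm
  -- the fixed points of `B` on `S`
  let C : Submodule (ZMod 2) (Sm h D.mn m0) := (cv ρ B).comap (Sm h D.mn m0).subtype
  let W : Submodule (ZMod 2) V :=
    { carrier := {x | ∀ b ∈ B, s b x = x}
      zero_mem' := fun b _ => map_zero _
      add_mem' := fun hx hy b hb => by rw [map_add, hx b hb, hy b hb]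
      smul_mem' := fun c x hx b hb => by rw [map_smul, hx b hb] }
  have hcW : Nat.card W = Nat.card (D.WB h) := Nat.card_congr (Equiv.subtypeEquivRight fun x => Iff.rfl)
  have hCW : C ≤ W.comap p := by
    rintro ⟨_, u, hu, rfl⟩ hv b hb
    rw [← pq u hu]
    exact D.q_conj h hu (h.BL hb) (hv b hb)
  have c1 : Nat.card C = Nat.card (Sm h D.mn m0 ⊓ cv ρ B : Submodule (ZMod 2) M) := by
    refine Nat.card_congr
      { toFun := fun x => ⟨x.1.1, x.1.2, x.2⟩
        invFun := fun x => ⟨⟨x.1, x.2.1⟩, x.2.2⟩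
        left_inv := fun x => rfl
        right_inv := fun x => rfl }
  have c2 := card_comap_sur p ps W
  have c3 := card_sur p ps
  have c4 : Nat.card K * Nat.card W ≤ Nat.card V := by
    rw [hcW]
    refine card_lt fun e => hWB ?_
    rw [e]; trivial
  have c5 : Nat.card C ≤ Nat.card (W.comap p) :=
    Nat.card_le_card_of_injective (Submodule.inclusion hCW) (Submodule.inclusion_injective hCW)
  obtain ⟨c6, c7⟩ := h.U_le (Sm h D.mn m0)
  rw [← c1] at c6 c7
  have c8 := D.card_le_range h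
  have c9 : Nat.card t.range ≤ Nat.card K := Nat.card_le_card_of_injective _ Subtype.val_injective
  set nS := Nat.card (Sm h D.mn m0)
  set nk := Nat.card (LinearMap.ker p) with hnk
  set nD := Nat.card (cb ρ B (Sm h D.mn m0)) with hnD
  have pk : 0 < nk := Nat.card_pos
  have pW : 0 < Nat.card W := Nat.card_pos
  have pD : 0 < nD := Nat.card_pos
  have pS : 0 < nS := Nat.card_pos
  have pB : 0 < Nat.card B := Nat.card_pos
  have pC : 0 < Nat.card C := Nat.card_pos
  -- `|K| |W| |ker| ≤ |S| ≤ |B| |C| ≤ |B| |W| |ker|`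
  have a1 : Nat.card K * (Nat.card W * nk) ≤ nS := by
    rw [c3, ← mul_assoc]; exact Nat.mul_le_mul_right _ c4
  have a2 : nS ≤ nD * nS := Nat.le_mul_of_pos_left _ pD
  have a3 : Nat.card B * Nat.card C ≤ Nat.card B * (Nat.card W * nk) := by
    rw [← c2]; exact Nat.mul_le_mul_left _ c5
  have a4 : Nat.card K ≤ Nat.card B :=
    Nat.le_of_mul_le_mul_right ((a1.trans a2).trans (c6.trans a3)) (Nat.mul_pos pW pk)
  have a5 : Nat.card K = Nat.card B := le_antisymm a4 (c8.trans c9)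
  rw [← a5] at a3 c6 c7 c8
  have a6 : nS = Nat.card K * Nat.card C := le_antisymm (a2.trans c6) (a3.trans a1)
  have a7 : Nat.card K * (Nat.card W * nk) ≤ Nat.card K * Nat.card C := a1.trans a6.le
  have a8 : Nat.card (W.comap p) ≤ Nat.card C := by
    rw [c2]; exact Nat.le_of_mul_le_mul_left a7 Nat.card_pos
  have a9 : C.toAddSubgroup = (W.comap p).toAddSubgroup :=
    AddSubgroup.eq_of_le_of_card_ge hCW a8
  refine ⟨?_, a5, ?_, fun v hv => ?_⟩
  · rw [← AddMonoidHom.range_eq_top]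
    exact AddSubgroup.eq_top_of_le_card _ c8
  · rcases c7 (by rw [← a6]; exact a2) with ⟨-, h1⟩ | h1
    · exact h1
    · exfalso
      have h2 : nD = Nat.card K := by rw [hnD, h1, a5]
      have h3 : nD * nS ≤ nS := by rw [← a6] at c6; exact c6
      have h4 : nD ≤ 1 := by
        by_contra hlt
        push Not at hlt
        have : 2 * nS ≤ nD * nS := Nat.mul_le_mul_right _ hlt
        omega
      rw [h2] at h4
      have h5 : Nat.card K ≠ 1 := by
        have : Nontrivial K := inferInstance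
        exact Finite.one_lt_card.ne'
      have h6 : 0 < Nat.card K := Nat.card_pos
      omega
  · have h1 : v ∈ C.toAddSubgroup := by rw [a9]; exact hv
    exact h1

end Fd

end Cfsg.Agent.Omega.FOne.ThmA

end

section


/-!
# THEOREM A (helper297 #20655): `B` is a full root group of `K`-transvections on `V`
-/

set_option autoImplicit false
set_option linter.unusedSectionVars false

namespace Cfsg.Agent.Omega.FOne.ThmA

open Subgroup
open Cfsg.Agent.Omega.FOne.Tvw (z2 addself z2add eq_of_add_eq_zero')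
open Cfsg.Agent.Omega.FOne.NOv.TrA (ap_mul ap_one inv_ap ap_inv)

universe u

variable {Γ : Type*} {M : Type u} [Group Γ] [AddCommGroup M] [Module (ZMod 2) M]
variable {ρ : Γ →* Module.End (ZMod 2) M} {B L N : Subgroup Γ} {X : Submodule (ZMod 2) M} {Φ : Γ → M → ZMod 2}

/-- `B` acts on `V` as the group of all `x ↦ x + k φ(x) a` -/
structure Rt (B : Subgroup Γ) {V K : Type*} [AddCommGroup V] [Module (ZMod 2) V] [Field K] [Module K V]
    (s : Γ → V →ₗ[ZMod 2] V) (φ : V →ₗ[K] K) (a : V) : Prop where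
  fa : φ a = 0
  a0 : a ≠ 0
  e0 : ∃ e, φ e = 1
  ex : ∀ k : K, ∃ b ∈ B, ∀ x, s b x = x + (k * φ x) • a
  all : ∀ b ∈ B, ∃ k : K, ∀ x, s b x = x + (k * φ x) • a

namespace Fd

variable [Finite Γ] [Finite M] (h : Fr ρ B L N X Φ) {Y1 : Subgroup Γ} {m0 : M} {V : Type u} [AddCommGroup V]
  [Module (ZMod 2) V] [Finite V] {q : Γ → V} {K : Type u} [Field K] [Finite K] [Module K V]
  {f : V →ₗ[ZMod 2] Module.Dual (ZMod 2) V} {s : Γ → V →ₗ[ZMod 2] V} {t : M →+ K}
  (D : Fd ρ B L X Φ Y1 m0 q f s t)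
include h D

theorem exists_root (hs : Function.Surjective t) (hc : Nat.card K = Nat.card B) :
    ∃ (φ : V →ₗ[K] K) (a : V), Rt B s φ a ∧ (∀ k : K, ∀ x y, f (k • x) y = f x (k • y)) ∧
      ∀ x y, φ x = 0 → f x ((φ y) • a) = 0 := by
  classical
  have n := D.mn
  obtain ⟨u0, hu0, hm, -⟩ := D.toQt.exists_mv h
  have hWB := D.e0_notMem h hu0 hm
  set e0 := q u0 with he0
  have hk : ∀ k : K, ∀ x y, f (k • x) y = f x (k • y) := by
    intro k x y
    obtain ⟨m, rfl⟩ := hs k
    exact D.ftk h m x y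
  -- the functional
  obtain ⟨φ0, h01, h02⟩ := Submodule.exists_le_ker_of_notMem hWB
  let φ : V →ₗ[K] K := (φ0 e0)⁻¹ • φ0
  have φe : φ e0 = 1 := by
    change (φ0 e0)⁻¹ * φ0 e0 = 1
    exact inv_mul_cancel₀ h01
  have φW : ∀ x ∈ D.WB h, φ x = 0 := by
    intro x hx
    change (φ0 e0)⁻¹ * φ0 x = 0
    rw [LinearMap.mem_ker.mp (h02 hx), mul_zero]
  have hdec : ∀ x, ∀ b ∈ B, s b x + x = φ x • (s b e0 + e0) := by
    intro x
    obtain ⟨m, hm'⟩ := D.dec h hu0 hm x
    have h1 : x - t m • e0 ∈ D.WB h := by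
      intro b hb
      have h2 := hm' b hb
      rw [map_sub, D.sk b (h.BL hb)]
      rw [smul_add] at h2
      have h3 := addself x
      have h4 := addself (t m • e0)
      have h5 : s b x = x + t m • s b e0 + t m • e0 := by
        have := congrArg (fun z => z + x) h2
        have e1 : s b x + x + x = s b x := by rw [add_assoc, h3, add_zero]
        change s b x + x + x = t m • s b e0 + t m • e0 + x at this
        rw [e1] at this
        rw [this]; abel
      rw [h5]
      have e2 : x + t m • s b e0 + t m • e0 - t m • s b e0 = x - t m • e0 + (t m • e0 + t m • e0) := by abel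
      rw [e2, h4, add_zero]
    have h2 := φW _ h1
    rw [map_sub, map_smul, φe, smul_eq_mul, mul_one, sub_eq_zero] at h2
    rw [h2]; exact hm'
  have hW0 : ∀ x, φ x = 0 → x ∈ D.WB h := by
    intro x hx b hb
    have := hdec x b hb
    rw [hx, zero_smul] at this
    exact eq_of_add_eq_zero' this
  -- `b₀` and `a`
  obtain ⟨b0, hb0, -, -⟩ := id hm
  obtain ⟨b0, hb0, hb01⟩ : ∃ b0 ∈ B, b0 ≠ 1 := by
    obtain ⟨b, hb, m, hbm⟩ := hm
    refine ⟨b, hb, ?_⟩
    rintro rfl
    exact hbm (dl_eq_zero.mpr (ap_one ρ _))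
  set a := s b0 e0 + e0 with ha
  have a0 : a ≠ 0 := by
    intro e
    apply hb01
    refine D.faith h hb0 fun x => ?_
    have := hdec x b0 hb0
    rw [← ha, e, smul_zero] at this
    exact eq_of_add_eq_zero' this
  -- `w ⊥ [V, B]`
  have hperp : ∀ x, φ x = 0 → ∀ b ∈ B, ∀ y, f x (s b y + y) = 0 := by
    intro x hx b hb y
    rw [← D.sym_b h hb, (D.mem_WB h).mp (hW0 x hx) b hb, addself, map_zero]; rfl
  have hfix : ∀ b ∈ B, ∀ y, φ (s b y + y) = 0 := fun b hb y => φW _ fun b' hb' => D.quadr h hb hb' y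
  -- a vector `z = a_b + k a` orthogonal to `K e₀` is `0`
  have hz : ∀ b ∈ B, ∀ k : K, (∀ τ : K, f (τ • e0) (s b e0 + e0) = f (τ • e0) (k • a)) → s b e0 + e0 = k • a := by
    intro b hb k hτ
    refine D.feq h fun y => ?_
    rw [D.fsymm h, D.fsymm h (k • a)]
    have hy : y = (y - φ y • e0) + φ y • e0 := by abel
    have hy0 : φ (y - φ y • e0) = 0 := by rw [map_sub, map_smul, φe, smul_eq_mul, mul_one, sub_self]
    have e1 : f (y - φ y • e0) (s b e0 + e0) = 0 := hperp _ hy0 b hb e0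
    have e2 : f (y - φ y • e0) (k • a) = 0 := by
      rw [← hk, ha]
      exact hperp _ (by rw [map_smul, hy0, smul_zero]) b0 hb0 e0
    have e3 : ∀ z, f y z = f (y - φ y • e0) z + f (φ y • e0) z := by
      intro z
      conv_lhs => rw [hy]
      rw [map_add f, LinearMap.add_apply]
    rw [e3, e3 (k • a), e1, e2, hτ]
  -- the functionals
  have hch : ∀ k : K, k + k = 0 := D.char2 h
  let iK : Module (ZMod 2) K := AddCommGroup.zmodModule (fun k => by rw [two_nsmul]; exact hch k)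
  have hsm : ∀ (c : ZMod 2) (k : K) (x : V), (c • k) • x = c • (k • x) := by
    intro c k x
    rcases z2 c with rfl | rfl
    · rw [zero_smul, zero_smul, zero_smul]
    · rw [one_smul, one_smul]
  have hfK : Finite (Module.Dual (ZMod 2) K) := DFunLike.finite _
  let F : V → Module.Dual (ZMod 2) K := fun x =>
    { toFun := fun τ => f (τ • e0) x
      map_add' := fun τ τ' => by rw [add_smul, map_add f, LinearMap.add_apply]
      map_smul' := fun c τ => by rw [hsm, map_smul f, LinearMap.smul_apply, RingHom.id_apply] }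
  have hF : ∀ x τ, F x τ = f (τ • e0) x := fun _ _ => rfl
  let κ : B → Module.Dual (ZMod 2) K := fun b => F (s b e0 + e0)
  have hκ : Function.Injective κ := by
    intro b b' e
    have h1 : s b e0 + e0 = s b' e0 + e0 := by
      have e1 : ∀ τ : K, f (τ • e0) (s b e0 + e0 + (s b' e0 + e0)) = 0 := by
        intro τ
        have := congrArg (fun g : Module.Dual (ZMod 2) K => g τ) e
        change f (τ • e0) (s b e0 + e0) = f (τ • e0) (s b' e0 + e0) at this
        rw [map_add, this]; exact z2add _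
      have e2 : s b e0 + e0 + (s b' e0 + e0) = 0 := by
        refine D.fz h fun y => ?_
        rw [D.fsymm h]
        have hy : y = (y - φ y • e0) + φ y • e0 := by abel
        have hy0 : φ (y - φ y • e0) = 0 := by rw [map_sub, map_smul, φe, smul_eq_mul, mul_one, sub_self]
        have e3 : ∀ z, f y z = f (y - φ y • e0) z + f (φ y • e0) z := by
          intro z
          conv_lhs => rw [hy]
          rw [map_add f, LinearMap.add_apply]
        rw [e3, e1, add_zero, map_add, hperp _ hy0 b b.2 e0, hperp _ hy0 b' b'.2 e0, add_zero]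
      exact eq_of_add_eq_zero' e2
    have h2 : (b : Γ) * (b' : Γ) = 1 := by
      refine D.faith h (B.mul_mem b.2 b'.2) fun x => ?_
      have e3 : s b' x = x + φ x • (s b' e0 + e0) := by
        have := hdec x b' b'.2
        rw [← this]; rw [add_comm (s b' x), ← add_assoc, addself, zero_add]
      have e4 : s b x = x + φ x • (s b e0 + e0) := by
        have := hdec x b b.2
        rw [← this]; rw [add_comm (s b x), ← add_assoc, addself, zero_add]
      have e5 : s b (s b' e0 + e0) = s b' e0 + e0 := by rw [← h1]; exact D.quadr h b.2 b.2 e0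
      rw [D.s_mul (h.BL b.2) (h.BL b'.2), e3, map_add, D.sk b (h.BL b.2), e5, e4, h1, add_assoc, addself, add_zero]
    have h3 : (b : Γ) = (b' : Γ)⁻¹ := eq_inv_of_mul_eq_one_left h2
    rw [h.inv b'.2] at h3
    exact Subtype.ext h3
  have hκs : Function.Surjective κ := by
    have : Nat.card (Module.Dual (ZMod 2) K) ≤ Nat.card B := by rw [card_dual, hc]
    exact (hκ.bijective_of_nat_card_le this).2
  have hex : ∀ k : K, ∃ b ∈ B, s b e0 + e0 = k • a := by
    intro k
    obtain ⟨b, hb⟩ := hκs (F (k • a))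
    refine ⟨b, b.2, hz b b.2 k fun τ => ?_⟩
    exact congrArg (fun g : Module.Dual (ZMod 2) K => g τ) hb
  have hact : ∀ b ∈ B, ∀ k : K, s b e0 + e0 = k • a → ∀ x, s b x = x + (k * φ x) • a := by
    intro b hb k hk' x
    have := hdec x b hb
    rw [hk', smul_smul, mul_comm] at this
    rw [← this, add_comm (s b x), ← add_assoc, addself, zero_add]
  refine ⟨φ, a, ⟨hfix b0 hb0 e0, a0, ⟨e0, φe⟩, fun k => ?_, ?_⟩, hk, fun x y hx => ?_⟩
  · obtain ⟨b, hb, hb'⟩ := hex k
    exact ⟨b, hb, hact b hb k hb'⟩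
  · choose β hβ hβ' using hex
    let g : K → B := fun k => ⟨β k, hβ k⟩
    have hg : Function.Injective g := by
      intro k k' e
      have e1 : β k = β k' := congrArg Subtype.val e
      have e2 : k • a = k' • a := by rw [← hβ' k, e1, hβ' k']
      have e3 : (k - k') • a = 0 := by rw [sub_smul, e2, sub_self]
      rcases smul_eq_zero.mp e3 with e4 | e4
      · exact sub_eq_zero.mp e4
      · exact absurd e4 a0
    have hgs : Function.Surjective g := (hg.bijective_of_nat_card_le hc.ge).2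
    intro b hb
    obtain ⟨k, hk'⟩ := hgs ⟨b, hb⟩
    have e1 : β k = b := congrArg Subtype.val hk'
    refine ⟨k, hact b hb k ?_⟩
    rw [← e1]; exact hβ' k
  · rw [← hk, ha]
    exact hperp _ (by rw [map_smul, hx, smul_zero]) b0 hb0 e0

/-- a conjugate in general position -/
theorem exists_opp {φ : V →ₗ[K] K} {a : V} (R : Rt B s φ a) (hk : ∀ k : K, ∀ x y, f (k • x) y = f x (k • y))
    (hp : ∀ x y, φ x = 0 → f x ((φ y) • a) = 0) : ∃ g ∈ L, φ (s g a) ≠ 0 ∧ φ (s g⁻¹ a) ≠ 0 := by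
  obtain ⟨e, he⟩ := R.e0
  have hp' : ∀ x, φ x = 0 → ∀ k : K, f x (k • a) = 0 := by
    intro x hx k
    have := hp x (k • e) hx
    have e1 : φ (k • e) = k := by rw [map_smul, he, smul_eq_mul, mul_one]
    rwa [e1] at this
  obtain ⟨g, hg, hga⟩ : ∃ g ∈ L, φ (s g a) ≠ 0 := by
    by_contra hcon
    push Not at hcon
    let W : AddSubgroup V :=
      { carrier := {x | ∀ l ∈ L, φ (s l x) = 0}
        zero_mem' := fun l _ => by rw [map_zero, map_zero]
        add_mem' := fun hx hy l hl => by rw [map_add, map_add, hx l hl, hy l hl, add_zero]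
        neg_mem' := fun hx l hl => by rw [map_neg, map_neg, hx l hl, neg_zero] }
    rcases D.toQt.irr h W (fun l hl u hu hq l' hl' => by
      rw [← D.sl l hl u hu, ← D.s_mul hl' hl]
      exact hq _ (L.mul_mem hl' hl)) with h1 | h1
    · have : a ∈ W := hcon
      rw [h1, AddSubgroup.mem_bot] at this
      exact R.a0 this
    · have h2 : e ∈ W := by rw [h1]; trivial
      have h3 := h2 1 L.one_mem
      rw [D.s_one, he] at h3
      exact one_ne_zero h3
  refine ⟨g, hg, hga, fun h0 => R.a0 ?_⟩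
  -- `f (k a) (s g a) = 0` for all `k`
  have h1 : ∀ k : K, f (k • a) (s g a) = 0 := by
    intro k
    rw [D.fsymm h, D.fs' h hg, D.sk _ (L.inv_mem hg), D.fsymm h]
    have := hp' (k • s g⁻¹ a) (by rw [map_smul, h0, smul_zero]) 1
    rwa [one_smul] at this
  -- `s g a = w + φ(s g a) e`
  set c := φ (s g a) with hc
  have hw : φ (s g a - c • e) = 0 := by rw [map_sub, map_smul, he, smul_eq_mul, mul_one, hc, sub_self]
  have h2 : ∀ k : K, f (k • a) (c • e) = 0 := by
    intro k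
    have e1 := h1 k
    have e2 : s g a = (s g a - c • e) + c • e := by abel
    rw [e2, map_add, D.fsymm h, hp' _ hw k, zero_add] at e1
    exact e1
  refine D.fz h fun y => ?_
  have e3 : y = (y - φ y • e) + φ y • e := by abel
  have e4 : φ (y - φ y • e) = 0 := by rw [map_sub, map_smul, he, smul_eq_mul, mul_one, sub_self]
  have e5 : f a (y - φ y • e) = 0 := by
    rw [D.fsymm h]
    have := hp' _ e4 1
    rwa [one_smul] at this
  have e6 : f a (φ y • e) = 0 := by
    have := h2 (φ y * c⁻¹)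
    rw [hk, smul_smul, mul_assoc, inv_mul_cancel₀ hga, mul_one] at this
    exact this
  rw [e3, map_add, e5, e6, add_zero]

end Fd

end Cfsg.Agent.Omega.FOne.ThmA

end

section


/-!
# THEOREM A (helper297 #20655): `⟨B, B^g⟩ = SL₂(K)` and the coordinates `e : M → K²`
-/

set_option autoImplicit false
set_option linter.unusedSectionVars false

namespace Cfsg.Agent.Omega.FOne.ThmA

open Subgroup
open Cfsg.Agent.Lib.SL2Mat
open Cfsg.Agent.Omega.NatPair (ext2 ap_zero' ap_one')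
open Cfsg.Agent.Omega.FOne.Tvw (z2 addself z2add eq_of_add_eq_zero')
open Cfsg.Agent.Omega.FOne.NOv.TrA (ap_mul ap_one inv_ap ap_inv)

universe u

/-- extension of a homomorphism from `S` to `M = S + C` by zero on `C` -/
theorem exists_ext {M A : Type*} [AddCommGroup M] [Module (ZMod 2) M] [AddCommGroup A] {S C : Submodule (ZMod 2) M}
    (hSC : S ⊔ C = ⊤) (F : S →+ A) (h0 : ∀ v : S, (v : M) ∈ C → F v = 0) :
    ∃ G : M →+ A, (∀ v : S, G v = F v) ∧ ∀ w ∈ C, G w = 0 := by
  have hd : ∀ m : M, ∃ v : S, m - (v : M) ∈ C := by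
    intro m
    have hm : m ∈ S ⊔ C := by rw [hSC]; trivial
    obtain ⟨v, hv, w, hw, rfl⟩ := Submodule.mem_sup.mp hm
    exact ⟨⟨v, hv⟩, by rw [add_sub_cancel_left]; exact hw⟩
  choose v hv using hd
  have wd : ∀ (m : M) (v' : S), m - (v' : M) ∈ C → F (v m) = F v' := by
    intro m v' hv'
    have h1 : F (v m - v') = 0 := h0 _ (by
      have := C.sub_mem hv' (hv m)
      rwa [sub_sub_sub_cancel_left] at this)
    rwa [map_sub, sub_eq_zero] at h1
  refine ⟨AddMonoidHom.mk' (fun m => F (v m)) fun a b => ?_, fun x => ?_, fun w hw => ?_⟩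
  · rw [← map_add]
    refine wd _ _ ?_
    have := C.add_mem (hv a) (hv b)
    rw [Submodule.coe_add]
    convert this using 1
    abel
  · exact wd _ x (by rw [sub_self]; exact C.zero_mem)
  · have := wd w 0 (by rw [Submodule.coe_zero, sub_zero]; exact hw)
    rwa [map_zero] at this

variable {Γ : Type*} {M : Type u} [Group Γ] [AddCommGroup M] [Module (ZMod 2) M]
variable {ρ : Γ →* Module.End (ZMod 2) M} {B L N : Subgroup Γ} {X : Submodule (ZMod 2) M} {Φ : Γ → M → ZMod 2}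

namespace Fd

variable [Finite Γ] [Finite M] (h : Fr ρ B L N X Φ) {Y1 : Subgroup Γ} {m0 : M} {V : Type u} [AddCommGroup V]
  [Module (ZMod 2) V] [Finite V] {q : Γ → V} {K : Type u} [Field K] [Finite K] [Module K V]
  {f : V →ₗ[ZMod 2] Module.Dual (ZMod 2) V} {s : Γ → V →ₗ[ZMod 2] V} {t : M →+ K}
  (D : Fd ρ B L X Φ Y1 m0 q f s t) {p : Sm h D.mn m0 →ₗ[ZMod 2] V}
  (pq : ∀ u (hu : u ∈ Y1), q u = p ⟨dl ρ u m0, u, hu, rfl⟩)
include h D

include pq in
theorem p_s {l : Γ} (hl : l ∈ L) (v : Sm h D.mn m0) : p ⟨ρ l v, Sm_inv h D.mn hl v.2⟩ = s l (p v) := by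
  obtain ⟨_, u, hu, rfl⟩ := v
  rw [← pq u hu, D.sl l hl u hu, pq _ (D.mn.inv l hl u hu)]
  congr 1
  exact Subtype.ext (h.d_conj (D.mn.le hu) hl m0).symm

include pq in
theorem p_d {l : Γ} (hl : l ∈ L) (v : Sm h D.mn m0) :
    ∃ hm : ρ l v + (v : M) ∈ Sm h D.mn m0, p ⟨ρ l v + v, hm⟩ = s l (p v) + p v := by
  refine ⟨(Sm h D.mn m0).add_mem (Sm_inv h D.mn hl v.2) v.2, ?_⟩
  rw [← D.p_s h pq hl, ← map_add]
  rfl

include pq in
theorem p_zero {v : Sm h D.mn m0} (hv : p v = 0) {g : Γ} (hg : g ∈ L1 B L) : ρ g v = v := by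
  obtain ⟨_, u, hu, rfl⟩ := v
  rw [← pq u hu, D.zero u hu] at hv
  exact hv g hg m0

variable (hS : Sm h D.mn m0 ⊔ cv ρ B = ⊤)

include hS in
/-- `[M, L₁] ≤ S` -/
theorem dS {g : Γ} (hg : g ∈ L1 B L) (m : M) : ρ g m + m ∈ Sm h D.mn m0 := by
  induction hg using closure_induction generalizing m with
  | mem x hx =>
    obtain ⟨l, hl, b, hb, rfl⟩ := hx
    have hm : ρ l⁻¹ m ∈ Sm h D.mn m0 ⊔ cv ρ B := by rw [hS]; trivial
    obtain ⟨v, hv, w, hw, e⟩ := Submodule.mem_sup.mp hm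
    have e1 : ρ (l * b * l⁻¹) m + m = ρ l (ρ b v + v) := by
      have e2 : m = ρ l (v + w) := by rw [e, ap_inv]
      rw [ap_mul, ap_mul, ← e, map_add, hw b hb, map_add, map_add]
      conv_lhs => rw [e2, map_add]
      linear_combination (norm := module) addself (ρ l w)
    rw [e1]
    exact Sm_inv h D.mn hl ((Sm h D.mn m0).add_mem (Sm_inv h D.mn (h.BL hb) hv) hv)
  | one => rw [ap_one, addself]; exact Submodule.zero_mem _
  | mul x y _ _ hx hy =>
    have e1 : ρ (x * y) m + m = (ρ x (ρ y m) + ρ y m) + (ρ y m + m) := by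
      rw [ap_mul]
      linear_combination (norm := module) (-1 : ZMod 2) • addself (ρ y m)
    rw [e1]
    exact Submodule.add_mem _ (hx _) (hy _)
  | inv x _ hx =>
    have h1 := hx (ρ x⁻¹ m)
    rwa [ap_inv, add_comm] at h1

include pq hS in
/-- an element of `L₁` trivial on `V` is trivial on `S` -/
theorem triv_S {r : Γ} (hr : r ∈ L1 B L) (hV : ∀ x, s r x = x) {v : M} (hv : v ∈ Sm h D.mn m0) : ρ r v = v := by
  have hLB := L1_le h.BL
  let R : Subgroup Γ :=
    { carrier := {x | x ∈ L1 B L ∧ ∀ y, s x y = y}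
      one_mem' := ⟨one_mem _, fun y => D.s_one y⟩
      mul_mem' := by
        rintro x y ⟨hx, hx1⟩ ⟨hy, hy1⟩
        exact ⟨mul_mem hx hy, fun z => by rw [D.s_mul (hLB hx) (hLB hy), hy1, hx1]⟩
      inv_mem' := by
        rintro x ⟨hx, hx1⟩
        refine ⟨inv_mem hx, fun z => ?_⟩
        conv_lhs => rw [← hx1 z]
        exact D.s_inv (hLB hx) z }
  refine h.rad R (fun x hx => hx.1) ?_ ?_ r ⟨hr, hV⟩ v (Sm_le h D.mn hv)
  · rintro g hg x ⟨hx, hx1⟩
    refine ⟨mul_mem (mul_mem hg hx) (inv_mem hg), fun z => ?_⟩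
    rw [D.s_mul (L.mul_mem (hLB hg) (hLB hx)) (L.inv_mem (hLB hg)), D.s_mul (hLB hg) (hLB hx), hx1,
      D.s_inv' (hLB hg)]
  · rintro ⟨x, hx, hx1⟩
    refine ⟨2, Subtype.ext ?_⟩
    change x ^ (2 ^ 2) = 1
    refine h.ext fun m => ?_
    -- `x² m = m + z`, `z` fixed
    have key : ∀ m, ∃ z, ρ x z = z ∧ ρ x (ρ x m) = m + z := by
      intro m
      have h1 := D.dS h hS hx m
      obtain ⟨h2, h3⟩ := D.p_d h pq (hLB hx) ⟨_, h1⟩
      rw [hx1, addself] at h3
      have h4 := D.p_zero h pq h3 hx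
      refine ⟨_, h4, ?_⟩
      change ρ x (ρ x m) = m + (ρ x (ρ x m + m) + (ρ x m + m))
      rw [map_add]
      linear_combination (norm := module) (-1 : ZMod 2) • addself (ρ x m) - addself m
    have e1 : x ^ (2 ^ 2) = x * (x * (x * x)) := by
      rw [show (2 : ℕ) ^ 2 = 4 from rfl]
      simp only [pow_succ, pow_zero, one_mul, mul_assoc]
    obtain ⟨z, hz1, hz2⟩ := key m
    rw [e1, ap_mul, ap_mul, ap_mul, ap_one, hz2, map_add, map_add, hz1, hz1, hz2, add_assoc, addself, add_zero]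

include pq hS in
/-- **the coordinates and the group `SL₂(K)`** -/
theorem exists_sl (ps : Function.Surjective p)
    (hfix : ∀ v : Sm h D.mn m0, (∀ b ∈ B, s b (p v) = p v) → (v : M) ∈ cv ρ B) {φ : V →ₗ[K] K} {a : V}
    (R : Rt B s φ a) {g : Γ} (hg : g ∈ L) (hc : φ (s g a) ≠ 0) (hd : φ (s g⁻¹ a) ≠ 0) :
    ∃ (l : Matrix.SpecialLinearGroup (Fin 2) K →* Γ) (e : M →+ (Fin 2 → K)),
      (∀ A m, e (ρ (l A) m) = NatPair.ap A (e m)) ∧ (∀ A m, e m = 0 → ρ (l A) m = m) ∧
      (∀ x, ∃ v ∈ Sm h D.mn m0, e v = x) ∧ (∀ A, l A ∈ L1 B L) ∧ ∀ k, l (up k) ∈ B := by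
  classical
  have n := D.mn
  have hLB := L1_le h.BL
  set c := φ (s g a) with hcdef
  set d := φ (s g⁻¹ a) with hddef
  have hch := D.char2 h
  have hgi := L.inv_mem hg
  -- the functional `ψ`
  obtain ⟨ψ, hψ1, hψ2⟩ := exists_ext hS (φ.toAddMonoidHom.comp p.toAddMonoidHom) (by
    intro v hv
    change φ (p v) = 0
    obtain ⟨b, hb, hb'⟩ := R.ex 1
    obtain ⟨_, u, hu, rfl⟩ := v
    have h1 := D.q_conj h hu (h.BL hb) (hv b hb)
    rw [← pq u hu]
    rw [hb', one_mul] at h1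
    have h2 : φ (q u) • a = 0 := by
      have := add_eq_left.mp h1
      exact this
    rcases smul_eq_zero.mp h2 with h3 | h3
    · exact h3
    · exact absurd h3 R.a0)
  have hψ1' : ∀ v (hv : v ∈ Sm h D.mn m0), ψ v = φ (p ⟨v, hv⟩) := fun v hv => hψ1 ⟨v, hv⟩
  have hψ3 : ∀ m, ψ m = 0 → m ∈ cv ρ B := by
    intro m hm
    have hm' : m ∈ Sm h D.mn m0 ⊔ cv ρ B := by rw [hS]; trivial
    obtain ⟨v, hv, w, hw, rfl⟩ := Submodule.mem_sup.mp hm'
    rw [map_add, hψ2 w hw, add_zero, hψ1' v hv] at hm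
    refine Submodule.add_mem _ (hfix ⟨v, hv⟩ fun b hb => ?_) hw
    obtain ⟨k, hk⟩ := R.all b hb
    rw [hk, hm, mul_zero, zero_smul, add_zero]
  let e : M →+ (Fin 2 → K) := AddMonoidHom.mk' (fun m => ![d⁻¹ * ψ (ρ g⁻¹ m), ψ m]) fun m m' => by
    apply ext2
    · simp only [map_add, Pi.add_apply, Matrix.cons_val_zero, mul_add]
    · simp only [map_add, Pi.add_apply, Matrix.cons_val_one, Matrix.cons_val_fin_one]
  have e0 : ∀ m, e m 0 = d⁻¹ * ψ (ρ g⁻¹ m) := fun m => rfl
  have e1 : ∀ m, e m 1 = ψ m := fun m => rfl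
  -- values on `S`
  have eS0 : ∀ v (hv : v ∈ Sm h D.mn m0), e v 0 = d⁻¹ * φ (s g⁻¹ (p ⟨v, hv⟩)) := by
    intro v hv
    rw [e0, hψ1' _ (Sm_inv h n hgi hv)]
    congr 2
    exact D.p_s h pq hgi ⟨v, hv⟩
  have eS1 : ∀ v (hv : v ∈ Sm h D.mn m0), e v 1 = φ (p ⟨v, hv⟩) := fun v hv => hψ1' v hv
  -- `B`
  have hB : ∀ b ∈ B, ∀ k : K, (∀ x, s b x = x + (k * φ x) • a) → ∀ m, e (ρ b m) = NatPair.ap (up k) (e m) := by
    intro b hb k hk m
    have hm' : m ∈ Sm h D.mn m0 ⊔ cv ρ B := by rw [hS]; trivial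
    obtain ⟨v, hv, w, hw, em⟩ := Submodule.mem_sup.mp hm'
    obtain ⟨hδ, hpδ⟩ := D.p_d h pq (h.BL hb) ⟨v, hv⟩
    have hψm : ψ m = φ (p ⟨v, hv⟩) := by rw [← em, map_add, hψ2 w hw, add_zero, hψ1' v hv]
    rw [hk] at hpδ
    have hpδ' : p ⟨ρ b v + v, hδ⟩ = (k * ψ m) • a := by
      rw [hψm]
      change p ⟨ρ b v + v, hδ⟩ = _ at hpδ
      rw [hpδ, add_comm (p _), add_assoc, addself, add_zero]
    have hbm : ρ b m = m + (ρ b v + v) := by
      rw [← em, map_add, hw b hb]
      linear_combination (norm := module) -addself v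
    apply ext2
    · rw [ap_zero', up_00, up_01, one_mul, hbm, map_add, Pi.add_apply, eS0 _ hδ, hpδ', D.sk _ hgi, map_smul,
        smul_eq_mul, e1]
      rw [← hddef]
      field_simp
    · rw [ap_one', up_10, up_11, one_mul, zero_mul, zero_add, hbm, map_add, Pi.add_apply, eS1 _ hδ, hpδ', map_smul,
        R.fa, smul_zero, add_zero]
  -- `B^g`
  have hBg : ∀ b ∈ B, ∀ k : K, (∀ x, s b x = x + (k * φ x) • a) →
      ∀ m, e (ρ (g * b * g⁻¹) m) = NatPair.ap (lo (k * d * c)) (e m) := by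
    intro b hb k hk m
    set m' := ρ g⁻¹ m with hm'def
    have hm' : m' ∈ Sm h D.mn m0 ⊔ cv ρ B := by rw [hS]; trivial
    obtain ⟨v, hv, w, hw, em⟩ := Submodule.mem_sup.mp hm'
    obtain ⟨hδ, hpδ⟩ := D.p_d h pq (h.BL hb) ⟨v, hv⟩
    have hψm : ψ m' = φ (p ⟨v, hv⟩) := by rw [← em, map_add, hψ2 w hw, add_zero, hψ1' v hv]
    rw [hk] at hpδ
    have hpδ' : p ⟨ρ b v + v, hδ⟩ = (k * ψ m') • a := by
      rw [hψm]
      change p ⟨ρ b v + v, hδ⟩ = _ at hpδ
      rw [hpδ, add_comm (p _), add_assoc, addself, add_zero]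
    have hbm : ρ b m' = m' + (ρ b v + v) := by
      rw [← em, map_add, hw b hb]
      linear_combination (norm := module) -addself v
    have hgm : ρ (g * b * g⁻¹) m = m + ρ g (ρ b v + v) := by
      rw [ap_mul, ap_mul, ← hm'def, hbm, map_add, hm'def, ap_inv]
    apply ext2
    · rw [ap_zero', lo_00, lo_01, one_mul, zero_mul, add_zero, hgm, map_add, Pi.add_apply,
        eS0 _ (Sm_inv h n hg hδ), show p ⟨ρ g (ρ b v + v), Sm_inv h n hg hδ⟩ = s g (p ⟨ρ b v + v, hδ⟩) from
          D.p_s h pq hg ⟨_, hδ⟩, D.s_inv hg, hpδ', map_smul, R.fa, smul_zero, mul_zero, add_zero]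
    · rw [ap_one', lo_10, lo_11, one_mul, hgm, map_add, Pi.add_apply, eS1 _ (Sm_inv h n hg hδ),
        show p ⟨ρ g (ρ b v + v), Sm_inv h n hg hδ⟩ = s g (p ⟨ρ b v + v, hδ⟩) from
          D.p_s h pq hg ⟨_, hδ⟩, hpδ', D.sk _ hg, map_smul, smul_eq_mul, e0, ← hm'def]
      rw [← hcdef]
      field_simp
      ring
  -- surjectivity
  have hsur : ∀ x : Fin 2 → K, ∃ v ∈ Sm h D.mn m0, e v = x := by
    intro x
    obtain ⟨v, hv⟩ := ps (x 0 • a + (x 1 * c⁻¹) • s g a)
    refine ⟨v, v.2, ?_⟩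
    apply ext2
    · rw [eS0 _ v.2]
      change d⁻¹ * φ (s g⁻¹ (p v)) = _
      rw [hv, map_add, D.sk _ hgi, D.sk _ hgi, D.s_inv hg, map_add, map_smul, map_smul, R.fa, smul_zero, add_zero,
        smul_eq_mul, ← hddef]
      field_simp
    · rw [eS1 _ v.2]
      change φ (p v) = _
      rw [hv, map_add, map_smul, map_smul, R.fa, smul_zero, zero_add, smul_eq_mul, ← hcdef]
      field_simp
  -- the group
  let L2 : Subgroup Γ := _root_.Subgroup.closure ((B : Set Γ) ∪ {x | ∃ b ∈ B, g * b * g⁻¹ = x})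
  have hL2 : L2 ≤ L1 B L := by
    rw [closure_le]
    rintro x (hx | ⟨b, hb, rfl⟩)
    · exact B_le_L1 hx
    · exact L1_conj hg (B_le_L1 hb)
  have hker : ∀ m, e m = 0 → ∀ x ∈ L2, ρ x m = m := by
    intro m hm x hx
    have h1 : m ∈ cv ρ B := hψ3 m (by rw [← e1, hm]; rfl)
    have h2 : ρ g⁻¹ m ∈ cv ρ B := by
      refine hψ3 _ ?_
      have := e0 m
      rw [hm] at this
      rcases mul_eq_zero.mp this.symm with h3 | h3
      · exact absurd h3 (inv_ne_zero hd)
      · exact h3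
    induction hx using closure_induction with
    | mem y hy =>
      rcases hy with hy | ⟨b, hb, rfl⟩
      · exact h1 y hy
      · rw [ap_mul, ap_mul, h2 b hb, ap_inv]
    | one => exact ap_one ρ m
    | mul y z _ _ hy hz => rw [ap_mul, hz, hy]
    | inv y _ hy =>
      conv_lhs => rw [← hy]
      exact inv_ap ρ y m
  -- the action on `V`
  have hV : ∀ x ∈ L2, ∀ y, ∃ k k2 : K, s x y = y + (k • a + k2 • s g a) := by
    intro x hx
    induction hx using closure_induction with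
    | mem y hy =>
      intro z
      rcases hy with hy | ⟨b, hb, rfl⟩
      · obtain ⟨k, hk⟩ := R.all y hy
        exact ⟨k * φ z, 0, by rw [hk, zero_smul, add_zero]⟩
      · obtain ⟨k, hk⟩ := R.all b hb
        refine ⟨0, k * φ (s g⁻¹ z), ?_⟩
        rw [D.s_mul (L.mul_mem hg (h.BL hb)) hgi, D.s_mul hg (h.BL hb), hk, map_add, D.s_inv' hg, D.sk _ hg,
          zero_smul, zero_add]
    | one =>
      intro z
      exact ⟨0, 0, by rw [D.s_one, zero_smul, zero_smul, add_zero, add_zero]⟩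
    | mul y z hy' hz' hy hz =>
      intro v
      obtain ⟨k, k2, hk⟩ := hz v
      obtain ⟨k', k2', hk'⟩ := hy (s z v)
      refine ⟨k + k', k2 + k2', ?_⟩
      rw [D.s_mul (hLB (hL2 hy')) (hLB (hL2 hz')), hk', hk, add_smul, add_smul]
      abel
    | inv y hy' hy =>
      intro v
      obtain ⟨k, k2, hk⟩ := hy (s y⁻¹ v)
      refine ⟨k, k2, ?_⟩
      rw [D.s_inv' (hLB (hL2 hy'))] at hk
      conv_rhs => rw [hk]
      rw [add_assoc, addself, add_zero]
  -- uniqueness
  have huniq : ∀ x ∈ L2, (∀ m, e (ρ x m) = e m) → x = 1 := by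
    intro x hx hxe
    have hxL := hLB (hL2 hx)
    have h1 : ∀ y, s x y = y := by
      intro y
      obtain ⟨v, rfl⟩ := ps y
      obtain ⟨k, k2, hk⟩ := hV x hx (p v)
      have h2 := hxe v
      have h3 : p ⟨ρ x v, Sm_inv h n hxL v.2⟩ = s x (p v) := D.p_s h pq hxL v
      have h4 := congrFun h2 1
      rw [eS1 _ (Sm_inv h n hxL v.2), h3, hk, eS1 _ v.2, map_add, map_add, map_smul, map_smul, R.fa, smul_zero,
        zero_add] at h4
      have h5 : k2 = 0 := by
        have h6 := add_eq_left.mp h4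
        rcases mul_eq_zero.mp h6 with h7 | h7
        · exact h7
        · exact absurd h7 hc
      rw [h5, zero_smul, add_zero] at hk
      have h7 := congrFun h2 0
      rw [eS0 _ (Sm_inv h n hxL v.2), h3, hk, eS0 _ v.2, map_add, D.sk _ hgi, map_add, map_smul, mul_add] at h7
      have h8 : k = 0 := by
        have h9 := add_eq_left.mp h7
        rcases mul_eq_zero.mp h9 with h10 | h10
        · exact absurd h10 (inv_ne_zero hd)
        · rcases mul_eq_zero.mp h10 with h11 | h11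
          · exact h11
          · exact absurd h11 hd
      rw [hk, h8, zero_smul, add_zero]
    refine h.ext fun m => ?_
    rw [ap_one]
    obtain ⟨v, hv, he⟩ := hsur (e m)
    have h2 : e (m - v) = 0 := by rw [map_sub, he, sub_self]
    have h3 := hker _ h2 x hx
    have h4 := D.triv_S h pq hS (hL2 hx) h1 hv
    rw [map_sub, h4] at h3
    exact sub_left_injective h3
  -- existence
  have hexi : ∀ A : Matrix.SpecialLinearGroup (Fin 2) K, ∃ x ∈ L2, ∀ m, e (ρ x m) = NatPair.ap A (e m) := by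
    have hup : ∀ k : K, ∃ x ∈ L2, ∀ m, e (ρ x m) = NatPair.ap (up k) (e m) := by
      intro k
      obtain ⟨b, hb, hk⟩ := R.ex k
      exact ⟨b, _root_.Subgroup.subset_closure (Or.inl hb), hB b hb k hk⟩
    have hlo : ∀ k : K, ∃ x ∈ L2, ∀ m, e (ρ x m) = NatPair.ap (lo k) (e m) := by
      intro k
      obtain ⟨b, hb, hk⟩ := R.ex (k * (d * c)⁻¹)
      refine ⟨g * b * g⁻¹, _root_.Subgroup.subset_closure (Or.inr ⟨b, hb, rfl⟩), fun m => ?_⟩
      rw [hBg b hb _ hk]
      congr 2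
      field_simp
    intro A
    obtain ⟨k1, k2, k3, k4, rfl⟩ := exists_up_lo A
    obtain ⟨x1, hx1, h1⟩ := hup k1
    obtain ⟨x2, hx2, h2⟩ := hlo k2
    obtain ⟨x3, hx3, h3⟩ := hup k3
    obtain ⟨x4, hx4, h4⟩ := hlo k4
    refine ⟨x1 * x2 * x3 * x4, mul_mem (mul_mem (mul_mem hx1 hx2) hx3) hx4, fun m => ?_⟩
    rw [ap_mul, ap_mul, ap_mul, h1, h2, h3, h4, NatPair.ap_mul, NatPair.ap_mul, NatPair.ap_mul]
  choose lf hlf1 hlf2 using hexi
  have hinvm : ∀ A m, e (ρ (lf A)⁻¹ m) = NatPair.ap A⁻¹ (e m) := by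
    intro A m
    have h1 := hlf2 A (ρ (lf A)⁻¹ m)
    rw [ap_inv] at h1
    rw [h1, NatPair.ap_inv_ap]
  have heq : ∀ A, ∀ x ∈ L2, (∀ m, e (ρ x m) = NatPair.ap A (e m)) → lf A = x := by
    intro A x hx hxe
    have h1 := huniq ((lf A)⁻¹ * x) (mul_mem (inv_mem (hlf1 A)) hx) fun m => by
      rw [ap_mul, hinvm, hxe, NatPair.ap_inv_ap]
    exact (inv_mul_eq_one.mp h1)
  refine ⟨{ toFun := lf
            map_one' := heq 1 1 (one_mem _) fun m => by rw [ap_one, NatPair.ap_one]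
            map_mul' := fun A A' => heq _ _ (mul_mem (hlf1 A) (hlf1 A')) fun m => by
              rw [ap_mul, hlf2, hlf2, NatPair.ap_mul] }, e, hlf2, fun A m hm => hker m hm _ (hlf1 A), hsur,
    fun A => hL2 (hlf1 A), fun k => ?_⟩
  obtain ⟨b, hb, hk⟩ := R.ex k
  have h1 := heq (up k) b (_root_.Subgroup.subset_closure (Or.inl hb)) (hB b hb k hk)
  change lf (up k) ∈ B
  rw [h1]; exact hb

end Fd

/-- **the abstract part of THEOREM A** -/
theorem Fr.main [Finite Γ] [Finite M] (h : Fr ρ B L N X Φ) :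
    ∃ (K : Type u) (_ : Field K) (_ : Finite K) (l : Matrix.SpecialLinearGroup (Fin 2) K →* Γ)
      (e : M →+ (Fin 2 → K)) (S : Submodule (ZMod 2) M) (Y1 : Subgroup Γ), Nat.card K = Nat.card B ∧
      (∀ k : K, k + k = 0) ∧ (∀ A m, e (ρ (l A) m) = NatPair.ap A (e m)) ∧
      (∀ A m, e m = 0 → ρ (l A) m = m) ∧ S ≤ X ∧ (∀ g ∈ L, ∀ v ∈ S, ρ g v ∈ S) ∧ (∀ x, ∃ v ∈ S, e v = x) ∧
      (∀ A, l A ∈ L1 B L) ∧ (∀ k, l (up k) ∈ B) ∧ Y1 ≤ YY ρ L X ∧
      ∀ v ∈ S, (∀ r ∈ Y1, Φ r v = 0) → ∀ g ∈ L1 B L, ρ g v = v := by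
  obtain ⟨Y1, n⟩ := h.exists_mn
  obtain ⟨m0, hm0⟩ := n.exists_m h
  obtain ⟨V, iV1, iV2, iV3, q, p, Q, ps, pq⟩ := exists_qt h n hm0
  obtain ⟨K, iK, iF, iM, f, s, t, D⟩ := Q.exists_fd h
  obtain ⟨c1, c2, c3, c4⟩ := D.count h ps pq
  obtain ⟨φ, a, R, hk, hp⟩ := D.exists_root h c1 c2
  obtain ⟨g, hg, hc, hd⟩ := D.exists_opp h R hk hp
  obtain ⟨l, e, k1, k2, k3, k4, k5⟩ := D.exists_sl h pq c3 ps c4 R hg hc hd
  refine ⟨K, iK, iF, l, e, Sm h n m0, Y1, c2, D.char2 h, k1, k2, Sm_le h n, fun g hg v hv => Sm_inv h n hg hv, k3,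
    k4, k5, n.le, ?_⟩
  rintro _ ⟨u, hu, rfl⟩ h0 g hg
  exact n.ce_of h hm0 hu h0 g hg m0

end Cfsg.Agent.Omega.FOne.ThmA

end
end

-- part: Mrg/Omega/FOne/ThmA/RedDef
section
-- merged: Cfsg.Agent.Mrg.Omega.FOne.NOv.Tr
section

/-!
# THEOREM TR (helper809 #19638, referee helper481 #20070): `TrSwap`

The centre of a transvection of `W / y` in `O₂(C_H(L))` has swapped lifts.
-/

set_option autoImplicit false
set_option linter.unusedSectionVars false

namespace Cfsg.Agent.Omega.FOne.NOv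

open Subgroup Cfsg
open Cfsg.Agent.Omega.FOne.Tvw (Base Blk IsTv z2 addself)

universe u

section

variable {W : Type*} [AddCommGroup W] [Module (ZMod 2) W] {H : Subgroup (W ≃ₗ[ZMod 2] W)} {y : W}

/-- `⟨y⟩` -/
abbrev Sy (y : W) : Submodule (ZMod 2) W := Submodule.span (ZMod 2) {y}

theorem mem_Sy {w : W} : w ∈ Sy y ↔ w = 0 ∨ w = y := by
  rw [Submodule.mem_span_singleton]
  constructor
  · rintro ⟨a, rfl⟩
    rcases z2 a with rfl | rfl
    · left; rw [zero_smul]
    · right; rw [one_smul]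
  · rintro (rfl | rfl)
    · exact ⟨0, zero_smul _ _⟩
    · exact ⟨1, one_smul _ _⟩

theorem mk_eq {v w : W} : (Sy y).mkQ v = (Sy y).mkQ w ↔ v = w ∨ v = w + y := by
  rw [← sub_eq_zero, ← map_sub, Submodule.mkQ_apply, Submodule.Quotient.mk_eq_zero, mem_Sy, sub_eq_zero]
  refine or_congr Iff.rfl ⟨fun h => ?_, fun h => ?_⟩
  · rw [← h]; abel
  · rw [h]; abel

theorem mk_eq_zero {v : W} : (Sy y).mkQ v = 0 ↔ v = 0 ∨ v = y := by
  rw [Submodule.mkQ_apply, Submodule.Quotient.mk_eq_zero, mem_Sy]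

/-- the action of `H` on `W / y` -/
noncomputable def rq (b : Base H y) : ↥H →* Module.End (ZMod 2) (W ⧸ Sy y) where
  toFun h := (Sy y).mapQ (Sy y) ((h : W ≃ₗ[ZMod 2] W) : W →ₗ[ZMod 2] W) (by
    intro w hw
    rw [Submodule.mem_comap]
    rcases mem_Sy.mp hw with rfl | rfl
    · rw [map_zero]; exact zero_mem _
    · have := b.fix h h.2
      change (h : W ≃ₗ[ZMod 2] W) w ∈ Sy w
      rw [this]; exact hw)
  map_one' := by
    apply LinearMap.ext
    intro v
    obtain ⟨w, rfl⟩ := (Sy y).mkQ_surjective v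
    rfl
  map_mul' := by
    intro g h
    apply LinearMap.ext
    intro v
    obtain ⟨w, rfl⟩ := (Sy y).mkQ_surjective v
    rfl

theorem rq_mk (b : Base H y) (h : H) (w : W) : rq b h ((Sy y).mkQ w) = (Sy y).mkQ ((h : W ≃ₗ[ZMod 2] W) w) := rfl

theorem dt (b : Base H y) : TrA.Dt (rq b) where
  inj := by
    rw [injective_iff_map_eq_one]
    intro h e
    apply Subtype.ext
    refine b.faith h h.2 fun w => ?_
    have h1 : rq b h ((Sy y).mkQ w) = (Sy y).mkQ w := by rw [e]; rfl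
    rw [rq_mk] at h1
    exact mk_eq.mp h1
  core := by
    intro N hn h2
    have h1 : N.map H.subtype = ⊥ := by
      refine b.core _ (map_subtype_le N) ?_ (h2.map _)
      rintro h hh _ ⟨n, hnN, rfl⟩
      exact ⟨_, hn.conj_mem n hnN ⟨h, hh⟩, rfl⟩
    exact (map_eq_bot_iff_of_injective N H.subtype_injective).mp h1

/-- the elements of `L` -/
theorem mem_L [Finite W] {L : Submodule (ZMod 2) W} (hc : Nat.card L = 4) (yL : y ∈ L) (y0 : y ≠ 0) {v : W}
    (hv : v ∈ L) (v0 : v ≠ 0) (vy : v ≠ y) {u : W} (hu : u ∈ L) : u = 0 ∨ u = y ∨ u = v ∨ u = v + y := by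
  classical
  by_contra hcon
  push Not at hcon
  obtain ⟨c1, c2, c3, c4⟩ := hcon
  have hvy : v + y ∈ L := L.add_mem hv yL
  have e0 : v + y ≠ 0 := fun e => vy (by
    linear_combination (norm := module) e - addself y)
  have e1 : v + y ≠ y := fun e => v0 (by simpa using e)
  have e2 : v + y ≠ v := fun e => y0 (by simpa using e)
  let s : Finset L := {⟨0, L.zero_mem⟩, ⟨y, yL⟩, ⟨v, hv⟩, ⟨v + y, hvy⟩, ⟨u, hu⟩}
  have hs : s.card = 5 := by
    simp only [s]
    rw [Finset.card_insert_of_notMem, Finset.card_insert_of_notMem, Finset.card_insert_of_notMem,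
      Finset.card_insert_of_notMem, Finset.card_singleton]
    · simp only [Finset.mem_singleton, Subtype.mk.injEq]; exact fun e => c4 e.symm
    · simp only [Finset.mem_insert, Finset.mem_singleton, Subtype.mk.injEq]
      push Not
      exact ⟨e2.symm, fun e => c3 e.symm⟩
    · simp only [Finset.mem_insert, Finset.mem_singleton, Subtype.mk.injEq]
      push Not
      exact ⟨vy.symm, e1.symm, fun e => c2 e.symm⟩
    · simp only [Finset.mem_insert, Finset.mem_singleton, Subtype.mk.injEq]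
      push Not
      exact ⟨y0.symm, v0.symm, e0.symm, fun e => c1 e.symm⟩
  let _ : Fintype L := Fintype.ofFinite L
  have h5 : s.card ≤ Fintype.card L := Finset.card_le_univ s
  rw [Nat.card_eq_fintype_card] at hc
  omega

end

/-- **THEOREM TR** -/
theorem trSwap : TrSwap.{u} := by
  classical
  intro W _ _ _ H y T N L S g hg hT
  obtain ⟨θ, f, d, θ0, θy, f0, e⟩ := hT
  refine ⟨θ, f, d, θ0, θy, f0, e, ?_⟩
  by_contra hcon
  push Not at hcon
  have b := S.base
  have hfinW : Finite (W ≃ₗ[ZMod 2] W) := DFunLike.finite _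
  have hgH := S.NH hg
  -- the line
  obtain ⟨v, hvL, v0, vy⟩ : ∃ v ∈ L, v ≠ 0 ∧ v ≠ y := by
    by_contra h
    push Not at h
    have hle : Nat.card L ≤ Nat.card (Sy y) := Nat.card_le_card_of_injective
      (fun x : L => (⟨x, mem_Sy.mpr (by
        by_cases h0 : (x : W) = 0
        · exact Or.inl h0
        · exact Or.inr (h x x.2 h0))⟩ : Sy y)) fun a c hh => Subtype.ext (congrArg (fun t : Sy y => (t : W)) hh)
    have h2 : Nat.card (Sy y) ≤ 2 := by
      have : Nat.card (Sy y) ≤ Nat.card (ZMod 2) := Nat.card_le_card_of_surjective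
        (fun a : ZMod 2 => (⟨a • y, Submodule.smul_mem _ _ (Submodule.mem_span_singleton_self y)⟩ : Sy y)) (by
          rintro ⟨x, hx⟩
          obtain ⟨a, rfl⟩ := Submodule.mem_span_singleton.mp hx
          exact ⟨a, rfl⟩)
      rwa [Nat.card_zmod] at this
    have h4 := S.card
    omega
  have hL : ∀ u ∈ L, u = 0 ∨ u = y ∨ u = v ∨ u = v + y := fun u hu => mem_L S.card S.yL b.y0 hvL v0 vy hu
  -- `f` as a functional of `W / y`
  have hy : f y = 0 := by
    have e1 := e y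
    rw [b.fix g hgH] at e1
    exact (Tvw.indep θ0 θy b.y0 (a := f y) (b := d y) (by
      linear_combination (norm := module) (-1 : ZMod 2) • e1)).1
  let f' : (W ⧸ Sy y) →ₗ[ZMod 2] ZMod 2 := (Sy y).liftQ f (by
    intro w hw
    rw [LinearMap.mem_ker]
    rcases mem_Sy.mp hw with rfl | rfl
    · exact map_zero f
    · exact hy)
  have hf' : ∀ w, f' ((Sy y).mkQ w) = f w := fun w => rfl
  have is : TrA.Is (rq b) ⟨g, hgH⟩ ((Sy y).mkQ θ) f' := by
    refine ⟨?_, ?_, ?_⟩
    · intro h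
      rcases mk_eq_zero.mp h with h | h
      · exact θ0 h
      · exact θy h
    · intro h
      apply f0
      ext w
      rw [← hf', h]; rfl
    · intro x
      obtain ⟨w, rfl⟩ := (Sy y).mkQ_surjective x
      rw [rq_mk, hf', ← map_smul, ← map_add, mk_eq]
      change g w = _ ∨ g w = _
      rw [e]
      rcases z2 (d w) with a | a
      · left; rw [a, zero_smul, add_zero]
      · right; rw [a, one_smul]
  have hfinQ : Finite (W ⧸ Sy y) := Finite.of_surjective _ (Sy y).mkQ_surjective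
  obtain ⟨F, hF1, hF2⟩ := (dt b).main is (N := N.subgroupOf H) (v₀ := (Sy y).mkQ v)
    (S.N2.comap_of_injective _ (subtype_injective H)) (mem_subgroupOf.mpr hg) (by
      intro h hh n hn
      rw [rq_mk, mk_eq] at hh
      rw [mem_subgroupOf] at hn ⊢
      refine S.Nn h h.2 (fun u hu => ?_) n hn
      have hy := b.fix h h.2
      have hv : (h : W ≃ₗ[ZMod 2] W) v ∈ L := by
        rcases hh with hh | hh <;> rw [hh]
        · exact hvL
        · exact L.add_mem hvL S.yL
      rcases hL u hu with rfl | rfl | rfl | rfl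
      · rw [map_zero]; exact hu
      · rw [hy]; exact hu
      · exact hv
      · rw [map_add, hy]; exact L.add_mem hv S.yL) (by
      intro n hn
      rw [rq_mk, mk_eq]
      exact Or.inl (S.NL n (mem_subgroupOf.mp hn) v hvL))
  -- the sum over the orbit
  let _ : Fintype W := Fintype.ofFinite W
  let O : Finset W := Finset.univ.filter fun u => ∃ t ∈ T, t θ = u
  have hO : ∀ u, u ∈ O ↔ ∃ t ∈ T, t θ = u := fun u => by simp only [O, _root_.Finset.mem_filter, _root_.Finset.mem_univ, _root_.true_and]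
  have hfix : ∀ t ∈ T, t (∑ u ∈ O, u) = ∑ u ∈ O, u := by
    intro t ht
    rw [map_sum]
    refine Finset.sum_bij (fun u _ => t u) (fun u hu => ?_) (fun u _ u' _ h => t.injective h) (fun u hu => ?_)
      fun u _ => rfl
    · obtain ⟨s, hs, rfl⟩ := (hO u).mp hu
      exact (hO _).mpr ⟨t * s, T.mul_mem ht hs, rfl⟩
    · obtain ⟨s, hs, rfl⟩ := (hO u).mp hu
      exact ⟨t⁻¹ (s θ), (hO _).mpr ⟨t⁻¹ * s, T.mul_mem (T.inv_mem ht) hs, rfl⟩, Tvw.ap_inv t _⟩
  have hsum : F ((Sy y).mkQ (∑ u ∈ O, u)) = 1 := by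
    rw [map_sum, map_sum, Finset.sum_eq_single_of_mem θ ((hO θ).mpr ⟨1, T.one_mem, rfl⟩), hF1]
    intro u hu hne
    obtain ⟨t, ht, rfl⟩ := (hO u).mp hu
    have htH := S.TH ht
    have h1 : rq b ⟨t, htH⟩ ((Sy y).mkQ v) = (Sy y).mkQ v := by
      rw [rq_mk, mk_eq]
      change t v = v ∨ t v = v + y
      rcases hL _ (S.TL t ht v hvL) with h | h | h | h
      · exfalso; rw [← map_zero t] at h; exact v0 (t.injective h)
      · exfalso
        rw [← b.fix t htH] at h
        exact vy (t.injective h)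
      · exact Or.inl h
      · exact Or.inr h
    refine hF2 ⟨t, htH⟩ h1 ?_
    rw [rq_mk]
    intro h
    rcases mk_eq.mp h with h | h
    · exact hne h
    · exact hcon t htH h
  rcases S.fixT _ hfix with h | h
  · rw [h, map_zero, map_zero] at hsum
    exact zero_ne_one hsum
  · have : (Sy y).mkQ y = 0 := mk_eq_zero.mpr (Or.inr rfl)
    rw [h, this, map_zero] at hsum
    exact zero_ne_one hsum

end Cfsg.Agent.Omega.FOne.NOv

end

-- merged: Cfsg.Agent.Mrg.Omega.FOne.ThmA.RedDef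
section

section


/-!
# (F1'), the REDUCTION (helper297 #20655 (a)-(c), referee helper270 #21082): definitions and (NO)

* `St X y θ T` : the situation; `Good X y θ B` : `B ≤ O₂(C_X(θ mod y))` is an exact atom of order at least 4;
* `WR R y θ = ⟨y, θ^R⟩`; `Fq X y U` : the elements of `X` which are trivial on `U` modulo `y`;
* `ThA` : the statement of THEOREM A;
* `St.nor` : (NO) on `WR R y θ`.
-/

set_option autoImplicit false
set_option linter.unusedSectionVars false

namespace Cfsg.Agent.Omega.FOne.ThmA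

open Subgroup Cfsg Cfsg.Agent.ZN
open Cfsg.Agent.Omega.FOne.Tvw (Base z2 addself ap_inv inv_ap)
open Cfsg.Agent.Omega.FOne.NOv
open Cfsg.Agent.ClassTwoFusion.Quad
open Cfsg.Agent.Omega.ML.MinFrame

universe u

section defs

variable {W : Type*} [AddCommGroup W] [Module (ZMod 2) W]

/-- the elements of `X` which fix `y` and are trivial on `U` modulo `y` -/
def Fq (X : Subgroup (W ≃ₗ[ZMod 2] W)) (y : W) (U : Set W) : Subgroup (W ≃ₗ[ZMod 2] W) where
  carrier := {x | x ∈ X ∧ x y = y ∧ ∀ v ∈ U, x v = v ∨ x v = v + y}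
  one_mem' := ⟨X.one_mem, rfl, fun v _ => Or.inl rfl⟩
  mul_mem' := by
    rintro a b ⟨a1, a2, a3⟩ ⟨b1, b2, b3⟩
    refine ⟨X.mul_mem a1 b1, ?_, fun v hv => ?_⟩
    · change a (b y) = y
      rw [b2, a2]
    · change a (b v) = v ∨ a (b v) = v + y
      rcases b3 v hv with h | h <;> rw [h]
      · exact a3 v hv
      · rw [map_add, a2]
        rcases a3 v hv with h' | h' <;> rw [h']
        · right; rfl
        · left; rw [add_assoc, addself, add_zero]
  inv_mem' := by
    rintro a ⟨a1, a2, a3⟩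
    have h1 : a⁻¹ y = y := by
      have := inv_ap a y
      rwa [a2] at this
    refine ⟨X.inv_mem a1, h1, fun v hv => ?_⟩
    rcases a3 v hv with h | h
    · left
      have := inv_ap a v
      rwa [h] at this
    · right
      have h2 := inv_ap a v
      rw [h, map_add, h1] at h2
      calc a⁻¹ v = a⁻¹ v + y + y := by rw [add_assoc, addself, add_zero]
        _ = v + y := by rw [h2]

theorem mem_Fq {X : Subgroup (W ≃ₗ[ZMod 2] W)} {y : W} {U : Set W} {x : W ≃ₗ[ZMod 2] W} :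
    x ∈ Fq X y U ↔ x ∈ X ∧ x y = y ∧ ∀ v ∈ U, x v = v ∨ x v = v + y := Iff.rfl

theorem Fq_le {X : Subgroup (W ≃ₗ[ZMod 2] W)} {y : W} {U : Set W} : Fq X y U ≤ X := fun _ h => h.1

/-- the preimage of `⟨λ^R⟩` -/
def WR (R : Subgroup (W ≃ₗ[ZMod 2] W)) (y θ : W) : Submodule (ZMod 2) W :=
  Submodule.span (ZMod 2) ({y} ∪ {v | ∃ r ∈ R, r θ = v})

/-- the vectors fixed modulo `y` by `x` -/
def fm (y : W) (x : W ≃ₗ[ZMod 2] W) : Submodule (ZMod 2) W where
  carrier := {v | x v = v ∨ x v = v + y}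
  zero_mem' := Or.inl (map_zero x)
  add_mem' := by
    rintro v w hv hw
    have e2 : y + y = 0 := addself y
    rcases hv with h1 | h1 <;> rcases hw with h2 | h2 <;> change _ ∨ _ <;> rw [map_add, h1, h2]
    · exact Or.inl rfl
    · right; abel
    · right; abel
    · left
      calc v + y + (w + y) = v + w + (y + y) := by abel
        _ = v + w := by rw [e2, add_zero]
  smul_mem' := by
    intro c w hw
    rcases z2 c with rfl | rfl
    · rw [zero_smul]; exact Or.inl (map_zero x)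
    · rw [one_smul]; exact hw

/-- **The situation** -/
structure St (X : Subgroup (W ≃ₗ[ZMod 2] W)) (y θ : W) (T : Subgroup (W ≃ₗ[ZMod 2] W)) : Prop where
  known : IsKGroupWith IsKnownSimple' X
  base : Base X y
  TX : T ≤ X
  two : IsPGroup 2 T
  syl : ¬ 2 ∣ T.relIndex X
  fixT : ∀ w, (∀ t ∈ T, t w = w) → w = 0 ∨ w = y
  θ0 : θ ≠ 0
  θy : θ ≠ y
  Tθ : ∀ t ∈ T, t θ = θ ∨ t θ = θ + y
  gen : ∀ U : Submodule (ZMod 2) W, y ∈ U → (∀ x ∈ X, x θ ∈ U) → U = ⊤

/-- an exact atom of `O₂(C_X(θ mod y))` of order at least 4 -/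
structure Good (X : Subgroup (W ≃ₗ[ZMod 2] W)) (y θ : W) (B : Subgroup (W ≃ₗ[ZMod 2] W)) : Prop where
  BO : B ≤ o2 (Fq X y {θ})
  sq : ∀ b ∈ B, b * b = 1
  quadM : ∀ a ∈ B, ∀ b ∈ B, ∀ w, b (a w + w) = a w + w ∨ b (a w + w) = a w + w + y
  atom : MAtom y B
  four : 4 ≤ Nat.card B

/-- **(LA)** : all atoms are low -/
def LA (X : Subgroup (W ≃ₗ[ZMod 2] W)) (y θ : W) (T : Subgroup (W ≃ₗ[ZMod 2] W)) : Prop :=
  ∀ B, Good X y θ B → ∀ R, T ≤ R → R ≤ X → R ≠ X → B ≤ o2 R ∧ B ≤ Fq R y (WR R y θ)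

end defs

/-- **THEOREM A** (the statement) -/
def ThA : Prop :=
  ∀ (W : Type u) [AddCommGroup W] [Module (ZMod 2) W] [Finite W] (X R : Subgroup (W ≃ₗ[ZMod 2] W)) (y θ : W)
    (T B : Subgroup (W ≃ₗ[ZMod 2] W)), St X y θ T → T ≤ R → R ≤ X → Good X y θ B → B ⊓ Fq R y (WR R y θ) = ⊥ →
    WR R y θ ⊔ cms y B = ⊤ → Nat.card B * Nat.card (WR R y θ ⊓ cms y B : Submodule (ZMod 2) W) = Nat.card (WR R y θ) →
    ∀ k ∈ Fq R y (WR R y θ), ∀ l ∈ L1 B R, ∀ v ∈ WR R y θ, k (l v + v) = l v + v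

section basic

theorem ri_card {G : Type*} [Group G] {K H : Subgroup G} (h : K ≤ H) : K.relIndex H * Nat.card K = Nat.card H := by
  rw [mul_comm, ← relIndex_bot_left, ← relIndex_bot_left H]
  exact relIndex_mul_relIndex _ _ _ bot_le h

variable {W : Type*} [AddCommGroup W] [Module (ZMod 2) W] {X R T B : Subgroup (W ≃ₗ[ZMod 2] W)} {y θ : W}

theorem y_mem_WR : y ∈ WR R y θ := Submodule.subset_span (Or.inl rfl)

theorem ap_mem_WR {r : W ≃ₗ[ZMod 2] W} (hr : r ∈ R) : r θ ∈ WR R y θ := Submodule.subset_span (Or.inr ⟨r, hr, rfl⟩)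

theorem θ_mem_WR : θ ∈ WR R y θ := ap_mem_WR (r := 1) R.one_mem

theorem WR_le {U : Submodule (ZMod 2) W} (h0 : y ∈ U) (h : ∀ r ∈ R, r θ ∈ U) : WR R y θ ≤ U := by
  rw [WR, Submodule.span_le]
  rintro v (rfl | ⟨r, hr, rfl⟩)
  · exact h0
  · exact h r hr

theorem WR_inv (hy : ∀ r ∈ R, r y = y) {r : W ≃ₗ[ZMod 2] W} (hr : r ∈ R) {v : W} (hv : v ∈ WR R y θ) :
    r v ∈ WR R y θ := by
  have h1 : WR R y θ ≤ (WR R y θ).comap (r : W →ₗ[ZMod 2] W) := by
    refine WR_le ?_ fun s hs => ?_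
    · change r y ∈ WR R y θ
      rw [hy r hr]; exact y_mem_WR
    · exact ap_mem_WR (r := r * s) (R.mul_mem hr hs)
  exact h1 hv

theorem y_mem_fm {x : W ≃ₗ[ZMod 2] W} (hx : x y = y) : y ∈ fm y x := Or.inl hx

/-- the elements of `Fq X y (WR R y θ)` -/
theorem mem_Fq_WR {x : W ≃ₗ[ZMod 2] W} :
    x ∈ Fq X y (WR R y θ) ↔ x ∈ X ∧ x y = y ∧ ∀ r ∈ R, x (r θ) = r θ ∨ x (r θ) = r θ + y := by
  constructor
  · rintro ⟨h1, h2, h3⟩
    exact ⟨h1, h2, fun r hr => h3 _ (ap_mem_WR hr)⟩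
  · rintro ⟨h1, h2, h3⟩
    refine ⟨h1, h2, fun v hv => ?_⟩
    have h4 : WR R y θ ≤ fm y x := WR_le (y_mem_fm h2) h3
    exact h4 hv

/-- conjugation -/
theorem conj_Fq {U : Set W} (hy : ∀ r ∈ R, r y = y) (hR : ∀ r ∈ R, ∀ v ∈ U, r v ∈ U) (hRX : R ≤ X)
    {r x : W ≃ₗ[ZMod 2] W} (hr : r ∈ R) (hx : x ∈ Fq X y U) : r * x * r⁻¹ ∈ Fq X y U := by
  refine ⟨X.mul_mem (X.mul_mem (hRX hr) hx.1) (X.inv_mem (hRX hr)), ?_, fun v hv => ?_⟩
  · change r (x (r⁻¹ y)) = y
    rw [hy _ (R.inv_mem hr), hx.2.1, hy r hr]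
  · change r (x (r⁻¹ v)) = v ∨ r (x (r⁻¹ v)) = v + y
    rcases hx.2.2 _ (hR _ (R.inv_mem hr) v hv) with h | h <;> rw [h]
    · left; exact ap_inv r v
    · right; rw [map_add, ap_inv, hy r hr]

end basic

namespace St

variable {W : Type u} [AddCommGroup W] [Module (ZMod 2) W] {X R T B : Subgroup (W ≃ₗ[ZMod 2] W)} {y θ : W}
variable (h : St X y θ T)
include h

theorem fixy {x : W ≃ₗ[ZMod 2] W} (hx : x ∈ X) : x y = y := h.base.fix x hx

theorem T_le_stb : T ≤ Fq X y {θ} := fun t ht =>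
  ⟨h.TX ht, h.fixy (h.TX ht), by rintro v rfl; exact h.Tθ t ht⟩

theorem sylR (hT : T ≤ R) (hR : R ≤ X) : ¬ 2 ∣ T.relIndex R := by
  intro h1
  refine h.syl (h1.trans ?_)
  rw [← relIndex_mul_relIndex T R X hT hR]
  exact dvd_mul_right _ _

variable [Finite W]

theorem o2_le_T (hT : T ≤ R) (hR : R ≤ X) : o2 R ≤ T := by
  have hfin : Finite (W ≃ₗ[ZMod 2] W) := DFunLike.finite _
  exact o2_le_of_sylow hT h.two (h.sylR hT hR)

theorem o2_stb_le : o2 (Fq X y {θ}) ≤ T := h.o2_le_T h.T_le_stb Fq_le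

theorem WR_top : WR X y θ = ⊤ := h.gen _ y_mem_WR fun _ hx => ap_mem_WR hx

theorem Fq_top : Fq X y ((⊤ : Submodule (ZMod 2) W) : Set W) = ⊥ := by
  rw [eq_bot_iff]
  intro x hx
  rw [mem_bot]
  exact h.base.faith x hx.1 fun w => hx.2.2 w trivial

/-- **(NO) on `⟨λ^R⟩`** -/
theorem nor (hML : ML.Final.MLK.{u, u}) (hT : T ≤ R) (hR : R ≤ X) (hB : B ≤ o2 (Fq X y {θ})) (hB2 : ∀ b ∈ B, b * b = 1) :
    Nat.card B * Nat.card (WR R y θ ⊓ cms y B : Submodule (ZMod 2) W) ≤
      Nat.card (B ⊓ Fq R y (WR R y θ) : Subgroup (W ≃ₗ[ZMod 2] W)) * Nat.card (WR R y θ) := by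
  classical
  have hfin : Finite (W ≃ₗ[ZMod 2] W) := DFunLike.finite _
  have hyR : ∀ r ∈ R, r y = y := fun r hr => h.fixy (hR hr)
  let _ := qact R y hyR
  have hfQ : Finite (QM y) := Finite.of_surjective (qm y) (qm_surj y)
  have hsm : ∀ (r : R) (w : W), r • qm y w = qm y ((r : W ≃ₗ[ZMod 2] W) w) := fun _ _ => rfl
  have hBR : B ≤ R := (hB.trans h.o2_stb_le).trans hT
  set O := o2 (Fq X y {θ}) with hO
  have hfix : ∀ (r : R), ((r : W ≃ₗ[ZMod 2] W) ∈ Fq X y {θ}) → r • qm y θ = qm y θ := by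
    intro r hr
    rw [hsm, qm_eq]
    exact hr.2.2 θ rfl
  have hstab : ∀ (r : R), r • qm y θ = qm y θ → (r : W ≃ₗ[ZMod 2] W) ∈ Fq X y {θ} := by
    intro r hr
    rw [hsm, qm_eq] at hr
    exact ⟨hR r.2, hyR r r.2, by rintro v rfl; exact hr⟩
  have hD : ML.Final.Dat (C := R) (V := QM y) (T.subgroupOf R) (O.subgroupOf R) (B.subgroupOf R) (qm y θ) := by
    refine ⟨?_, h.two.of_equiv (subgroupOfEquivOfLe hT).symm, h.sylR hT hR, ?_, ?_, ?_, ?_, ?_, ?_⟩
    · intro v
      obtain ⟨w, rfl⟩ := qm_surj y v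
      rw [← qm_add, addself, qm_zero]
    · intro t ht
      exact hfix t (h.T_le_stb ht)
    · intro q hq
      obtain ⟨n, hn⟩ := isPGroup_o2 (Fq X y {θ}) ⟨q, hq⟩
      refine ⟨n, fun v => ?_⟩
      have h2 : (q : W ≃ₗ[ZMod 2] W) ^ 2 ^ n = 1 := congrArg Subtype.val hn
      have h1 : q ^ 2 ^ n = 1 := Subtype.ext h2
      rw [h1, one_smul]
    · intro q hq
      exact hfix q (o2_le _ hq)
    · intro g hg q hq
      have h1 := (mem_normalizer_iff.mp (le_normalizer_o2 (Fq X y {θ}) (hstab g hg)) (q : W ≃ₗ[ZMod 2] W)).mp hq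
      exact ⟨g * q * g⁻¹, h1, fun _ => rfl⟩
    · intro a ha
      exact ⟨a, hB ha, fun _ => rfl⟩
    · intro a ha v
      have h1 : a * a = 1 := Subtype.ext (hB2 _ ha)
      rw [← mul_smul, h1, one_smul]
  have hKR : IsKGroup R :=
    ML.Final.kgroup_of_surj h.known (R.subgroupOf X) (subgroupOfEquivOfLe hR).toMonoidHom
      (subgroupOfEquivOfLe hR).surjective
  have key := hML.act hKR hD
  set P := orb (⊤ : Subgroup R) (qm y θ) with hP
  -- the preimage of the orbit
  have hPW : ∀ w, qm y w ∈ P ↔ w ∈ WR R y θ := by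
    intro w
    constructor
    · intro hw
      let U : Subgroup (QM y) :=
        { carrier := {m | ∃ v ∈ WR R y θ, qm y v = m}
          one_mem' := ⟨0, zero_mem _, rfl⟩
          mul_mem' := by
            rintro _ _ ⟨v, hv, rfl⟩ ⟨v', hv', rfl⟩
            exact ⟨v + v', add_mem hv hv', rfl⟩
          inv_mem' := by
            rintro _ ⟨v, hv, rfl⟩
            exact ⟨-v, neg_mem hv, rfl⟩ }
      have h1 : P ≤ U := orb_le fun g _ => ⟨(g : W ≃ₗ[ZMod 2] W) θ, ap_mem_WR g.2, rfl⟩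
      obtain ⟨v, hv, hvw⟩ := h1 hw
      rcases qm_eq.mp hvw.symm with h2 | h2
      · rw [h2]; exact hv
      · rw [h2]; exact add_mem hv y_mem_WR
    · intro hw
      let U : Submodule (ZMod 2) W :=
        { carrier := {w | qm y w ∈ P}
          zero_mem' := by
            change qm y 0 ∈ P
            rw [qm_zero]; exact one_mem _
          add_mem' := fun {a c} ha hc => by
            change qm y (a + c) ∈ P
            rw [qm_add]; exact mul_mem ha hc
          smul_mem' := fun c w hw => by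
            change qm y (c • w) ∈ P
            rcases z2 c with rfl | rfl
            · rw [zero_smul, qm_zero]; exact one_mem _
            · rw [one_smul]; exact hw }
      have h1 : WR R y θ ≤ U := by
        refine WR_le ?_ fun r hr => ?_
        · change qm y y ∈ P
          have : qm y y = qm y 0 := qm_eq.mpr (Or.inr (by rw [zero_add]))
          rw [this, qm_zero]; exact one_mem _
        · exact smul_mem_orb_self (g := (⟨r, hr⟩ : R)) (mem_top _)
      exact h1 hw
  have hcard : ∀ (S : Submodule (ZMod 2) W) (C : Subgroup (QM y)), (∀ w, qm y w ∈ C ↔ w ∈ S) →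
      Nat.card S = 2 * Nat.card C := by
    intro S C hC
    choose s hs using qm_surj y
    let φ : Bool × C → S := fun p => ⟨s p.2.1 + (if p.1 then y else 0), by
      refine (hC _).mp ?_
      have : qm y (s p.2.1 + (if p.1 then y else 0)) = p.2.1 := by
        rw [← hs p.2.1]
        refine qm_eq.mpr ?_
        rw [hs]
        split_ifs
        · right; rfl
        · left; rw [add_zero]
      rw [this]; exact p.2.2⟩
    have hφ : Function.Bijective φ := by
      constructor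
      · rintro ⟨b, c⟩ ⟨b', c'⟩ hh
        have h1 : s c.1 + (if b then y else 0) = s c'.1 + (if b' then y else 0) := congrArg Subtype.val hh
        have h2 : c = c' := by
          apply Subtype.ext
          rw [← hs c.1, ← hs c'.1]
          refine qm_eq.mpr ?_
          have h3 : s c.1 = s c'.1 + ((if b' then y else 0) - (if b then y else 0)) := by
            rw [add_sub, ← h1]; abel
          rw [h3]
          split_ifs
          · left; simp
          · right; simp
          · right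
            rw [zero_sub]
            congr 1
            exact neg_eq_of_add_eq_zero_left (addself y)
          · left; simp
        subst h2
        have h3 := add_left_cancel h1
        cases b <;> cases b' <;> simp at h3 <;>
          first | rfl | exact absurd h3 h.base.y0 | exact absurd h3.symm h.base.y0
      · rintro ⟨w, hw⟩
        have h1 : qm y w ∈ C := (hC w).mpr hw
        have h2 := hs (qm y w)
        rcases qm_eq.mp h2 with h3 | h3
        · exact ⟨(false, ⟨_, h1⟩), Subtype.ext (by change s (qm y w) + _ = w; rw [h3]; simp)⟩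
        · refine ⟨(true, ⟨_, h1⟩), Subtype.ext ?_⟩
          change s (qm y w) + _ = w
          rw [h3]
          simp only [if_true]
          rw [add_assoc, addself, add_zero]
    rw [← Nat.card_eq_of_bijective φ hφ, Nat.card_prod]
    simp only [_root_.Nat.card_eq_fintype_card, _root_.Fintype.card_bool]
  set C := Cfsg.Agent.ClassTwoFusion.Quad.cv (QM y) ((B.subgroupOf R : Subgroup R) : Set R) with hCdef
  have hCm : ∀ w, qm y w ∈ C ↔ w ∈ cms y B := by
    intro w
    constructor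
    · intro h1 a ha
      have h2 : (⟨a, hBR ha⟩ : R) • qm y w = qm y w := h1 _ ha
      rw [hsm, qm_eq] at h2
      exact h2
    · intro h1 a ha
      change a • qm y w = qm y w
      rw [hsm, qm_eq]
      exact h1 _ ha
  have c1 : Nat.card (WR R y θ) = 2 * Nat.card P := hcard _ _ hPW
  have c2 : Nat.card (WR R y θ ⊓ cms y B : Submodule (ZMod 2) W) = 2 * Nat.card (C ⊓ P : Subgroup (QM y)) := by
    refine hcard _ _ fun w => ?_
    rw [Subgroup.mem_inf, Submodule.mem_inf, hPW, hCm]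
    exact And.comm
  -- the kernel
  have c3 : Nat.card (fxr R P ⊓ B.subgroupOf R : Subgroup R) =
      Nat.card (B ⊓ Fq R y (WR R y θ) : Subgroup (W ≃ₗ[ZMod 2] W)) := by
    have h1 : fxr R P ⊓ B.subgroupOf R = (B ⊓ Fq R y (WR R y θ)).subgroupOf R := by
      ext x
      rw [Subgroup.mem_inf, mem_subgroupOf, mem_subgroupOf, Subgroup.mem_inf]
      constructor
      · rintro ⟨h1, h2⟩
        refine ⟨h2, x.2, hyR _ x.2, fun v hv => ?_⟩
        have h3 := h1 (qm y v) ((hPW v).mpr hv)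
        rw [hsm, qm_eq] at h3
        exact h3
      · rintro ⟨h1, h2⟩
        refine ⟨fun m hm => ?_, h1⟩
        obtain ⟨v, rfl⟩ := qm_surj y m
        rw [hsm, qm_eq]
        exact h2.2.2 v ((hPW v).mp hm)
    rw [h1]
    exact Nat.card_congr (subgroupOfEquivOfLe (inf_le_left.trans hBR)).toEquiv
  have c4 : Nat.card (B.subgroupOf R) = Nat.card B := Nat.card_congr (subgroupOfEquivOfLe hBR).toEquiv
  have r1 : (fxr R P).relIndex (B.subgroupOf R) * Nat.card (fxr R P ⊓ B.subgroupOf R : Subgroup R) =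
      Nat.card (B.subgroupOf R) := by
    rw [← inf_relIndex_right, ri_card inf_le_right]
  have r2 : C.relIndex P * Nat.card (C ⊓ P : Subgroup (QM y)) = Nat.card P := by
    rw [← inf_relIndex_right, ri_card inf_le_right]
  rw [c1, c2, ← c3, ← c4, ← r1]
  calc (fxr R P).relIndex (B.subgroupOf R) * Nat.card (fxr R P ⊓ B.subgroupOf R : Subgroup R) *
        (2 * Nat.card (C ⊓ P : Subgroup (QM y)))
      = (fxr R P).relIndex (B.subgroupOf R) * (Nat.card (fxr R P ⊓ B.subgroupOf R : Subgroup R) *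
        (2 * Nat.card (C ⊓ P : Subgroup (QM y)))) := by ring
    _ ≤ C.relIndex P * (Nat.card (fxr R P ⊓ B.subgroupOf R : Subgroup R) *
        (2 * Nat.card (C ⊓ P : Subgroup (QM y)))) := Nat.mul_le_mul_right _ key
    _ = Nat.card (fxr R P ⊓ B.subgroupOf R : Subgroup R) * (2 * (C.relIndex P * Nat.card (C ⊓ P : Subgroup (QM y)))) := by
        ring
    _ = _ := by rw [r2]

/-- **(NO)** -/
theorem no (hML : ML.Final.MLK.{u, u}) (hB : B ≤ o2 (Fq X y {θ})) (hB2 : ∀ b ∈ B, b * b = 1) :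
    Nat.card B * Nat.card (cms y B) ≤ Nat.card W := by
  have h1 := h.nor hML h.TX le_rfl hB hB2
  rw [h.WR_top, h.Fq_top, inf_bot_eq, Subgroup.card_bot, one_mul, top_inf_eq] at h1
  have h2 : Nat.card (⊤ : Submodule (ZMod 2) W) = Nat.card W := Nat.card_congr (Equiv.Set.univ W)
  rwa [h2] at h1

/-- **(U)** for `U = ⟨λ^R⟩` and an atom which moves `⟨λ^R⟩` -/
theorem u_eq (hML : ML.Final.MLK.{u, u}) (hT : T ≤ R) (hR : R ≤ X) (g : Good X y θ B) (hn : ¬ B ≤ Fq R y (WR R y θ)) :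
    B ⊓ Fq R y (WR R y θ) = ⊥ ∧ WR R y θ ⊔ cms y B = ⊤ ∧
      Nat.card B * Nat.card (WR R y θ ⊓ cms y B : Submodule (ZMod 2) W) = Nat.card (WR R y θ) := by
  have hfin : Finite (W ≃ₗ[ZMod 2] W) := DFunLike.finite _
  set U := WR R y θ with hU
  set D := B ⊓ Fq R y U with hD
  have h1 := h.nor hML hT hR g.BO g.sq
  have h2 := h.no hML (B := D) (inf_le_left.trans g.BO) fun b hb => g.sq b hb.1
  have h3 : U ⊔ cms y B ≤ cms y D :=
    sup_le (fun v hv d hd => hd.2.2.2 v hv) fun v hv d hd => hv d hd.1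
  have h4 := card_sup_inf U (cms y B)
  have h5 : Nat.card (U ⊔ cms y B : Submodule (ZMod 2) W) ≤ Nat.card (cms y D) :=
    Nat.card_le_card_of_injective _ (Submodule.inclusion_injective h3)
  have h6 : Nat.card B * Nat.card (cms y B) = Nat.card W := g.atom.ex
  have p1 : 0 < Nat.card B := Nat.card_pos
  have p2 : 0 < Nat.card U := Nat.card_pos
  have p3 : 0 < Nat.card (U ⊓ cms y B : Submodule (ZMod 2) W) := Nat.card_pos
  have p4 : 0 < Nat.card D := Nat.card_pos
  have p5 : 0 < Nat.card (cms y D) := Nat.card_pos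
  have p6 : 0 < Nat.card W := Nat.card_pos
  rw [← hU, ← hD] at h1
  -- `|D| |C(D)| = |W|`
  have e1 : Nat.card W * Nat.card U ≤ Nat.card D * Nat.card (cms y D) * Nat.card U := by
    calc Nat.card W * Nat.card U = Nat.card B * (Nat.card U * Nat.card (cms y B)) := by rw [← h6]; ring
      _ = Nat.card B * (Nat.card (U ⊔ cms y B : Submodule (ZMod 2) W) *
          Nat.card (U ⊓ cms y B : Submodule (ZMod 2) W)) := by rw [h4]
      _ = Nat.card (U ⊔ cms y B : Submodule (ZMod 2) W) *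
          (Nat.card B * Nat.card (U ⊓ cms y B : Submodule (ZMod 2) W)) := by ring
      _ ≤ Nat.card (cms y D) * (Nat.card D * Nat.card U) := Nat.mul_le_mul h5 h1
      _ = Nat.card D * Nat.card (cms y D) * Nat.card U := by ring
  have e2 : Nat.card D * Nat.card (cms y D) = Nat.card W :=
    le_antisymm h2 (Nat.le_of_mul_le_mul_right e1 p2)
  have e3 : D = ⊥ := by
    by_contra hne
    have h7 := g.atom.min D inf_le_left hne e2
    exact hn (by rw [← h7]; exact inf_le_right)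
  have e4 : Nat.card D = 1 := by rw [e3]; exact Subgroup.card_bot
  have e5 : Nat.card (cms y D) = Nat.card W := by rw [e4, one_mul] at e2; exact e2
  rw [e4, one_mul] at h1
  have e6 : Nat.card W * Nat.card (U ⊓ cms y B : Submodule (ZMod 2) W) * Nat.card B ≤
      Nat.card (U ⊔ cms y B : Submodule (ZMod 2) W) * Nat.card (U ⊓ cms y B : Submodule (ZMod 2) W) * Nat.card B := by
    rw [h4]
    calc Nat.card W * Nat.card (U ⊓ cms y B : Submodule (ZMod 2) W) * Nat.card B
        = Nat.card W * (Nat.card B * Nat.card (U ⊓ cms y B : Submodule (ZMod 2) W)) := by ring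
      _ ≤ Nat.card W * Nat.card U := Nat.mul_le_mul_left _ h1
      _ = _ := by rw [← h6]; ring
  have e7 : Nat.card W ≤ Nat.card (U ⊔ cms y B : Submodule (ZMod 2) W) :=
    Nat.le_of_mul_le_mul_right (Nat.le_of_mul_le_mul_right e6 p1) p3
  have e8 : Nat.card (U ⊔ cms y B : Submodule (ZMod 2) W) = Nat.card W :=
    le_antisymm (Nat.card_le_card_of_injective _ (Submodule.injective_subtype _)) e7
  refine ⟨e3, ?_, ?_⟩
  · have h8 : Nat.card (⊤ : Submodule (ZMod 2) W) = Nat.card W := Nat.card_congr (Equiv.Set.univ W)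
    exact eq_of_le_card le_top (by rw [h8, e8])
  · refine Nat.eq_of_mul_eq_mul_right (Nat.card_pos (α := cms y B)) ?_
    rw [← h4, e8, ← h6]
    ring

end St

end Cfsg.Agent.Omega.FOne.ThmA

end

section


/-!
# `ThA` (helper396's literal, RedDef.lean) from `ThmR.Dat.main`
-/

set_option autoImplicit false
set_option linter.unusedSectionVars false

namespace Cfsg.Agent.Omega.FOne.ThmR

open Subgroup Cfsg Cfsg.Agent.ZN
open Cfsg.Agent.Omega.FOne.Tvw (Base z2 addself ap_inv inv_ap)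
open Cfsg.Agent.Omega.FOne.NOv (cms MAtom MEx)
open Cfsg.Agent.Omega.FOne.ThmA
open Cfsg.Agent.ClassTwoFusion.Quad

universe u

/-- `{0, y}` -/
def Ry {W : Type*} [AddCommGroup W] [Module (ZMod 2) W] (y : W) : AddSubgroup W where
  carrier := {w | w = 0 ∨ w = y}
  zero_mem' := Or.inl rfl
  add_mem' := by
    rintro a b (rfl | rfl) (rfl | rfl)
    · left; rw [add_zero]
    · right; rw [zero_add]
    · right; rw [add_zero]
    · left; exact addself _
  neg_mem' := by
    rintro a (rfl | rfl)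
    · left; rw [neg_zero]
    · right; exact neg_eq_of_add_eq_zero_left (addself _)

section

variable {W : Type*} [AddCommGroup W] [Module (ZMod 2) W] {X : Subgroup (W ≃ₗ[ZMod 2] W)} {y : W}

theorem mem_Ry {w : W} : w ∈ Ry y ↔ w = 0 ∨ w = y := Iff.rfl

theorem add_mem_Ry {a b : W} : a + b ∈ Ry y ↔ a = b ∨ a = b + y := by
  rw [mem_Ry]
  constructor
  · rintro (h | h)
    · exact Or.inl (eq_of_add_eq_zero addself h)
    · right
      calc a = a + b + b := by rw [add_assoc, addself, add_zero]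
        _ = b + y := by rw [h, add_comm]
  · rintro (rfl | rfl)
    · exact Or.inl (addself _)
    · right
      calc b + y + b = (b + b) + y := by abel
        _ = y := by rw [addself, zero_add]

theorem n_mem_Ry {x : X} {w : W} :
    n x w ∈ Ry y ↔ (x : W ≃ₗ[ZMod 2] W) w = w ∨ (x : W ≃ₗ[ZMod 2] W) w = w + y := add_mem_Ry

/-- `cm` and `cms` -/
theorem mem_cm_iff {E : Subgroup X} {B : Subgroup (W ≃ₗ[ZMod 2] W)}
    (hEB : ∀ g : W ≃ₗ[ZMod 2] W, g ∈ B ↔ ∃ e ∈ E, (e : W ≃ₗ[ZMod 2] W) = g) {w : W} :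
    w ∈ cm (Ry y) E ↔ w ∈ cms y B := by
  constructor
  · intro hw g hg
    obtain ⟨e, he, rfl⟩ := (hEB g).1 hg
    exact n_mem_Ry.1 (hw e he)
  · intro hw e he
    exact n_mem_Ry.2 (hw _ ((hEB _).2 ⟨e, he, rfl⟩))

theorem card_cm [Finite W] {E : Subgroup X} {B : Subgroup (W ≃ₗ[ZMod 2] W)}
    (hEB : ∀ g : W ≃ₗ[ZMod 2] W, g ∈ B ↔ ∃ e ∈ E, (e : W ≃ₗ[ZMod 2] W) = g) :
    Nat.card (cms y B) * (cm (Ry y) E).index = Nat.card W := by
  have h1 : Nat.card (cms y B) = Nat.card (cm (Ry y) E) :=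
    Nat.card_congr (Equiv.subtypeEquivRight fun w => (mem_cm_iff hEB).symm)
  rw [h1]
  exact AddSubgroup.card_mul_index _

end

/-- **THEOREM A** -/
theorem thA (hML : ML.Final.MLK.{u, u}) : ThA.{u} := by
  intro W _ _ _ X R y θ T B h hT hR g h0 hcov hex
  have hfin : Finite (W ≃ₗ[ZMod 2] W) := DFunLike.finite _
  have hBT : B ≤ T := g.BO.trans h.o2_stb_le
  have hBR : B ≤ R := hBT.trans hT
  have hBX : B ≤ X := hBR.trans hR
  set O := o2 (Fq X y {θ}) with hO
  have hOX : O ≤ X := (o2_le _).trans Fq_le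
  have hsub : ∀ {E : Subgroup (W ≃ₗ[ZMod 2] W)}, E ≤ X →
      ∀ a : W ≃ₗ[ZMod 2] W, a ∈ E ↔ ∃ e ∈ E.subgroupOf X, (e : W ≃ₗ[ZMod 2] W) = a := by
    intro E hE a
    constructor
    · intro ha; exact ⟨⟨a, hE ha⟩, ha, rfl⟩
    · rintro ⟨e, he, rfl⟩; exact he
  have hmap : ∀ (E : Subgroup X) (a : W ≃ₗ[ZMod 2] W),
      a ∈ E.map X.subtype ↔ ∃ e ∈ E, (e : W ≃ₗ[ZMod 2] W) = a := fun E a => Iff.rfl
  have hcmap : ∀ E : Subgroup X, Nat.card (E.map X.subtype) = Nat.card E := fun E =>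
    (Nat.card_congr (E.equivMapOfInjective X.subtype X.subtype_injective).toEquiv).symm
  have hyX : ∀ x ∈ X, x y = y := fun x hx => h.fixy hx
  have hD : Dat (R.subgroupOf X) (T.subgroupOf X) (O.subgroupOf X) (B.subgroupOf X) (Ry y)
      (WR R y θ).toAddSubgroup θ := by
    refine ⟨addself, ?_, ?_, ?_, ?_, ?_, ?_, ?_, ?_, ?_, ?_, ?_, ?_, ?_, ?_, ?_, ?_, ?_, ?_, ?_⟩
    · -- fixR
      rintro x r (rfl | rfl)
      · exact smul_zero x
      · exact hyX x x.2
    · -- faith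
      intro x hx
      exact Subtype.ext (h.base.faith x x.2 fun w => n_mem_Ry.1 (hx w))
    · exact fun t ht => hT ht
    · exact h.two.of_equiv (subgroupOfEquivOfLe (hT.trans hR)).symm
    · rw [relIndex_subgroupOf hR]; exact h.sylR hT hR
    · exact fun b hb => g.BO hb
    · exact fun b hb => hBR hb
    · exact fun b hb => Subtype.ext (g.sq _ hb)
    · -- quad
      intro b hb c hc w
      exact n_mem_Ry.2 (g.quadM _ hb _ hc w)
    · -- no
      intro E hE hE2
      have hEO : E.map X.subtype ≤ O := by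
        rintro _ ⟨e, he, rfl⟩; exact hE he
      have h1 := h.no hML (B := E.map X.subtype) hEO (by
        rintro _ ⟨e, he, rfl⟩; exact congrArg Subtype.val (hE2 e he))
      rw [hcmap, ← card_cm (hmap E), mul_comm] at h1
      exact Nat.le_of_mul_le_mul_left h1 Nat.card_pos
    · -- ex
      have h1 : Nat.card B * Nat.card (cms y B) = Nat.card W := g.atom.ex
      rw [← card_cm (hsub hBX), mul_comm] at h1
      rw [← Nat.eq_of_mul_eq_mul_left Nat.card_pos h1]
      exact Nat.card_congr (subgroupOfEquivOfLe hBX).toEquiv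
    · -- min
      intro E hE hE1 hEc
      have hEB : E.map X.subtype ≤ B := by
        rintro _ ⟨e, he, rfl⟩; exact hE he
      have h1 : E.map X.subtype ≠ ⊥ := fun h2 => hE1 ((map_eq_bot_iff_of_injective E X.subtype_injective).1 h2)
      have h2 : MEx y (E.map X.subtype) := by
        have h3 := card_cm (y := y) (hmap E)
        rw [← hEc, mul_comm, ← hcmap E] at h3
        exact h3
      have h3 := g.atom.min _ hEB h1 h2
      ext x
      constructor
      · intro hx; exact hE hx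
      · intro hx
        have h4 : (x : W ≃ₗ[ZMod 2] W) ∈ E.map X.subtype := by rw [h3]; exact hx
        obtain ⟨e, he, h5⟩ := h4
        rwa [← Subtype.ext h5]
    · -- RV
      rintro r (rfl | rfl)
      · exact (WR R y θ).toAddSubgroup.zero_mem
      · exact y_mem_WR
    · exact fun x hx v hv => WR_inv (fun r hr => hyX r (hR hr)) hx hv
    · -- gen
      intro U hRU hU v hv
      have h1 : WR R y θ ≤ AddSubgroup.toZModSubmodule 2 U :=
        WR_le (hRU (Or.inr rfl)) fun r hr => hU ⟨r, hR hr⟩ hr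
      exact h1 hv
    · exact θ_mem_WR
    · exact fun t ht => n_mem_Ry.2 (h.Tθ _ ht)
    · -- nO
      intro x hx o ho
      have h1 : (x : W ≃ₗ[ZMod 2] W) ∈ Fq X y {θ} := ⟨x.2, hyX x x.2, by rintro v rfl; exact n_mem_Ry.1 hx⟩
      exact (mem_normalizer_iff.mp (le_normalizer_o2 (Fq X y {θ}) h1) (o : W ≃ₗ[ZMod 2] W)).mp ho
    · -- cover
      intro w
      have h1 : w ∈ WR R y θ ⊔ cms y B := hcov ▸ Submodule.mem_top
      obtain ⟨v, hv, m, hm, rfl⟩ := Submodule.mem_sup.1 h1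
      refine ⟨v, hv, ?_⟩
      have h2 : v + m + v = m := by
        calc v + m + v = m + (v + v) := by abel
          _ = m := by rw [addself, add_zero]
      rw [h2]
      exact (mem_cm_iff (hsub hBX)).2 hm
  have h4 : 4 ≤ Nat.card (B.subgroupOf X) := by
    rw [Nat.card_congr (subgroupOfEquivOfLe hBX).toEquiv]; exact g.four
  have key := hD.main h4
  intro k hk l hl v hv
  have hlX : l ∈ X := (L1_le hBR |>.trans hR) hl
  have h5 : (⟨l, hlX⟩ : X) ∈ Subgroup.closure
      {z : X | ∃ x ∈ R.subgroupOf X, ∃ b ∈ B.subgroupOf X, z = x * b * x⁻¹} := by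
    have h6 : L1 B R ≤ (Subgroup.closure
        {z : X | ∃ x ∈ R.subgroupOf X, ∃ b ∈ B.subgroupOf X, z = x * b * x⁻¹}).map X.subtype := by
      rw [L1, closure_le]
      rintro _ ⟨r, hr, b, hb, rfl⟩
      refine ⟨@HMul.hMul _ _ _ instHMul (@HMul.hMul _ _ _ instHMul ⟨r, hR hr⟩ ⟨b, hBX hb⟩) ⟨r, hR hr⟩⁻¹, subset_closure ⟨⟨r, hR hr⟩, hr, ⟨b, hBX hb⟩, hb, rfl⟩, rfl⟩
    obtain ⟨e, he, h7⟩ := h6 hl
    have h8 : (⟨l, hlX⟩ : X) = e := Subtype.ext h7.symm
    rw [h8]; exact he
  have h9 := key _ h5 ⟨k, hR hk.1⟩ hk.1 (fun v hv => n_mem_Ry.2 (hk.2.2 v hv)) v hv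
  exact eq_of_add_eq_zero addself h9

end Cfsg.Agent.Omega.FOne.ThmR

end

section


/-!
# (F1'), the REDUCTION (helper297 #20655 (a), (b)): `R = ⟨B^R⟩ T` and the vector `θ_n`
-/

set_option autoImplicit false
set_option linter.unusedSectionVars false

namespace Cfsg.Agent.Omega.FOne.ThmA

open Subgroup Cfsg Cfsg.Agent.ZN
open Cfsg.Agent.Omega.FOne.Tvw (Base z2 addself ap_inv inv_ap)
open Cfsg.Agent.Omega.FOne.NOv

universe u

theorem L1_norm {G : Type*} [Group G] {B L : Subgroup G} : L ≤ normalizer (L1 B L : Set G) := by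
  intro l hl
  rw [mem_normalizer_iff]
  intro g
  constructor
  · exact fun hg => L1_conj hl hg
  · intro hg
    have h1 := L1_conj (L.inv_mem hl) hg
    have h2 : l⁻¹ * (l * g * l⁻¹) * l⁻¹⁻¹ = g := by group
    rwa [h2] at h1

/-- `O₂(L) ≤ O₂(R)` for `L` normalised by `R` -/
theorem o2_mono {G : Type*} [Group G] {L R : Subgroup G} (h1 : L ≤ R) (h2 : R ≤ normalizer (L : Set G)) : o2 L ≤ o2 R :=
  le_o2 ((o2_le L).trans h1) (isPGroup_o2 L) (h2.trans (normalizer_le_normalizer_o2 L))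

namespace St

variable {W : Type u} [AddCommGroup W] [Module (ZMod 2) W] {X R T B : Subgroup (W ≃ₗ[ZMod 2] W)} {y θ : W}
variable (h : St X y θ T)
include h

/-- `K_R` is normal in `R` -/
theorem ker_conj (hR : R ≤ X) {r x : W ≃ₗ[ZMod 2] W} (hr : r ∈ R) (hx : x ∈ Fq R y (WR R y θ)) :
    r * x * r⁻¹ ∈ Fq R y (WR R y θ) :=
  conj_Fq (fun r hr => h.fixy (hR hr)) (fun r hr v hv => WR_inv (fun r hr => h.fixy (hR hr)) hr hv) le_rfl hr hx

theorem ker_norm (hR : R ≤ X) : R ≤ normalizer (Fq R y (WR R y θ) : Set (W ≃ₗ[ZMod 2] W)) := by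
  intro r hr
  rw [mem_normalizer_iff]
  intro x
  constructor
  · exact fun hx => h.ker_conj hR hr hx
  · intro hx
    have h1 := h.ker_conj hR (R.inv_mem hr) hx
    have h2 : r⁻¹ * (r * x * r⁻¹) * r⁻¹⁻¹ = x := by group
    rwa [h2] at h1

variable [Finite W]

/-- `O₂(R)` is trivial on `⟨λ^R⟩` -/
theorem o2_triv (hT : T ≤ R) (hR : R ≤ X) : o2 R ≤ Fq R y (WR R y θ) := by
  intro x hx
  rw [mem_Fq_WR]
  refine ⟨o2_le _ hx, h.fixy (hR (o2_le _ hx)), fun r hr => ?_⟩
  have h1 : r⁻¹ * x * r ∈ o2 R := by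
    have h2 := (mem_normalizer_iff.mp (le_normalizer_o2 R (R.inv_mem hr)) x).mp hx
    rwa [inv_inv] at h2
  have h2 := h.Tθ _ (h.o2_le_T hT hR h1)
  have h3 : x (r θ) = r ((r⁻¹ * x * r) θ) := by
    change x (r θ) = r (r⁻¹ (x (r θ)))
    rw [ap_inv]
  rw [h3]
  rcases h2 with h2 | h2 <;> rw [h2]
  · left; rfl
  · right; rw [map_add, h.fixy (hR hr)]

/-- an atom which is trivial on `⟨λ^R⟩` is low in `R` -/
theorem low_of (hT : T ≤ R) (hR : R ≤ X) (g : Good X y θ B) (hB : B ≤ Fq R y (WR R y θ)) : B ≤ o2 R := by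
  set K := Fq R y (WR R y θ) with hK
  have hKS : K ≤ Fq X y {θ} := fun x hx =>
    ⟨hR hx.1, hx.2.1, by rintro v rfl; exact hx.2.2 v θ_mem_WR⟩
  have h1 : o2 (Fq X y {θ}) ⊓ K ≤ o2 K := by
    refine le_o2 inf_le_right ((isPGroup_o2 _).to_le inf_le_left) ?_
    intro k hk
    rw [mem_normalizer_iff]
    intro x
    have h2 := mem_normalizer_iff.mp (le_normalizer_o2 (Fq X y {θ}) (hKS hk)) x
    have h3 := mem_normalizer_iff.mp (le_normalizer hk) x
    exact and_congr h2 h3
  exact ((le_inf g.BO hB).trans h1).trans (o2_mono Fq_le (h.ker_norm hR))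

/-- **(a)** -/
theorem step_a (hT : T ≤ R) (hR : R ≤ X) (g : Good X y θ B) (hn : ¬ B ≤ Fq R y (WR R y θ))
    (hmin : ∀ R', T ≤ R' → R' ≤ R → R' ≠ R → B ≤ Fq R' y (WR R' y θ)) : L1 B R ⊔ T = R := by
  have hBR : B ≤ R := (g.BO.trans h.o2_stb_le).trans hT
  set Ls := L1 B R with hLs
  have hLR : Ls ≤ R := L1_le hBR
  by_contra hne
  have hB1 := hmin (Ls ⊔ T) le_sup_right (sup_le hLR hT) hne
  have hBL : B ≤ Ls := B_le_L1
  set L2 := L1 B Ls with hL2
  have hL2L : L2 ≤ Ls := L1_le hBL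
  have hL2S : L2 ≤ Fq X y {θ} := by
    rw [hL2, L1, closure_le]
    rintro _ ⟨l, hl, b, hb, rfl⟩
    have hlX := hR (hLR hl)
    have hbX := hR (hBR hb)
    refine ⟨X.mul_mem (X.mul_mem hlX hbX) (X.inv_mem hlX), h.fixy (X.mul_mem (X.mul_mem hlX hbX) (X.inv_mem hlX)), ?_⟩
    rintro v rfl
    change l (b (l⁻¹ v)) = v ∨ l (b (l⁻¹ v)) = v + y
    have h2 := (hB1 hb).2.2 (l⁻¹ v) (ap_mem_WR (le_sup_left (a := Ls) (b := T) (Ls.inv_mem hl)))
    rcases h2 with h2 | h2 <;> rw [h2]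
    · left; exact ap_inv l v
    · right; rw [map_add, ap_inv, h.fixy hlX]
  have h1 : o2 (Fq X y {θ}) ⊓ L2 ≤ o2 L2 := by
    refine le_o2 inf_le_right ((isPGroup_o2 _).to_le inf_le_left) ?_
    intro k hk
    rw [mem_normalizer_iff]
    intro x
    have h2 := mem_normalizer_iff.mp (le_normalizer_o2 (Fq X y {θ}) (hL2S hk)) x
    have h3 := mem_normalizer_iff.mp (le_normalizer hk) x
    exact and_congr h2 h3
  have h2 : B ≤ o2 R :=
    (((le_inf g.BO B_le_L1).trans h1).trans (o2_mono hL2L L1_norm)).trans (o2_mono hLR L1_norm)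
  exact hn (h2.trans (h.o2_triv hT hR))

/-- **(b)** -/
theorem step_b (hT : T ≤ R) (hR : R ≤ X) (hBR : B ≤ R) (hg : L1 B R ⊔ T = R) :
    ∃ θn ∈ WR R y θ, (∀ r ∈ R, r (θ + θn) = θ + θn ∨ r (θ + θn) = θ + θn + y) ∧
      ∀ U : Submodule (ZMod 2) W, y ∈ U → (∀ l ∈ L1 B R, ∀ v ∈ WR R y θ, l v + v ∈ U) → θn ∈ U := by
  classical
  set Ls := L1 B R with hLs
  have hLR : Ls ≤ R := L1_le hBR
  -- the action on `M = W / y`
  let ρ : R →* Module.End (ZMod 2) (W ⧸ Sy y) := (rq h.base).comp (inclusion hR)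
  have hρ : ∀ (r : R) (w : W), ρ r ((Sy y).mkQ w) = (Sy y).mkQ ((r : W ≃ₗ[ZMod 2] W) w) := fun _ _ => rfl
  let _ : MulAction R (W ⧸ Sy y) := MulAction.compHom _ ρ
  have hsm : ∀ (r : R) (m : W ⧸ Sy y), r • m = ρ r m := fun _ _ => rfl
  have hfM : Finite (W ⧸ Sy y) := Finite.of_surjective _ (Sy y).mkQ_surjective
  set lam := (Sy y).mkQ θ with hlam
  -- the orbit
  have hfo : (MulAction.orbit R lam).Finite := Set.toFinite _
  set O := hfo.toFinset with hO
  have hmO : ∀ m, m ∈ O ↔ ∃ r : R, (Sy y).mkQ ((r : W ≃ₗ[ZMod 2] W) θ) = m := by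
    intro m
    rw [hO, Set.Finite.mem_toFinset]
    exact Iff.rfl
  have hodd : Odd O.card := by
    have h1 : O.card = (MulAction.stabilizer R lam).index := by
      rw [MulAction.index_stabilizer, Set.ncard_eq_toFinset_card _ hfo]
    have h2 : T.subgroupOf R ≤ MulAction.stabilizer R lam := by
      intro t ht
      rw [MulAction.mem_stabilizer_iff, hsm, hρ, hlam, mk_eq]
      exact h.Tθ _ ht
    rw [h1, ← Nat.not_even_iff_odd, even_iff_two_dvd]
    intro h3
    exact h.sylR hT hR (h3.trans (index_dvd_of_le h2))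
  set s := ∑ m ∈ O, m with hs
  have hinv : ∀ r : R, ρ r s = s := by
    intro r
    rw [hs, map_sum]
    refine Finset.sum_nbij' (fun m => ρ r m) (fun m => ρ r⁻¹ m) ?_ ?_ ?_ ?_ ?_
    · intro m hm
      obtain ⟨k, rfl⟩ := (hmO m).mp hm
      exact (hmO _).mpr ⟨r * k, rfl⟩
    · intro m hm
      obtain ⟨k, rfl⟩ := (hmO m).mp hm
      exact (hmO _).mpr ⟨r⁻¹ * k, rfl⟩
    · intro m _
      change (ρ r⁻¹ * ρ r) m = m
      rw [← map_mul, inv_mul_cancel, map_one]; rfl
    · intro m _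
      change (ρ r * ρ r⁻¹) m = m
      rw [← map_mul, mul_inv_cancel, map_one]; rfl
    · intro m _; rfl
  have hsum : lam + s = ∑ m ∈ O, (lam + m) := by
    rw [Finset.sum_add_distrib, Finset.sum_const]
    congr 1
    obtain ⟨k, hk⟩ := hodd
    rw [hk, add_smul, mul_comm, mul_smul, one_smul, two_smul, addself, smul_zero, zero_add]
  -- `R`-orbit = `L`-orbit
  have horb : ∀ r ∈ R, ∃ l ∈ Ls, (Sy y).mkQ (r θ) = (Sy y).mkQ (l θ) := by
    have hyR : ∀ r ∈ R, r y = y := fun r hr => h.fixy (hR hr)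
    let P : (W ≃ₗ[ZMod 2] W) → Prop := fun r => ∀ l ∈ Ls, ∃ l' ∈ Ls, (Sy y).mkQ (r (l θ)) = (Sy y).mkQ (l' θ)
    have hPL : ∀ r ∈ Ls, P r := fun r hr l hl => ⟨r * l, mul_mem hr hl, rfl⟩
    have hPT : ∀ t ∈ T, P t := by
      intro t ht l hl
      refine ⟨t * l * t⁻¹, L1_conj (hT ht) hl, ?_⟩
      change (Sy y).mkQ (t (l θ)) = (Sy y).mkQ (t (l (t⁻¹ θ)))
      rw [mk_eq]
      rcases h.Tθ _ (T.inv_mem ht) with h1 | h1 <;> rw [h1]
      · left; rfl
      · right
        rw [map_add, map_add, hyR _ (hLR hl), hyR _ (hT ht), add_assoc, addself, add_zero]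
    have key : ∀ r ∈ Ls ⊔ T, (P r ∧ P r⁻¹) ∧ r ∈ R := by
      intro r hr
      rw [sup_eq_closure] at hr
      induction hr using closure_induction with
      | mem x hx =>
        rcases hx with hx | hx
        · exact ⟨⟨hPL x hx, hPL _ (Ls.inv_mem hx)⟩, hLR hx⟩
        · exact ⟨⟨hPT x hx, hPT _ (T.inv_mem hx)⟩, hT hx⟩
      | one => exact ⟨⟨hPL 1 Ls.one_mem, by rw [inv_one]; exact hPL 1 Ls.one_mem⟩, R.one_mem⟩
      | mul a b _ _ ha hb =>
        have hmul : ∀ a b : W ≃ₗ[ZMod 2] W, a ∈ R → P a → P b → P (a * b) := by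
          intro a b haR pa pb l hl
          obtain ⟨l1, hl1, e1⟩ := pb l hl
          obtain ⟨l2, hl2, e2⟩ := pa l1 hl1
          refine ⟨l2, hl2, ?_⟩
          rw [← e2]
          change (Sy y).mkQ (a (b (l θ))) = _
          rw [mk_eq] at e1 ⊢
          rcases e1 with e1 | e1 <;> rw [e1]
          · left; rfl
          · right; rw [map_add, hyR a haR]
        refine ⟨⟨hmul a b ha.2 ha.1.1 hb.1.1, ?_⟩, R.mul_mem ha.2 hb.2⟩
        rw [mul_inv_rev]
        exact hmul _ _ (R.inv_mem hb.2) hb.1.2 ha.1.2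
      | inv a _ ha => exact ⟨⟨ha.1.2, by rw [inv_inv]; exact ha.1.1⟩, R.inv_mem ha.2⟩
    intro r hr
    rw [← hg] at hr
    obtain ⟨l', hl', e⟩ := (key r hr).1.1 1 Ls.one_mem
    exact ⟨l', hl', e⟩
  -- the lift
  obtain ⟨θn, hθn⟩ := (Sy y).mkQ_surjective (lam + s)
  have hs' : (Sy y).mkQ (θ + θn) = s := by
    rw [map_add, hθn, ← add_assoc, ← hlam, addself, zero_add]
  have hlast : ∀ U : Submodule (ZMod 2) W, y ∈ U → (∀ l ∈ Ls, ∀ v ∈ WR R y θ, l v + v ∈ U) → θn ∈ U := by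
    intro U hyU hU
    have h1 : (Sy y).mkQ θn ∈ U.map (Sy y).mkQ := by
      rw [hθn, hsum]
      refine Submodule.sum_mem _ fun m hm => ?_
      obtain ⟨r, rfl⟩ := (hmO m).mp hm
      obtain ⟨l, hl, e⟩ := horb r r.2
      refine ⟨l θ + θ, hU l hl θ θ_mem_WR, ?_⟩
      rw [map_add, e, add_comm]
    obtain ⟨u, hu, e⟩ := h1
    rcases mk_eq.mp e.symm with h2 | h2
    · rw [h2]; exact hu
    · rw [h2]; exact add_mem hu hyU
  refine ⟨θn, hlast _ y_mem_WR fun l hl v hv => ?_, fun r hr => ?_, hlast⟩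
  · exact add_mem (WR_inv (fun r hr => h.fixy (hR hr)) (hLR hl) hv) hv
  · rw [← mk_eq, hs']
    have h1 := hinv ⟨r, hr⟩
    rw [← hs', hρ] at h1
    rw [← hs']
    exact h1

end St

end Cfsg.Agent.Omega.FOne.ThmA

end

section


/-!
# (F1'), the REDUCTION (helper297 #20655 (c)): the faithful section
-/

set_option autoImplicit false
set_option linter.unusedSectionVars false

namespace Cfsg.Agent.Omega.FOne.ThmA

open Subgroup Cfsg Cfsg.Agent.ZN
open Cfsg.Agent.Omega.FOne.Tvw (Base z2 addself ap_inv inv_ap)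
open Cfsg.Agent.Omega.FOne.NOv

universe u

section res

variable {W : Type u} [AddCommGroup W] [Module (ZMod 2) W]

/-- the restriction to an invariant subspace -/
def rs (R : Subgroup (W ≃ₗ[ZMod 2] W)) (V : Submodule (ZMod 2) W) (hV : ∀ r ∈ R, ∀ v ∈ V, r v ∈ V) :
    R →* (V ≃ₗ[ZMod 2] V) where
  toFun r :=
    { toFun := fun v => ⟨(r : W ≃ₗ[ZMod 2] W) (v : W), hV r r.2 v v.2⟩
      map_add' := fun v w => Subtype.ext (map_add (r : W ≃ₗ[ZMod 2] W) (v : W) (w : W))
      map_smul' := fun c v => Subtype.ext (map_smul (r : W ≃ₗ[ZMod 2] W) c (v : W))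
      invFun := fun v => ⟨((r : W ≃ₗ[ZMod 2] W)⁻¹ : W ≃ₗ[ZMod 2] W) (v : W), hV _ (R.inv_mem r.2) v v.2⟩
      left_inv := fun v => Subtype.ext (inv_ap (r : W ≃ₗ[ZMod 2] W) v)
      right_inv := fun v => Subtype.ext (ap_inv (r : W ≃ₗ[ZMod 2] W) v) }
  map_one' := by ext v; rfl
  map_mul' _ _ := by ext v; rfl

theorem card_top' {W : Type*} [AddCommGroup W] [Module (ZMod 2) W] :
    Nat.card (⊤ : Submodule (ZMod 2) W) = Nat.card W := Nat.card_congr (Equiv.Set.univ W)

end res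

/-- the data of the step -/
structure Stp {W : Type u} [AddCommGroup W] [Module (ZMod 2) W] (X R : Subgroup (W ≃ₗ[ZMod 2] W)) (y θ θn : W)
    (T B : Subgroup (W ≃ₗ[ZMod 2] W)) : Prop where
  st : St X y θ T
  hT : T ≤ R
  hR : R ≤ X
  g : Good X y θ B
  inter : B ⊓ Fq R y (WR R y θ) = ⊥
  cover : WR R y θ ⊔ cms y B = ⊤
  mem : θn ∈ WR R y θ
  fixs : ∀ r ∈ R, r (θ + θn) = θ + θn ∨ r (θ + θn) = θ + θn + y
  kn : ∀ k ∈ Fq R y (WR R y θ), k θn = θn

namespace Stp

variable {W : Type u} [AddCommGroup W] [Module (ZMod 2) W] {X R T B : Subgroup (W ≃ₗ[ZMod 2] W)} {y θ θn : W}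
variable (p : Stp X R y θ θn T B)
include p

theorem yR {r : W ≃ₗ[ZMod 2] W} (hr : r ∈ R) : r y = y := p.st.fixy (p.hR hr)

theorem ap_θ {r : W ≃ₗ[ZMod 2] W} (hr : r ∈ R) : r θ = r θn + (θ + θn) ∨ r θ = r θn + (θ + θn) + y := by
  have h1 := p.fixs r hr
  have h2 : r θ = r θn + r (θ + θn) := by
    rw [map_add]
    have := addself (r θn)
    linear_combination (norm := module) -this
  rcases h1 with h1 | h1
  · left; rw [h2, h1]
  · right; rw [h2, h1]; abel

theorem invV {r : W ≃ₗ[ZMod 2] W} (hr : r ∈ R) {v : W} (hv : v ∈ WR R y θn) : r v ∈ WR R y θn :=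
  WR_inv (fun _ hr => p.yR hr) hr hv

/-- `K_R` is trivial on `W_n` -/
theorem kV {k : W ≃ₗ[ZMod 2] W} (hk : k ∈ Fq R y (WR R y θ)) {v : W} (hv : v ∈ WR R y θn) : k v = v := by
  have h1 : WR R y θn ≤ cw (Fq R y (WR R y θ)) := by
    refine WR_le (fun k hk => hk.2.1) fun r hr k hk => ?_
    have h2 := p.kn _ (p.st.ker_conj p.hR (R.inv_mem hr) hk)
    rw [inv_inv] at h2
    change r⁻¹ (k (r θn)) = θn at h2
    rw [← ap_inv r (k (r θn)), h2]
  exact h1 hv k hk

/-- `C_R(M_n) = K_R` -/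
theorem ker_of {x : W ≃ₗ[ZMod 2] W} (hx : x ∈ R) (hf : ∀ v ∈ WR R y θn, x v = v ∨ x v = v + y) :
    x ∈ Fq R y (WR R y θ) := by
  rw [mem_Fq_WR]
  refine ⟨hx, p.yR hx, fun r hr => ?_⟩
  have h1 := hf _ (ap_mem_WR hr)
  have h2 := p.fixs x hx
  rw [← mk_eq] at h1 h2 ⊢
  have h3 : (Sy y).mkQ (r θ) = (Sy y).mkQ (r θn + (θ + θn)) := by
    rw [mk_eq]
    exact p.ap_θ hr
  have h4 : (Sy y).mkQ (x (r θ)) = (Sy y).mkQ (x (r θn + (θ + θn))) := by
    rw [mk_eq] at h3 ⊢
    rcases h3 with h3 | h3 <;> rw [h3]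
    · left; rfl
    · right; rw [map_add, p.yR hx]
  rw [h4, h3, map_add, map_add, map_add (Sy y).mkQ, h1, h2]

variable [Finite W]

theorem BT : B ≤ T := p.g.BO.trans p.st.o2_stb_le

theorem BR : B ≤ R := p.BT.trans p.hT

theorem coverV : WR R y θn ⊔ cms y B = ⊤ := by
  rw [eq_top_iff, ← p.cover]
  refine sup_le (WR_le (Submodule.mem_sup_left y_mem_WR) fun r hr => ?_) le_sup_right
  have h1 : θ + θn ∈ cms y B := fun b hb => p.fixs b (p.BR hb)
  have h2 : y ∈ WR R y θn := y_mem_WR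
  rcases p.ap_θ hr with h3 | h3 <;> rw [h3]
  · exact Submodule.add_mem_sup (ap_mem_WR hr) h1
  · have h4 : r θn + (θ + θn) + y = (r θn + y) + (θ + θn) := by abel
    rw [h4]
    exact Submodule.add_mem_sup (add_mem (ap_mem_WR hr) h2) h1

/-- counting in `W = W_n + C` -/
theorem cnt {C : Submodule (ZMod 2) W} (hC : cms y B ≤ C) :
    Nat.card (WR R y θn) * Nat.card C = Nat.card W * Nat.card (WR R y θn ⊓ C : Submodule (ZMod 2) W) := by
  have h1 : WR R y θn ⊔ C = ⊤ := by
    rw [eq_top_iff, ← p.coverV]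
    exact sup_le_sup_left hC _
  rw [← card_sup_inf, h1, card_top']

/-- `M`-exactness of `D ≤ B` is exactness on `M_n` -/
theorem ex_iff {D : Subgroup (W ≃ₗ[ZMod 2] W)} (hD : D ≤ B) :
    MEx y D ↔ Nat.card D * Nat.card (WR R y θn ⊓ cms y D : Submodule (ZMod 2) W) = Nat.card (WR R y θn) := by
  have h1 := p.cnt (C := cms y D) (cm_anti hD)
  have p1 : 0 < Nat.card (WR R y θn) := Nat.card_pos
  have p2 : 0 < Nat.card W := Nat.card_pos
  constructor
  · intro h2
    have h2' : Nat.card D * Nat.card (cms y D) = Nat.card W := h2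
    refine Nat.eq_of_mul_eq_mul_left p2 ?_
    calc Nat.card W * (Nat.card D * Nat.card (WR R y θn ⊓ cms y D : Submodule (ZMod 2) W))
        = Nat.card D * (Nat.card W * Nat.card (WR R y θn ⊓ cms y D : Submodule (ZMod 2) W)) := by ring
      _ = (Nat.card D * Nat.card (cms y D)) * Nat.card (WR R y θn) := by rw [← h1]; ring
      _ = _ := by rw [h2']
  · intro h2
    change Nat.card D * Nat.card (cms y D) = Nat.card W
    refine Nat.eq_of_mul_eq_mul_left p1 ?_
    calc Nat.card (WR R y θn) * (Nat.card D * Nat.card (cms y D))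
        = Nat.card D * (Nat.card (WR R y θn) * Nat.card (cms y D)) := by ring
      _ = Nat.card W * (Nat.card D * Nat.card (WR R y θn ⊓ cms y D : Submodule (ZMod 2) W)) := by rw [h1]; ring
      _ = Nat.card (WR R y θn) * Nat.card W := by rw [h2, mul_comm]

/-! ### the section -/

/-- the restriction `R → GL(W_n)` -/
noncomputable def f : R →* (WR R y θn ≃ₗ[ZMod 2] WR R y θn) := rs R (WR R y θn) fun _ hr _ hv => p.invV hr hv

theorem f_coe (r : R) (v : WR R y θn) : ((p.f r v : WR R y θn) : W) = (r : W ≃ₗ[ZMod 2] W) v := rfl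

theorem f_eq (r : R) (v w : WR R y θn) : p.f r v = w ↔ (r : W ≃ₗ[ZMod 2] W) v = w := by
  rw [Subtype.ext_iff, p.f_coe]

/-- the image of `X` -/
noncomputable def X' : Subgroup (WR R y θn ≃ₗ[ZMod 2] WR R y θn) := p.f.range

/-- the image of `D ≤ R` -/
noncomputable def im (D : Subgroup (W ≃ₗ[ZMod 2] W)) : Subgroup (WR R y θn ≃ₗ[ZMod 2] WR R y θn) :=
  (D.subgroupOf R).map p.f

theorem mem_im {D : Subgroup (W ≃ₗ[ZMod 2] W)} {x : WR R y θn ≃ₗ[ZMod 2] WR R y θn} :
    x ∈ p.im D ↔ ∃ r : R, (r : W ≃ₗ[ZMod 2] W) ∈ D ∧ p.f r = x := Iff.rfl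

theorem mem_X' {x : WR R y θn ≃ₗ[ZMod 2] WR R y θn} : x ∈ p.X' ↔ ∃ r : R, p.f r = x := Iff.rfl

theorem im_le (D : Subgroup (W ≃ₗ[ZMod 2] W)) : p.im D ≤ p.X' := by
  rintro _ ⟨r, _, rfl⟩
  exact ⟨r, rfl⟩

theorem f_one {r : R} (hf : ∀ v ∈ WR R y θn, (r : W ≃ₗ[ZMod 2] W) v = v ∨ (r : W ≃ₗ[ZMod 2] W) v = v + y) :
    p.f r = 1 := by
  apply LinearEquiv.ext
  intro v
  rw [p.f_eq]
  exact p.kV (p.ker_of r.2 hf) v.2

/-- `y` -/
def y' (_ : Stp X R y θ θn T B) : WR R y θn := ⟨y, y_mem_WR⟩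

/-- `θ_n` -/
def θ' (_ : Stp X R y θ θn T B) : WR R y θn := ⟨θn, θ_mem_WR⟩

theorem mod_iff (r : R) (v w : WR R y θn) : (p.f r v = w ∨ p.f r v = w + p.y') ↔
    ((r : W ≃ₗ[ZMod 2] W) v = w ∨ (r : W ≃ₗ[ZMod 2] W) v = w + y) := by
  rw [p.f_eq, p.f_eq]
  exact Iff.rfl

theorem faith' {x : WR R y θn ≃ₗ[ZMod 2] WR R y θn} (hx : x ∈ p.X') (hf : ∀ w, x w = w ∨ x w = w + p.y') : x = 1 := by
  obtain ⟨r, rfl⟩ := p.mem_X'.mp hx
  exact p.f_one fun v hv => (p.mod_iff r ⟨v, hv⟩ ⟨v, hv⟩).mp (hf ⟨v, hv⟩)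

theorem fixy' {x : WR R y θn ≃ₗ[ZMod 2] WR R y θn} (hx : x ∈ p.X') : x p.y' = p.y' := by
  obtain ⟨r, rfl⟩ := p.mem_X'.mp hx
  rw [p.f_eq]
  exact p.yR r.2

theorem two' : IsPGroup 2 (p.im T) := (p.st.two.of_equiv (subgroupOfEquivOfLe p.hT).symm).map _

theorem syl' : ¬ 2 ∣ (p.im T).relIndex p.X' := by
  intro h1
  refine p.st.sylR p.hT p.hR (h1.trans ?_)
  have h2 : (p.im T).subgroupOf p.X' = (T.subgroupOf R).map p.f.rangeRestrict := by
    ext x
    rw [mem_subgroupOf]
    constructor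
    · rintro ⟨r, hr, e⟩
      exact ⟨r, hr, Subtype.ext e⟩
    · rintro ⟨r, hr, e⟩
      exact ⟨r, hr, congrArg Subtype.val e⟩
  change ((p.im T).subgroupOf p.X').index ∣ (T.subgroupOf R).index
  rw [h2]
  exact index_map_dvd _ p.f.rangeRestrict_surjective

theorem Tθ' : ∀ t ∈ p.im T, t p.θ' = p.θ' ∨ t p.θ' = p.θ' + p.y' := by
  rintro _ ⟨r, hr, rfl⟩
  rw [p.mod_iff]
  have h1 := p.fixs r r.2
  have h2 := p.st.Tθ r hr
  change (r : W ≃ₗ[ZMod 2] W) θn = θn ∨ (r : W ≃ₗ[ZMod 2] W) θn = θn + y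
  rw [← mk_eq] at h1 h2 ⊢
  rw [map_add, map_add, map_add, h2] at h1
  exact add_left_cancel h1

theorem gen' (U : Submodule (ZMod 2) (WR R y θn)) (h1 : p.y' ∈ U) (h2 : ∀ x ∈ p.X', x p.θ' ∈ U) : U = ⊤ := by
  rw [eq_top_iff]
  rintro ⟨v, hv⟩ _
  have h3 : WR R y θn ≤ U.map (WR R y θn).subtype := by
    refine WR_le ⟨_, h1, rfl⟩ fun r hr => ?_
    exact ⟨_, h2 _ ⟨⟨r, hr⟩, rfl⟩, rfl⟩
  obtain ⟨⟨u, hu'⟩, hu, e⟩ := h3 hv
  have : (⟨v, hv⟩ : WR R y θn) = ⟨u, hu'⟩ := Subtype.ext e.symm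
  rw [this]; exact hu

/-- normal 2-subgroups of `X'` are trivial -/
theorem core' (N : Subgroup (WR R y θn ≃ₗ[ZMod 2] WR R y θn)) (hN : N ≤ p.X')
    (hn : ∀ h ∈ p.X', ∀ n ∈ N, h * n * h⁻¹ ∈ N) (h2 : IsPGroup 2 N) : N = ⊥ := by
  have hfin : Finite (WR R y θn ≃ₗ[ZMod 2] WR R y θn) := DFunLike.finite _
  have h3 : N ≤ o2 p.X' := by
    refine le_o2 hN h2 fun x hx => ?_
    rw [mem_normalizer_iff]
    intro n
    constructor
    · exact fun hn' => hn x hx n hn'
    · intro hn'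
      have h1 := hn _ (p.X'.inv_mem hx) _ hn'
      have h2 : x⁻¹ * (x * n * x⁻¹) * x⁻¹⁻¹ = n := by group
      rwa [h2] at h1
  have h4 : N ≤ p.im T := h3.trans (o2_le_of_sylow (p.im_le T) p.two' p.syl')
  rw [eq_bot_iff]
  intro n hnN
  rw [mem_bot]
  refine p.faith' (hN hnN) fun w => ?_
  have h5 : (⊤ : Submodule (ZMod 2) (WR R y θn)) ≤ fm p.y' n := by
    rw [← p.gen' (fm p.y' n) (y_mem_fm (p.fixy' (hN hnN))) ?_]
    intro x hx
    have h6 := hn _ (p.X'.inv_mem hx) n hnN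
    rw [inv_inv] at h6
    have h7 := p.Tθ' _ (h4 h6)
    change n (x p.θ') = x p.θ' ∨ n (x p.θ') = x p.θ' + p.y'
    have h8 : n (x p.θ') = x ((x⁻¹ * n * x) p.θ') := by
      change n (x p.θ') = x (x⁻¹ (n (x p.θ')))
      rw [ap_inv]
    rw [h8]
    rcases h7 with h7 | h7 <;> rw [h7]
    · left; rfl
    · right; rw [map_add, p.fixy' hx]
  exact h5 trivial

theorem θn_ne : θn ≠ 0 ∧ θn ≠ y := by
  by_contra hcon
  have h1 : θn = 0 ∨ θn = y := by
    by_contra h2
    push Not at h2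
    exact hcon h2
  -- then `R` fixes `θ` modulo `y`
  have h2 : (Sy y).mkQ θn = 0 := mk_eq_zero.mpr h1
  have h3 : ∀ r ∈ R, (Sy y).mkQ (r θ) = (Sy y).mkQ θ := by
    intro r hr
    have h4 := p.fixs r hr
    have h5 : (Sy y).mkQ (r θn) = 0 := by
      rw [mk_eq_zero]
      rcases h1 with h1 | h1 <;> rw [h1]
      · left; exact map_zero r
      · right; exact p.yR hr
    rw [← mk_eq, map_add, map_add, map_add, h2, h5, add_zero, add_zero] at h4
    exact h4
  have h4 : B ≤ Fq R y (WR R y θ) := by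
    intro b hb
    rw [mem_Fq_WR]
    refine ⟨p.BR hb, p.yR (p.BR hb), fun r hr => ?_⟩
    rw [← mk_eq]
    exact (h3 _ (R.mul_mem (p.BR hb) hr)).trans (h3 r hr).symm
  have h5 := p.inter
  rw [inf_eq_left.mpr h4] at h5
  exact p.g.atom.ne h5

/-- **the section is a situation** -/
theorem st' : St p.X' p.y' p.θ' (p.im T) where
  known := ML.Final.kgroup_of_surj p.st.known (R.subgroupOf X)
    (p.f.rangeRestrict.comp (subgroupOfEquivOfLe p.hR).toMonoidHom)
    (p.f.rangeRestrict_surjective.comp (subgroupOfEquivOfLe p.hR).surjective)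
  base :=
    { y0 := fun h => p.st.base.y0 (congrArg Subtype.val h)
      fix := fun _ hx => p.fixy' hx
      faith := fun _ hx hf => p.faith' hx hf
      core := fun N hN hn h2 => p.core' N hN hn h2 }
  TX := p.im_le T
  two := p.two'
  syl := p.syl'
  fixT := by
    rintro ⟨w, hw⟩ hf
    have h1 := p.st.fixT w fun t ht => by
      have h2 := hf (p.f ⟨t, p.hT ht⟩) ⟨⟨t, p.hT ht⟩, ht, rfl⟩
      exact congrArg Subtype.val h2
    rcases h1 with h1 | h1
    · left; exact Subtype.ext h1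
    · right; exact Subtype.ext h1
  θ0 := fun h => p.θn_ne.1 (congrArg Subtype.val h)
  θy := fun h => p.θn_ne.2 (congrArg Subtype.val h)
  Tθ := p.Tθ'
  gen := p.gen'

/-! ### the atom -/

theorem f_inj {r s : R} (hr : (r : W ≃ₗ[ZMod 2] W) ∈ B) (hs : (s : W ≃ₗ[ZMod 2] W) ∈ B) (e : p.f r = p.f s) : r = s := by
  have h1 : ((r : W ≃ₗ[ZMod 2] W)⁻¹ * s : W ≃ₗ[ZMod 2] W) ∈ B ⊓ Fq R y (WR R y θ) := by
    refine ⟨B.mul_mem (B.inv_mem hr) hs, ?_⟩
    have h2 : p.f (r⁻¹ * s) = 1 := by rw [map_mul, map_inv, e, inv_mul_cancel]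
    refine p.ker_of (R.mul_mem (R.inv_mem r.2) s.2) fun v hv => Or.inl ?_
    have h3 : p.f (r⁻¹ * s) ⟨v, hv⟩ = ⟨v, hv⟩ := by rw [h2]; rfl
    exact congrArg Subtype.val h3
  rw [p.inter, mem_bot] at h1
  apply Subtype.ext
  exact (inv_mul_eq_one.mp h1)

theorem card_im {D : Subgroup (W ≃ₗ[ZMod 2] W)} (hD : D ≤ B) : Nat.card (p.im D) = Nat.card D := by
  symm
  refine Nat.card_congr (Equiv.ofBijective
    (fun d : D => (⟨p.f ⟨d, p.BR (hD d.2)⟩, ⟨⟨d, p.BR (hD d.2)⟩, d.2, rfl⟩⟩ : p.im D)) ⟨?_, ?_⟩)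
  · rintro ⟨a, ha⟩ ⟨b, hb⟩ e
    have h1 := p.f_inj (r := ⟨a, p.BR (hD ha)⟩) (s := ⟨b, p.BR (hD hb)⟩) (hD ha) (hD hb) (congrArg Subtype.val e)
    exact Subtype.ext (congrArg (fun r : R => (r : W ≃ₗ[ZMod 2] W)) h1)
  · rintro ⟨_, r, hr, rfl⟩
    exact ⟨⟨r, hr⟩, rfl⟩

theorem card_cms {D : Subgroup (W ≃ₗ[ZMod 2] W)} (hD : D ≤ B) :
    Nat.card (cms p.y' (p.im D)) = Nat.card (WR R y θn ⊓ cms y D : Submodule (ZMod 2) W) := by
  refine Nat.card_congr
    { toFun := fun v => ⟨v.1.1, v.1.2, fun d hd => ?_⟩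
      invFun := fun v => ⟨⟨v.1, v.2.1⟩, ?_⟩
      left_inv := fun v => rfl
      right_inv := fun v => rfl }
  · have h1 := v.2 (p.f ⟨d, p.BR (hD hd)⟩) ⟨⟨d, p.BR (hD hd)⟩, hd, rfl⟩
    exact (p.mod_iff _ _ _).mp h1
  · rintro _ ⟨r, hr, rfl⟩
    exact (p.mod_iff _ _ _).mpr (v.2.2 _ hr)

theorem mex_iff {D : Subgroup (W ≃ₗ[ZMod 2] W)} (hD : D ≤ B) : MEx p.y' (p.im D) ↔ MEx y D := by
  rw [p.ex_iff hD, ← p.card_cms hD]
  change Nat.card (p.im D) * Nat.card (cms p.y' (p.im D)) = _ ↔ _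
  rw [p.card_im hD]

/-- **the image of `B` is a good atom** -/
theorem good' : Good p.X' p.y' p.θ' (p.im B) where
  BO := by
    have hfin : Finite (WR R y θn ≃ₗ[ZMod 2] WR R y θn) := DFunLike.finite _
    set O := o2 (Fq X y {θ}) with hO
    have h1 : p.im B ≤ p.im (O ⊓ R) := by
      rintro _ ⟨r, hr, rfl⟩
      exact ⟨r, ⟨p.g.BO hr, r.2⟩, rfl⟩
    refine h1.trans (le_o2 ?_ ?_ ?_)
    · rintro _ ⟨r, hr, rfl⟩
      refine ⟨⟨r, rfl⟩, p.fixy' ⟨r, rfl⟩, ?_⟩
      rintro v rfl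
      have h2 : (r : W ≃ₗ[ZMod 2] W) ∈ T := p.st.o2_stb_le hr.1
      exact p.Tθ' _ ⟨r, h2, rfl⟩
    · refine IsPGroup.map (IsPGroup.of_equiv ?_ (subgroupOfEquivOfLe inf_le_right).symm) _
      exact (isPGroup_o2 _).to_le inf_le_left
    · intro x hx
      have hgen : ∀ x : WR R y θn ≃ₗ[ZMod 2] WR R y θn, x ∈ Fq p.X' p.y' {p.θ'} → ∀ n ∈ p.im (O ⊓ R),
          x * n * x⁻¹ ∈ p.im (O ⊓ R) := by
        rintro _ ⟨⟨r, rfl⟩, -, hr⟩ _ ⟨s, hs, rfl⟩
        refine ⟨r * s * r⁻¹, ⟨?_, (r * s * r⁻¹).2⟩, by rw [map_mul, map_mul, map_inv]⟩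
        have h3 := (p.mod_iff r p.θ' p.θ').mp (hr _ rfl)
        change (r : W ≃ₗ[ZMod 2] W) θn = θn ∨ (r : W ≃ₗ[ZMod 2] W) θn = θn + y at h3
        have h4 := p.fixs r r.2
        have h5 : (r : W ≃ₗ[ZMod 2] W) ∈ Fq X y {θ} := by
          refine ⟨p.hR r.2, p.yR r.2, ?_⟩
          rintro v rfl
          rw [← mk_eq] at h3 h4 ⊢
          rw [map_add, map_add, map_add, h3] at h4
          exact add_right_cancel h4
        exact (mem_normalizer_iff.mp (le_normalizer_o2 _ h5) _).mp hs.1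
      rw [mem_normalizer_iff]
      intro n
      constructor
      · exact fun hn => hgen x hx n hn
      · intro hn
        have h1 := hgen _ ((Fq p.X' p.y' {p.θ'}).inv_mem hx) _ hn
        have h2 : x⁻¹ * (x * n * x⁻¹) * x⁻¹⁻¹ = n := by group
        rwa [h2] at h1
  sq := by
    rintro _ ⟨r, hr, rfl⟩
    rw [← map_mul]
    have : r * r = 1 := Subtype.ext (p.g.sq r hr)
    rw [this, map_one]
  quadM := by
    rintro _ ⟨r, hr, rfl⟩ _ ⟨s, hs, rfl⟩ w
    rw [p.mod_iff]
    exact p.g.quadM r hr s hs w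
  atom :=
    { ne := by
        intro h1
        have h2 := p.card_im (D := B) le_rfl
        rw [h1, Subgroup.card_bot] at h2
        have := p.g.four
        omega
      ex := (p.mex_iff le_rfl).mpr p.g.atom.ex
      min := by
        intro C hC hne hex
        let D : Subgroup (W ≃ₗ[ZMod 2] W) := (C.comap p.f).map R.subtype ⊓ B
        have hD : D ≤ B := inf_le_right
        have h1 : p.im D = C := by
          ext x
          constructor
          · rintro ⟨r, ⟨⟨s, hs, e⟩, -⟩, rfl⟩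
            have : r = s := Subtype.ext e.symm
            rw [this]; exact hs
          · intro hx
            obtain ⟨r, hr, rfl⟩ := hC hx
            exact ⟨r, ⟨⟨r, hx, rfl⟩, hr⟩, rfl⟩
        have h2 : D ≠ ⊥ := by
          intro h3
          apply hne
          rw [← h1, h3]
          rw [eq_bot_iff]
          rintro _ ⟨r, hr, rfl⟩
          rw [mem_bot]
          have : r = 1 := Subtype.ext (mem_bot.mp hr)
          rw [this, map_one]
        rw [← h1] at hex
        have h3 := p.g.atom.min D hD h2 ((p.mex_iff hD).mp hex)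
        rw [← h1, h3] }
  four := by
    rw [p.card_im le_rfl]
    exact p.g.four

theorem card_X' : Nat.card p.X' ≤ Nat.card R := by
  have hfin : Finite (W ≃ₗ[ZMod 2] W) := DFunLike.finite _
  exact Nat.card_le_card_of_surjective p.f.rangeRestrict p.f.rangeRestrict_surjective

end Stp

end Cfsg.Agent.Omega.FOne.ThmA

end

section


/-!
# (F1'), the REDUCTION (helper297 #20655): a minimal situation, in which all atoms are low
-/

set_option autoImplicit false
set_option linter.unusedSectionVars false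

namespace Cfsg.Agent.Omega.FOne.ThmA

open Subgroup Cfsg Cfsg.Agent.ZN
open Cfsg.Agent.Omega.FOne.Tvw (Base z2 addself ap_inv inv_ap)
open Cfsg.Agent.Omega.FOne.NOv

universe u

section

variable {W : Type u} [AddCommGroup W] [Module (ZMod 2) W] [Finite W] {X R T B : Subgroup (W ≃ₗ[ZMod 2] W)} {y θ : W}

/-- one step of the reduction -/
theorem St.step (hML : ML.Final.MLK.{u, u}) (hA : ThA.{u}) (h : St X y θ T) (hT : T ≤ R) (hR : R ≤ X) (hRX : R ≠ X)
    (g : Good X y θ B) (hn : ¬ B ≤ Fq R y (WR R y θ)) :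
    ∃ (W' : Type u) (_ : AddCommGroup W') (_ : Module (ZMod 2) W') (_ : Finite W') (X' : Subgroup (W' ≃ₗ[ZMod 2] W'))
      (y' θ' : W') (T' B' : Subgroup (W' ≃ₗ[ZMod 2] W')), St X' y' θ' T' ∧ Good X' y' θ' B' ∧
        Nat.card X' < Nat.card X := by
  have hfin : Finite (W ≃ₗ[ZMod 2] W) := DFunLike.finite _
  -- a minimal overgroup
  let S : Set (Subgroup (W ≃ₗ[ZMod 2] W)) :=
    {R' | T ≤ R' ∧ R' ≤ R ∧ ∃ B, Good X y θ B ∧ ¬ B ≤ Fq R' y (WR R' y θ)}
  obtain ⟨R₁, hR₁⟩ := (Set.toFinite S).exists_minimal ⟨R, hT, le_rfl, B, g, hn⟩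
  obtain ⟨⟨hT1, hR1, B₁, g₁, hn₁⟩, hmin⟩ := hR₁
  have hR1X : R₁ ≤ X := hR1.trans hR
  obtain ⟨u1, u2, u3⟩ := h.u_eq hML hT1 hR1X g₁ hn₁
  have ha := h.step_a hT1 hR1X g₁ hn₁ fun R' h1 h2 h3 => by
    by_contra h4
    exact h3 (le_antisymm h2 (hmin ⟨h1, h2.trans hR1, B₁, g₁, h4⟩ h2))
  have hBR : B₁ ≤ R₁ := (g₁.BO.trans h.o2_stb_le).trans hT1
  obtain ⟨θn, b1, b2, b3⟩ := h.step_b hT1 hR1X hBR ha
  have hA1 := hA W X R₁ y θ T B₁ h hT1 hR1X g₁ u1 u2 u3
  have hk : θn ∈ cw (Fq R₁ y (WR R₁ y θ)) :=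
    b3 _ (fun k hk => hk.2.1) fun l hl v hv k hk => hA1 k hk l hl v hv
  have p : Stp X R₁ y θ θn T B₁ := ⟨h, hT1, hR1X, g₁, u1, u2, b1, b2, hk⟩
  refine ⟨WR R₁ y θn, inferInstance, inferInstance, inferInstance, p.X', p.y', p.θ', p.im T, p.im B₁, p.st', p.good', ?_⟩
  refine lt_of_le_of_lt p.card_X' ?_
  have h1 : R₁ < X := lt_of_le_of_lt hR1 (lt_of_le_of_ne hR hRX)
  exact Set.ncard_lt_ncard (SetLike.coe_ssubset_coe.mpr h1) (Set.toFinite _)

/-- **the minimal situation** -/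
theorem exists_min (hML : ML.Final.MLK.{u, u}) (hA : ThA.{u}) (n : ℕ) :
    ∀ (W : Type u) [AddCommGroup W] [Module (ZMod 2) W] [Finite W] (X : Subgroup (W ≃ₗ[ZMod 2] W)) (y θ : W)
      (T B : Subgroup (W ≃ₗ[ZMod 2] W)), Nat.card X = n → St X y θ T → Good X y θ B →
      ∃ (W' : Type u) (_ : AddCommGroup W') (_ : Module (ZMod 2) W') (_ : Finite W')
        (X' : Subgroup (W' ≃ₗ[ZMod 2] W')) (y' θ' : W') (T' B' : Subgroup (W' ≃ₗ[ZMod 2] W')),
        St X' y' θ' T' ∧ Good X' y' θ' B' ∧ LA X' y' θ' T' := by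
  induction n using Nat.strong_induction_on with
  | _ n ih =>
    intro W _ _ _ X y θ T B hn st g
    by_cases hLA : LA X y θ T
    · exact ⟨W, inferInstance, inferInstance, inferInstance, X, y, θ, T, B, st, g, hLA⟩
    · simp only [LA, not_forall] at hLA
      obtain ⟨B₁, g₁, R, hT, hR, hRX, hlow⟩ := hLA
      have h1 : ¬ B₁ ≤ Fq R y (WR R y θ) := fun h2 => hlow ⟨st.low_of hT hR g₁ h2, h2⟩
      obtain ⟨W', i1, i2, i3, X', y', θ', T', B', st', g', hlt⟩ := st.step hML hA hT hR hRX g₁ h1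
      exact ih _ (hn ▸ hlt) W' X' y' θ' T' B' rfl st' g'

/-- the minimal situation is a faithful section in the sense of helper854 -/
theorem fs_of (st : St X y θ T) (g : Good X y θ B) (la : LA X y θ T) : Glue.Fs X y θ T B where
  known := st.known
  base := st.base
  TX := st.TX
  two := st.two
  syl := st.syl
  fixT := st.fixT
  θ0 := st.θ0
  θy := st.θy
  Tθ := st.Tθ
  swap := by
    by_contra hcon
    push Not at hcon
    rcases st.fixT θ fun t ht => (st.Tθ t ht).resolve_right (hcon t ht) with h1 | h1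
    · exact st.θ0 h1
    · exact st.θy h1
  gen := st.gen
  BT := g.BO.trans st.o2_stb_le
  sq := g.sq
  quadM := g.quadM
  atom := g.atom
  four := g.four
  low := fun R hT hR hRX => (la B g R hT hR hRX).1

end

section start

variable {W : Type u} [AddCommGroup W] [Module (ZMod 2) W] [Finite W] {H T N A B : Subgroup (W ≃ₗ[ZMod 2] W)} {y : W}
  {L : Submodule (ZMod 2) W}

/-- the situation of `AtomTwo` -/
theorem start (s : Sw H y T N L) (a : Ax y N A) (hBA : B ≤ A) (hB : MAtom y B) (h2 : Nat.card B ≠ 2) :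
    ∃ θ, St H y θ T ∧ Good H y θ B := by
  classical
  have hfin : Finite (W ≃ₗ[ZMod 2] W) := DFunLike.finite _
  obtain ⟨θ, hθ, θ0, θy⟩ : ∃ l ∈ L, l ≠ 0 ∧ l ≠ y := by
    by_contra hcon
    push Not at hcon
    have h1 : (L : Set W) ⊆ (({0, y} : Finset W) : Set W) := by
      intro v hv
      by_cases h0 : v = 0
      · simp [h0]
      · simp [hcon v hv h0]
    have h2 := Set.ncard_le_ncard h1 (Finset.finite_toSet _)
    rw [Set.ncard_coe_finset] at h2
    have h3 : (L : Set W).ncard = 4 := s.card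
    have h4 := Finset.card_le_two (a := (0 : W)) (b := y)
    omega
  have hL := fun {u : W} (hu : u ∈ L) => mem_L s.card s.yL s.base.y0 hθ θ0 θy hu
  have hfix : ∀ x ∈ H, x y = y := s.base.fix
  have hst : ∀ x ∈ H, x θ ∈ L → x θ = θ ∨ x θ = θ + y := by
    intro x hx hxL
    rcases hL hxL with h1 | h1 | h1 | h1
    · exact absurd (x.injective (h1.trans (map_zero x).symm)) θ0
    · exact absurd (x.injective (h1.trans (hfix x hx).symm)) θy
    · exact Or.inl h1
    · exact Or.inr h1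
  refine ⟨θ, ⟨s.known, s.base, s.TH, s.two, s.syl, s.fixT, θ0, θy, fun t ht => hst t (s.TH ht) (s.TL t ht θ hθ),
    fun U hy hU => s.gen U fun h hh v hv => ?_⟩, ⟨?_, fun b hb => a.sq b (hBA hb), fun c hc d hd w =>
      Or.inl (a.quad c (hBA hc) d (hBA hd) w), hB, ?_⟩⟩
  · rcases hL hv with rfl | rfl | rfl | rfl
    · rw [map_zero]; exact zero_mem _
    · rw [hfix h hh]; exact hy
    · exact hU h hh
    · rw [map_add, hfix h hh]; exact add_mem (hU h hh) hy
  · refine (hBA.trans a.AN).trans (le_o2 ?_ s.N2 ?_)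
    · intro n hn
      refine ⟨s.NH hn, hfix n (s.NH hn), ?_⟩
      rintro v rfl
      left; exact s.NL n hn v hθ
    · have key : ∀ x ∈ Fq H y {θ}, ∀ n ∈ N, x * n * x⁻¹ ∈ N := by
        rintro x ⟨hx, hxy, hxθ⟩ n hn
        refine s.Nn x hx (fun v hv => ?_) n hn
        have h3 : x θ ∈ L := by
          rcases hxθ θ rfl with h1 | h1 <;> rw [h1]
          · exact hθ
          · exact add_mem hθ s.yL
        rcases hL hv with rfl | rfl | rfl | rfl
        · rw [map_zero]; exact zero_mem _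
        · rw [hxy]; exact hv
        · exact h3
        · rw [map_add, hxy]; exact add_mem h3 s.yL
      intro x hx
      rw [mem_normalizer_iff]
      intro n
      constructor
      · exact fun hn => key x hx n hn
      · intro hn
        have h1 := key _ (inv_mem hx) _ hn
        have h2 : x⁻¹ * (x * n * x⁻¹) * x⁻¹⁻¹ = n := by group
        rwa [h2] at h1
  · have hB2 : IsPGroup 2 B := s.N2.to_le (hBA.trans a.AN)
    obtain ⟨k, hk⟩ := (IsPGroup.iff_card.mp hB2)
    have hk0 : k ≠ 0 := by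
      rintro rfl
      exact hB.ne (Subgroup.card_eq_one.mp (by rw [hk, pow_zero]))
    have hk1 : k ≠ 1 := by
      rintro rfl
      exact h2 (by rw [hk, pow_one])
    rw [hk]
    calc 4 = 2 ^ 2 := by norm_num
      _ ≤ 2 ^ k := Nat.pow_le_pow_right (by norm_num) (by omega)

end start

end Cfsg.Agent.Omega.FOne.ThmA

end

end
end

-- part: Mrg/Omega/FOne/Glue/FsPs
section
section


/-!
# (F1'), the K-route: from the additive section `Fs` to the multiplicative section `Ps` (helper854)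

`Fs.ps` : `Fs X y θ T B`, (ML) and (nmax) give `Ps` for `X` acting on `Multiplicative W` and on `QM y = W / y`.
`Fs.nmax` : (nmax) (helper728);  `Fs.psR` : with `FsLa`, `PsR`.
-/

set_option autoImplicit false
set_option linter.unusedSectionVars false

namespace Cfsg.Agent.Omega.FOne.Glue

open Subgroup Cfsg
open Cfsg.Agent.ZN (o2)
open Cfsg.Agent.Omega.FOne.Tvw (Base z2 addself)
open Cfsg.Agent.Omega.FOne.NOv
open Cfsg.Agent.ClassTwoFusion.Quad
open Cfsg.Agent.MinSimple.VModule (o2_isPGroup o2_le le_o2 le_normalizer_o2)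

universe u

/-- `o2` of the image of a subgroup of `X` -/
theorem o2_map {G : Type*} [Group G] {X : Subgroup G} (R : Subgroup X) :
    (o2 (R.map X.subtype)).subgroupOf X ≤ o2 R := by
  refine le_o2 ?_ ?_ ?_
  · intro x hx
    rw [mem_subgroupOf] at hx
    have h1 := o2_le _ hx
    obtain ⟨r, hr, he⟩ := mem_map.mp h1
    have : r = x := Subtype.ext he
    rwa [← this]
  · exact (o2_isPGroup _).comap_subtype
  · have key : ∀ r ∈ R, ∀ x ∈ (o2 (R.map X.subtype)).subgroupOf X,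
        r * x * r⁻¹ ∈ (o2 (R.map X.subtype)).subgroupOf X := by
      intro r hr x hx
      rw [mem_subgroupOf] at hx ⊢
      have h1 : (r : G) ∈ R.map X.subtype := ⟨r, hr, rfl⟩
      have h2 := le_normalizer_o2 _ h1
      rw [mem_normalizer_iff] at h2
      exact (h2 _).mp hx
    intro r hr
    rw [mem_normalizer_iff]
    intro x
    refine ⟨key r hr x, fun hx => ?_⟩
    have h1 := key r⁻¹ (inv_mem hr) _ hx
    have h2 : r⁻¹ * (r * x * r⁻¹) * r⁻¹⁻¹ = x := by group
    rwa [h2] at h1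

section ps

variable {W : Type u} [AddCommGroup W] [Module (ZMod 2) W]

/-- the four-group `{0, y, θ, θ + y}` -/
def ln (y θ : W) : Submodule (ZMod 2) W where
  carrier := {v | v = 0 ∨ v = y ∨ v = θ ∨ v = θ + y}
  zero_mem' := Or.inl rfl
  add_mem' := by
    have e1 : y + y = 0 := addself y
    have e2 : θ + θ = 0 := addself θ
    have e3 : y + (θ + y) = θ := by rw [add_comm θ y, ← add_assoc, e1, zero_add]
    have e4 : θ + (θ + y) = y := by rw [← add_assoc, e2, zero_add]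
    have e5 : θ + y + y = θ := by rw [add_assoc, e1, add_zero]
    have e6 : θ + y + θ = y := by rw [add_comm, e4]
    have e7 : θ + y + (θ + y) = 0 := addself _
    have e8 : y + θ = θ + y := add_comm _ _
    rintro a b (h | h | h | h) (h' | h' | h' | h') <;> rw [h, h'] <;>
      simp only [Set.mem_ofPred_eq, e1, e2, e3, e4, e5, e6, e7, e8, zero_add, add_zero, true_or, or_true]
  smul_mem' := by
    intro c v hv
    rcases z2 c with rfl | rfl
    · rw [zero_smul]; exact Or.inl rfl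
    · rw [one_smul]; exact hv

theorem mem_ln {y θ v : W} : v ∈ ln y θ ↔ v = 0 ∨ v = y ∨ v = θ ∨ v = θ + y := Iff.rfl

theorem card_ln {y θ : W} (y0 : y ≠ 0) (θ0 : θ ≠ 0) (θy : θ ≠ y) : Nat.card (ln y θ) = 4 := by
  classical
  have h1 : ((({0, y, θ, θ + y} : Finset W) : Set W)) = (ln y θ : Set W) := by
    ext v
    simp only [Finset.coe_insert, Finset.coe_singleton, Set.mem_insert_iff, Set.mem_singleton_iff, SetLike.mem_coe,
      mem_ln]
  have n1 : (0 : W) ∉ ({y, θ, θ + y} : Finset W) := by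
    simp only [Finset.mem_insert, Finset.mem_singleton]
    rintro (h | h | h)
    · exact y0 h.symm
    · exact θ0 h.symm
    · exact θy (Tvw.eq_of_add_eq_zero' h.symm)
  have n2 : y ∉ ({θ, θ + y} : Finset W) := by
    simp only [Finset.mem_insert, Finset.mem_singleton]
    rintro (h | h)
    · exact θy h.symm
    · exact θ0 (by simpa using h.symm)
  have n3 : θ ∉ ({θ + y} : Finset W) := by
    simp only [Finset.mem_singleton]
    intro h
    exact y0 (by simpa using h.symm)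
  have hc : ({0, y, θ, θ + y} : Finset W).card = 4 := by
    rw [Finset.card_insert_of_notMem n1, Finset.card_insert_of_notMem n2, Finset.card_insert_of_notMem n3,
      Finset.card_singleton]
  change (ln y θ : Set W).ncard = 4
  rw [← h1, Set.ncard_coe_finset, hc]

variable [Finite W]
variable {X : Subgroup (W ≃ₗ[ZMod 2] W)} {y θ : W} {T B : Subgroup (W ≃ₗ[ZMod 2] W)}

/-- the stabiliser of `{0, y, θ, θ + y}` in `X` -/
def stl (X : Subgroup (W ≃ₗ[ZMod 2] W)) (hX : ∀ x ∈ X, x y = y) (θ : W) : Subgroup (W ≃ₗ[ZMod 2] W) where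
  carrier := {x | x ∈ X ∧ (x θ = θ ∨ x θ = θ + y)}
  one_mem' := ⟨one_mem _, Or.inl rfl⟩
  mul_mem' := by
    rintro a b ⟨ha, ha'⟩ ⟨hb, hb'⟩
    refine ⟨mul_mem ha hb, ?_⟩
    have e1 : y + y = 0 := addself y
    rw [LinearEquiv.mul_apply]
    rcases hb' with h | h <;> rw [h]
    · exact ha'
    · rw [map_add, hX a ha]
      rcases ha' with h' | h' <;> rw [h']
      · exact Or.inr rfl
      · left; rw [add_assoc, e1, add_zero]
  inv_mem' := by
    rintro a ⟨ha, ha'⟩
    refine ⟨inv_mem ha, ?_⟩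
    have e1 : y + y = 0 := addself y
    have e2 : a⁻¹ (a θ) = θ := by
      rw [← LinearEquiv.mul_apply, inv_mul_cancel]; rfl
    rcases ha' with h | h
    · left; rw [h] at e2; exact e2
    · right
      rw [h, map_add, hX _ (inv_mem ha)] at e2
      calc a⁻¹ θ = a⁻¹ θ + y + y := by rw [add_assoc, e1, add_zero]
        _ = θ + y := by rw [e2]

theorem stl_le (hX : ∀ x ∈ X, x y = y) : stl X hX θ ≤ X := fun _ h => h.1

theorem Fs.ln_mem (F : Fs X y θ T B) {x : W ≃ₗ[ZMod 2] W} (hx : x ∈ X) (h : x θ = θ ∨ x θ = θ + y) {v : W}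
    (hv : v ∈ ln y θ) : x v ∈ ln y θ := by
  have hθ : θ ∈ ln y θ := Or.inr (Or.inr (Or.inl rfl))
  have hy : y ∈ ln y θ := Or.inr (Or.inl rfl)
  have h1 : x θ ∈ ln y θ := by
    rcases h with h | h <;> rw [h]
    · exact hθ
    · exact Submodule.add_mem _ hθ hy
  rcases hv with rfl | rfl | rfl | rfl
  · rw [map_zero]; exact Submodule.zero_mem _
  · rw [F.base.fix x hx]; exact hy
  · exact h1
  · rw [map_add, F.base.fix x hx]; exact Submodule.add_mem _ h1 hy

theorem Fs.stl_of (F : Fs X y θ T B) {x : W ≃ₗ[ZMod 2] W} (hx : x ∈ X) (h : ∀ v ∈ ln y θ, x v ∈ ln y θ) :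
    x θ = θ ∨ x θ = θ + y := by
  have hθ : θ ∈ ln y θ := Or.inr (Or.inr (Or.inl rfl))
  obtain ⟨n0, ny⟩ := Tvw.Blk.ne_of F.base hx F.θ0 F.θy
  rcases h θ hθ with h | h | h | h
  · exact absurd h n0
  · exact absurd h ny
  · exact Or.inl h
  · exact Or.inr h

theorem Fs.stl_ne (F : Fs X y θ T B) : stl X F.base.fix θ ≠ X := by
  intro he
  have h1 : ln y θ = ⊤ := F.gen _ (Or.inr (Or.inl rfl)) fun x hx => by
    have h2 : x ∈ stl X F.base.fix θ := by rw [he]; exact hx
    exact F.ln_mem hx h2.2 (Or.inr (Or.inr (Or.inl rfl)))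
  obtain ⟨t, ht, hte⟩ := F.swap
  have htX := F.TX ht
  have h3 : t = 1 := by
    refine F.base.faith t htX fun w => ?_
    have hw : w ∈ ln y θ := by rw [h1]; exact Submodule.mem_top
    have e1 : y + y = 0 := addself y
    rcases hw with rfl | rfl | rfl | rfl
    · left; exact map_zero t
    · left; exact F.base.fix t htX
    · right; exact hte
    · right; rw [map_add, hte, F.base.fix t htX]
  rw [h3] at hte
  have h4 : θ = θ + y := hte
  exact F.base.y0 (by simpa using h4.symm)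

theorem Fs.T_le (F : Fs X y θ T B) : T ≤ stl X F.base.fix θ := fun t ht => ⟨F.TX ht, F.Tθ t ht⟩

/-- **(NO)** for the subgroups of `B` -/
theorem Fs.no (hML : ML.Final.MLK.{u, u}) (F : Fs X y θ T B) {C : Subgroup (W ≃ₗ[ZMod 2] W)} (hC : C ≤ B) :
    Nat.card C * Nat.card (cm y C) ≤ Nat.card W := by
  have hR := F.low _ F.T_le (stl_le F.base.fix) F.stl_ne
  refine no_of hML (T := T) (Q := o2 (stl X F.base.fix θ)) (L := ln y θ) F.known F.base F.TX F.two F.syl
    (card_ln F.base.y0 F.θ0 F.θy) (Or.inr (Or.inl rfl)) (fun t ht v hv => F.ln_mem (F.TX ht) (F.Tθ t ht) hv) ?_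
    ((o2_le _).trans (stl_le _)) (o2_isPGroup _) ?_ ?_ (hC.trans hR) (fun b hb => F.sq b (hC hb))
  · intro U hU
    refine F.gen U ?_ fun x hx => hU x hx θ (Or.inr (Or.inr (Or.inl rfl)))
    have := hU 1 (one_mem _) y (Or.inr (Or.inl rfl))
    exact this
  · intro q hq v hv
    have h1 := o2_le _ hq
    exact F.ln_mem h1.1 h1.2 hv
  · intro h hh hL q hq
    have h1 : h ∈ stl X F.base.fix θ := ⟨hh, F.stl_of hh hL⟩
    have h2 := le_normalizer_o2 _ h1
    rw [mem_normalizer_iff] at h2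
    exact (h2 _).mp hq

/-- the fixed points of `C` on `W / y` -/
theorem index_eq (F : Fs X y θ T B) (C : Subgroup X) :
    letI := qact X y F.base.fix
    Nat.card (cm y (C.map X.subtype)) * (cv (QM y) (C : Set X)).index = Nat.card W := by
  let _ := qact X y F.base.fix
  have hfQ : Finite (QM y) := Finite.of_surjective (qm y) (qm_surj y)
  have hsm : ∀ (h : X) (w : W), h • qm y w = qm y ((h : W ≃ₗ[ZMod 2] W) w) := fun _ _ => rfl
  have hCm : ∀ w, qm y w ∈ cv (QM y) (C : Set X) ↔ w ∈ cm y (C.map X.subtype) := by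
    intro w
    constructor
    · rintro h1 _ ⟨a, ha, rfl⟩
      have h2 : a • qm y w = qm y w := h1 _ ha
      rw [hsm, qm_eq] at h2
      exact h2
    · intro h1 a ha
      change a • qm y w = qm y w
      rw [hsm, qm_eq]
      exact h1 _ ⟨a, ha, rfl⟩
  have h1 := card_cm F.base.y0 _ _ hCm
  have h2 : Nat.card (cm y (⊥ : Subgroup (W ≃ₗ[ZMod 2] W))) = 2 * Nat.card (⊤ : Subgroup (QM y)) := by
    refine card_cm F.base.y0 ⊥ ⊤ fun w => ⟨fun _ a ha => ?_, fun _ => mem_top _⟩
    rw [mem_bot.mp ha]; left; rfl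
  have h3 : Nat.card (cm y (⊥ : Subgroup (W ≃ₗ[ZMod 2] W))) = Nat.card W := by
    have : cm y (⊥ : Subgroup (W ≃ₗ[ZMod 2] W)) = Set.univ := by
      rw [Set.eq_univ_iff_forall]
      intro w a ha
      rw [mem_bot.mp ha]; left; rfl
    rw [this, Nat.card_univ]
  rw [h3, Subgroup.card_top] at h2
  have h4 := (cv (QM y) (C : Set X)).card_mul_index
  rw [h1, h2, ← h4]
  ring

theorem map_sub {C : Subgroup (W ≃ₗ[ZMod 2] W)} (hC : C ≤ X) : (C.subgroupOf X).map X.subtype = C := by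
  rw [subgroupOf_map_subtype, inf_eq_left.mpr hC]

theorem card_sub {C : Subgroup (W ≃ₗ[ZMod 2] W)} (hC : C ≤ X) : Nat.card (C.subgroupOf X) = Nat.card C :=
  Nat.card_congr (subgroupOfEquivOfLe hC).toEquiv

theorem card_map (C : Subgroup X) : Nat.card (C.map X.subtype) = Nat.card C :=
  (Nat.card_congr (C.equivMapOfInjective _ X.subtype_injective).toEquiv).symm

/-- **From `Fs` to `Ps`** -/
theorem Fs.ps (hML : ML.Final.MLK.{u, u}) (F : Fs X y θ T B)
    (hn : ¬ ∃ N : Subgroup (W ≃ₗ[ZMod 2] W), N ≤ X ∧ N ≠ X ∧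
      ∀ R : Subgroup (W ≃ₗ[ZMod 2] W), T ≤ R → R ≤ X → R ≠ X → R ≤ N) :
    letI := wact X
    letI := qact X y F.base.fix
    Ps (X := X) (M := QM y) (W := Multiplicative W) (T.subgroupOf X) (B.subgroupOf X) (qp y)
      (Multiplicative.ofAdd y) (Multiplicative.ofAdd θ) := by
  let _ := wact X
  let _ := qact X y F.base.fix
  have hfin : Finite (W ≃ₗ[ZMod 2] W) := DFunLike.finite _
  have hfQ : Finite (QM y) := Finite.of_surjective (qm y) (qm_surj y)
  have hBX : B ≤ X := F.BT.trans F.TX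
  have hsm : ∀ (h : X) (w : W), h • qm y w = qm y ((h : W ≃ₗ[ZMod 2] W) w) := fun _ _ => rfl
  have hqp : ∀ w : W, qp y (Multiplicative.ofAdd w) = qm y w := fun _ => rfl
  have hlow : ∀ R : Subgroup X, T.subgroupOf X ≤ R → R ≠ ⊤ → B.subgroupOf X ≤ o2 R := by
    intro R hTR hR
    refine le_trans ?_ (o2_map R)
    have h1 : B ≤ o2 (R.map X.subtype) := by
      refine F.low _ ?_ (map_subtype_le _) ?_
      · rw [← map_sub F.TX]
        exact map_mono hTR
      · intro he
        apply hR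
        rw [eq_top_iff]
        intro x _
        have h2 : (x : W ≃ₗ[ZMod 2] W) ∈ R.map X.subtype := by rw [he]; exact x.2
        obtain ⟨r, hr, hrx⟩ := h2
        have : r = x := Subtype.ext hrx
        rwa [← this]
    exact comap_mono h1
  have hWpos : 0 < Nat.card W := Nat.card_pos
  refine
    { known := F.known
      sq := fun w => ?_
      eqv := fun x w => rfl
      surj := fun v => ?_
      ker := fun w => ?_
      y1 := fun h => F.base.y0 (Multiplicative.ofAdd.injective h)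
      fixy := fun x => ?_
      faith := fun x hx => ?_
      core := fun N hN h2 => ?_
      two := F.two.comap_subtype
      syl := F.syl
      fixT := fun w hw => ?_
      Tθ := fun t ht => ?_
      θ1 := ?_
      gen := fun U hU hθ => ?_
      BT := comap_mono F.BT
      el := fun b hb => Subtype.ext (F.sq _ hb)
      quad := fun a ha b hb m => ?_
      four := ?_
      exact := ?_
      atom := fun C hCB hC1 hCn => ?_
      low := hlow
      nmax := ?_ }
  · exact addself (Multiplicative.toAdd w)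
  · obtain ⟨w, rfl⟩ := qm_surj y v
    exact ⟨Multiplicative.ofAdd w, rfl⟩
  · have h1 : qp y w = 1 ↔ qm y (Multiplicative.toAdd w) = qm y 0 := Iff.rfl
    rw [h1, qm_eq, zero_add]
    exact Iff.rfl
  · exact congrArg Multiplicative.ofAdd (F.base.fix x.1 x.2)
  · apply Subtype.ext
    refine F.base.faith _ x.2 fun w => ?_
    have h1 : x • qm y w = qm y w := hx _
    rw [hsm, qm_eq] at h1
    exact h1
  · have h1 : N.map X.subtype = ⊥ := by
      refine F.base.core _ (map_subtype_le _) ?_ (h2.map _)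
      rintro h hh _ ⟨n, hn', rfl⟩
      exact ⟨_, hN.conj_mem n hn' ⟨h, hh⟩, rfl⟩
    exact (map_eq_bot_iff_of_injective _ X.subtype_injective).mp h1
  · exact F.fixT (Multiplicative.toAdd w) fun t ht => hw ⟨t, F.TX ht⟩ ht
  · rw [hqp, hsm, qm_eq]
    exact F.Tθ _ ht
  · rw [hqp]
    intro h
    rw [← qm_zero y, qm_eq, zero_add] at h
    exact h.elim F.θ0 F.θy
  · -- generation
    let V : Submodule (ZMod 2) W :=
      { carrier := {w | qm y w ∈ U}
        zero_mem' := by
          change qm y 0 ∈ U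
          rw [qm_zero]; exact one_mem _
        add_mem' := fun {a c} ha hc => by
          change qm y (a + c) ∈ U
          rw [qm_add]; exact mul_mem ha hc
        smul_mem' := fun c w hw => by
          change qm y (c • w) ∈ U
          rcases z2 c with rfl | rfl
          · rw [zero_smul, qm_zero]; exact one_mem _
          · rw [one_smul]; exact hw }
    have hV : V = ⊤ := by
      refine F.gen V ?_ fun x hx => ?_
      · change qm y y ∈ U
        have : qm y y = qm y 0 := qm_eq.mpr (Or.inr (by rw [zero_add]))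
        rw [this, qm_zero]; exact one_mem _
      · exact hU ⟨x, hx⟩ _ hθ
    rw [eq_top_iff]
    intro v _
    obtain ⟨w, rfl⟩ := qm_surj y v
    have : w ∈ V := by rw [hV]; exact Submodule.mem_top
    exact this
  · -- quadratic
    obtain ⟨w, rfl⟩ := qm_surj y m
    have hinv : (qm y w)⁻¹ = qm y w := by
      rw [inv_eq_iff_mul_eq_one, ← qm_add, addself, qm_zero]
    have h1 : (a • qm y w) * (qm y w)⁻¹ = qm y ((a : W ≃ₗ[ZMod 2] W) w + w) := by
      rw [hinv, qm_add, hsm]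
    rw [h1, hsm, qm_eq]
    exact F.quadM _ ha _ hb w
  · rw [card_sub hBX]; exact F.four
  · -- exact
    have h1 := index_eq F (B.subgroupOf X)
    rw [map_sub hBX] at h1
    have h2 : Nat.card B * Nat.card (cm y B) = Nat.card W := F.atom.ex
    have h3 : 0 < Nat.card (cm y B) := Nat.pos_of_ne_zero fun h0 => by
      rw [h0, mul_zero] at h2; omega
    rw [card_sub hBX]
    refine Nat.eq_of_mul_eq_mul_left h3 ?_
    rw [h1, ← h2, mul_comm]
  · -- atom
    have hCm : C.map X.subtype ≤ B := by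
      rw [← map_sub hBX]; exact map_mono hCB
    have h1 := index_eq F C
    have h2 := F.no hML hCm
    rw [card_map] at h2
    have h3 : 0 < Nat.card (cm y (C.map X.subtype)) := Nat.pos_of_ne_zero fun h0 => by
      rw [h0, zero_mul] at h1; omega
    have h4 : Nat.card C ≤ (cv (QM y) (C : Set X)).index := by
      refine Nat.le_of_mul_le_mul_left ?_ h3
      rw [h1, mul_comm]; exact h2
    refine lt_of_le_of_ne h4 fun he => hCn ?_
    have h5 : MEx y (C.map X.subtype) := by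
      show Nat.card (C.map X.subtype) * Nat.card (cm y (C.map X.subtype)) = Nat.card W
      rw [card_map, he, mul_comm]; exact h1
    have h6 : C.map X.subtype = B := by
      refine F.atom.min _ hCm (fun h0 => hC1 ?_) h5
      exact (map_eq_bot_iff_of_injective _ X.subtype_injective).mp h0
    have h7 : (C.map X.subtype).subgroupOf X = C := comap_map_eq_self_of_injective X.subtype_injective _
    rw [← h7, h6]
  · -- nmax
    rintro ⟨N, hN, hN'⟩
    apply hn
    refine ⟨N.map X.subtype, map_subtype_le _, ?_, fun R hTR hRX hR => ?_⟩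
    · intro he
      apply hN
      rw [eq_top_iff]
      intro x _
      have h2 : (x : W ≃ₗ[ZMod 2] W) ∈ N.map X.subtype := by rw [he]; exact x.2
      obtain ⟨r, hr, hrx⟩ := h2
      have : r = x := Subtype.ext hrx
      rwa [← this]
    · rw [← map_sub hRX]
      refine map_mono (hN' _ (comap_mono hTR) fun h => hR ?_)
      rw [subgroupOf_eq_top] at h
      exact le_antisymm hRX h

/-! ### (nmax), (LA) and `PsR` -/

/-- **(nmax)** (helper728) -/
theorem Fs.nmax (F : Fs X y θ T B) : ¬ ∃ N : Subgroup (W ≃ₗ[ZMod 2] W), N ≤ X ∧ N ≠ X ∧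
    ∀ R : Subgroup (W ≃ₗ[ZMod 2] W), T ≤ R → R ≤ X → R ≠ X → R ≤ N := by
  rintro ⟨N, hN, hNX, hmax⟩
  refine Act.no_min F.base F.TX F.two F.syl F.fixT F.θ0 F.θy F.Tθ F.gen F.BT F.sq F.atom F.four
    (M0 := N) (fun h => hNX (le_antisymm hN h)) fun K hTK hKX => ?_
  by_cases h : K = X
  · exact Or.inr h
  · exact Or.inl (hmax K hTK hKX h)

/-- `o2` of the image, the other inclusion -/
theorem map_o2 {G : Type*} [Group G] {X : Subgroup G} (R : Subgroup X) :
    (o2 R).map X.subtype ≤ o2 (R.map X.subtype) := by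
  refine le_o2 (map_mono (o2_le R)) ((o2_isPGroup _).map _) ?_
  rintro _ ⟨r, hr, rfl⟩
  rw [mem_normalizer_iff]
  have h2 := le_normalizer_o2 _ hr
  rw [mem_normalizer_iff] at h2
  intro x
  constructor
  · rintro ⟨q, hq, rfl⟩
    exact ⟨r * q * r⁻¹, (h2 q).mp hq, rfl⟩
  · rintro ⟨q, hq, he⟩
    refine ⟨r⁻¹ * q * r, ?_, ?_⟩
    · refine (h2 _).mpr ?_
      have : r * (r⁻¹ * q * r) * r⁻¹ = q := by group
      rw [this]; exact hq
    · have he' : (q : G) = r * x * (r : G)⁻¹ := he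
      change (r : G)⁻¹ * q * r = x
      rw [he']; group

section conj

variable {g : W ≃ₗ[ZMod 2] W}

theorem mem_cj' {G : Type*} [Group G] {g : G} {C : Subgroup G} {x : G} :
    x ∈ C.map (MulAut.conj g).toMonoidHom ↔ g⁻¹ * x * g ∈ C := Omega.NOThree.NoOver.mem_cj

theorem cm_conj (hg : g y = y) (C : Subgroup (W ≃ₗ[ZMod 2] W)) (w : W) :
    g w ∈ cm y (C.map (MulAut.conj g).toMonoidHom) ↔ w ∈ cm y C := by
  have key : ∀ c : W ≃ₗ[ZMod 2] W, (g * c * g⁻¹) (g w) = g (c w) := by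
    intro c
    have e : (g * c * g⁻¹) (g w) = g (c (g⁻¹ (g w))) := rfl
    rw [e, ← LinearEquiv.mul_apply g⁻¹ g, inv_mul_cancel]; rfl
  have key2 : ∀ c : W ≃ₗ[ZMod 2] W, ((g * c * g⁻¹) (g w) = g w ∨ (g * c * g⁻¹) (g w) = g w + y) ↔
      (c w = w ∨ c w = w + y) := by
    intro c
    rw [key]
    have e : g w + y = g (w + y) := by rw [map_add, hg]
    rw [e]
    exact or_congr g.injective.eq_iff g.injective.eq_iff
  constructor
  · intro h c hc
    exact (key2 c).mp (h _ ⟨c, hc, rfl⟩)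
  · rintro h _ ⟨c, hc, rfl⟩
    exact (key2 c).mpr (h c hc)

theorem card_cm_conj (hg : g y = y) (C : Subgroup (W ≃ₗ[ZMod 2] W)) :
    Nat.card (cm y (C.map (MulAut.conj g).toMonoidHom)) = Nat.card (cm y C) := by
  refine (Nat.card_congr (Equiv.subtypeEquiv g.toEquiv fun w => ?_)).symm
  exact (cm_conj hg C w).symm

theorem card_conj {G : Type*} [Group G] (g : G) (C : Subgroup G) :
    Nat.card (C.map (MulAut.conj g).toMonoidHom) = Nat.card C :=
  (Nat.card_congr (C.equivMapOfInjective _ (MulAut.conj g).injective).toEquiv).symm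

theorem MEx_conj (hg : g y = y) {C : Subgroup (W ≃ₗ[ZMod 2] W)} :
    MEx y (C.map (MulAut.conj g).toMonoidHom) ↔ MEx y C := by
  unfold MEx
  rw [card_cm_conj hg, card_conj]

theorem conj_conj_inv {G : Type*} [Group G] (g : G) (C : Subgroup G) :
    (C.map (MulAut.conj g⁻¹).toMonoidHom).map (MulAut.conj g).toMonoidHom = C := by
  ext x
  rw [mem_cj', mem_cj']
  have : g⁻¹⁻¹ * (g⁻¹ * x * g) * g⁻¹ = x := by group
  rw [this]

theorem MAtom_conj (hg : g y = y) {C : Subgroup (W ≃ₗ[ZMod 2] W)} (h : MAtom y C) :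
    MAtom y (C.map (MulAut.conj g).toMonoidHom) where
  ne := fun h0 => h.ne ((map_eq_bot_iff_of_injective _ (MulAut.conj g).injective).mp h0)
  ex := (MEx_conj hg).mpr h.ex
  min := by
    intro D hD hD1 hDe
    have e : (D.map (MulAut.conj g⁻¹).toMonoidHom).map (MulAut.conj g).toMonoidHom = D := conj_conj_inv g D
    have h1 : D.map (MulAut.conj g⁻¹).toMonoidHom ≤ C := by
      rintro _ ⟨d, hd, rfl⟩
      obtain ⟨c, hc, hcd⟩ := hD hd
      have h2 : g * c * g⁻¹ = d := hcd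
      change g⁻¹ * d * g⁻¹⁻¹ ∈ C
      rw [← h2]
      have : g⁻¹ * (g * c * g⁻¹) * g⁻¹⁻¹ = c := by group
      rw [this]; exact hc
    have h2 : D.map (MulAut.conj g⁻¹).toMonoidHom ≠ ⊥ := fun h0 => hD1 (by
      rw [← e, h0, Subgroup.map_bot])
    have h3 : MEx y (D.map (MulAut.conj g⁻¹).toMonoidHom) := by
      rw [← MEx_conj hg, e]; exact hDe
    rw [← e, h.min _ h1 h2 h3]

end conj

/-- **From `Fs` and `FsLa` to `PsR`** -/
theorem Fs.psR (hML : ML.Final.MLK.{u, u}) (F : Fs X y θ T B) (hla : FsLa X y θ T) :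
    letI := wact X
    letI := qact X y F.base.fix
    ML.Ex.PsR (X := X) (M := QM y) (W := Multiplicative W) (T.subgroupOf X) (B.subgroupOf X) (qp y) (qm y θ) := by
  let _ := wact X
  let _ := qact X y F.base.fix
  have hsm : ∀ (h : X) (w : W), h • qm y w = qm y ((h : W ≃ₗ[ZMod 2] W) w) := fun _ _ => rfl
  have P := F.ps hML F.nmax
  have hBX : B ≤ X := F.BT.trans F.TX
  refine
    { known := P.known
      sq := P.sq
      eqv := P.eqv
      surj := P.surj
      ker := fun w hw x => ?_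
      faith := P.faith
      core := P.core
      two := P.two
      syl := P.syl
      fixT := fun w hw => (P.ker w).mpr (P.fixT w hw)
      gen := P.gen
      BT := P.BT
      el := P.el
      quad := P.quad
      four := P.four
      exact := P.exact
      atom := P.atom
      low := P.low
      nmax := P.nmax
      la := ⟨P.Tθ, P.θ1, ?_⟩ }
  · rcases (P.ker w).mp hw with rfl | rfl
    · exact smul_one x
    · exact P.fixy x
  · intro g hg R hTR hR
    have hgX : (g : W ≃ₗ[ZMod 2] W) ∈ X := g.2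
    have hgy : (g : W ≃ₗ[ZMod 2] W) y = y := F.base.fix _ g.2
    set S : Subgroup X := MulAction.stabilizer X (qm y θ) with hS
    have hSm : S.map X.subtype = stl X F.base.fix θ := by
      ext x
      constructor
      · rintro ⟨s, hs, rfl⟩
        have h1 : s • qm y θ = qm y θ := hs
        rw [hsm, qm_eq] at h1
        exact ⟨s.2, h1⟩
      · rintro ⟨hx, h1⟩
        refine ⟨⟨x, hx⟩, ?_, rfl⟩
        change (⟨x, hx⟩ : X) • qm y θ = qm y θ
        rw [hsm, qm_eq]; exact h1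
    set B₁ := B.map (MulAut.conj (g : W ≃ₗ[ZMod 2] W)).toMonoidHom with hB₁
    have e1 : (Omega.NOThree.NoOver.cj g (B.subgroupOf X)).map X.subtype = B₁ := by
      ext x
      constructor
      · rintro ⟨c, ⟨b, hb, rfl⟩, rfl⟩
        exact ⟨b, hb, rfl⟩
      · rintro ⟨b, hb, rfl⟩
        exact ⟨(g * ⟨b, hBX hb⟩ * g⁻¹ :), ⟨⟨b, hBX hb⟩, hb, rfl⟩, rfl⟩
    have h1 : B₁ ≤ o2 (stl X F.base.fix θ) := by
      rw [← e1, ← hSm]
      exact (map_mono hg).trans (map_o2 S)
    have e2 : ∀ (b : W ≃ₗ[ZMod 2] W) (w : W), (g * b * (g : W ≃ₗ[ZMod 2] W)⁻¹) w =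
        (g : W ≃ₗ[ZMod 2] W) (b ((g : W ≃ₗ[ZMod 2] W)⁻¹ w)) := fun _ _ => rfl
    have e3 : ∀ w : W, (g : W ≃ₗ[ZMod 2] W) ((g : W ≃ₗ[ZMod 2] W)⁻¹ w) = w := by
      intro w
      rw [← LinearEquiv.mul_apply, mul_inv_cancel]; rfl
    have e4 : ∀ w : W, (g : W ≃ₗ[ZMod 2] W)⁻¹ ((g : W ≃ₗ[ZMod 2] W) w) = w := by
      intro w
      rw [← LinearEquiv.mul_apply, inv_mul_cancel]; rfl
    have h2 : B₁ ≤ o2 (R.map X.subtype) := by
      refine hla (stl X F.base.fix θ) (fun _ => Iff.rfl) B₁ h1 ?_ ?_ (MAtom_conj hgy F.atom)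
        (by rw [hB₁, card_conj]; exact F.four) _ ?_ (map_subtype_le _) ?_
      · rintro _ ⟨b, hb, rfl⟩
        rw [← map_mul, F.sq b hb, map_one]
      · rintro _ ⟨a, ha, rfl⟩ _ ⟨b, hb, rfl⟩ w
        have h3 := F.quadM a ha b hb ((g : W ≃ₗ[ZMod 2] W)⁻¹ w)
        change (g * b * (g : W ≃ₗ[ZMod 2] W)⁻¹) ((g * a * (g : W ≃ₗ[ZMod 2] W)⁻¹) w + w) =
          (g * a * (g : W ≃ₗ[ZMod 2] W)⁻¹) w + w ∨ (g * b * (g : W ≃ₗ[ZMod 2] W)⁻¹)
          ((g * a * (g : W ≃ₗ[ZMod 2] W)⁻¹) w + w) = (g * a * (g : W ≃ₗ[ZMod 2] W)⁻¹) w + w + y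
        have e5 : (g * a * (g : W ≃ₗ[ZMod 2] W)⁻¹) w + w = (g : W ≃ₗ[ZMod 2] W)
            (a ((g : W ≃ₗ[ZMod 2] W)⁻¹ w) + (g : W ≃ₗ[ZMod 2] W)⁻¹ w) := by
          rw [e2, map_add, e3]
        rw [e5, e2, e4]
        rcases h3 with h3 | h3 <;> rw [h3]
        · exact Or.inl rfl
        · right; rw [map_add _ (a _ + _) y, hgy]
      · rw [← map_sub F.TX]; exact map_mono hTR
      · intro he
        apply hR
        rw [eq_top_iff]
        intro x _
        have h2 : (x : W ≃ₗ[ZMod 2] W) ∈ R.map X.subtype := by rw [he]; exact x.2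
        obtain ⟨r, hr, hrx⟩ := h2
        have : r = x := Subtype.ext hrx
        rwa [← this]
    refine le_trans ?_ (o2_map R)
    intro c hc
    rw [mem_subgroupOf]
    apply h2
    rw [← e1]
    exact ⟨c, hc, rfl⟩

end ps

end Cfsg.Agent.Omega.FOne.Glue

end

section


/-!
# (F1'), the K-route: `AtomTwo`, `PTv`, `FOneP` from the pieces (helper854)

* `ToFs` : THEOREM A + the REDUCTION (helper297 #20655; helper396);
* `ML.Ex.EndPieces` : RED with the W-part and (LA), the K-list, the rows (file `ML/Ex/LA.lean`);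
* `atomTwo_of`, `ptv_of`, `fOneP_of`.
-/

set_option autoImplicit false
set_option linter.unusedSectionVars false

namespace Cfsg.Agent.Omega.FOne.Glue

open Subgroup Cfsg
open Cfsg.Agent.Omega.FOne.NOv
open Cfsg.Agent.Omega.ML.Ex (EndPieces PsR)

universe u v w

/-- **THEOREM A + REDUCTION** : a counterexample to `AtomTwo` gives a faithful section with (LA) -/
def ToFs : Prop :=
  ∀ (W : Type u) [AddCommGroup W] [Module (ZMod 2) W] [Finite W] (H : Subgroup (W ≃ₗ[ZMod 2] W)) (y : W)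
    (T N A B : Subgroup (W ≃ₗ[ZMod 2] W)) (L : Submodule (ZMod 2) W), Sw H y T N L → Ax y N A → B ≤ A →
    MAtom y B → Nat.card B ≠ 2 →
    ∃ (W' : Type u) (_ : AddCommGroup W') (_ : Module (ZMod 2) W') (_ : Finite W')
      (X : Subgroup (W' ≃ₗ[ZMod 2] W')) (y' θ : W') (T' B' : Subgroup (W' ≃ₗ[ZMod 2] W')),
      Fs X y' θ T' B' ∧ FsLa X y' θ T'

/-- `PsR` does not occur -/
def DeadR : Prop :=
  ∀ (X : Type u) [Group X] [Finite X] (M : Type u) [CommGroup M] [Finite M] [MulDistribMulAction X M]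
    (W : Type u) [CommGroup W] [Finite W] [MulDistribMulAction X W] (T B : Subgroup X) (p : W →* M) (m : M),
    ¬ PsR T B p m

theorem deadR_of (E : EndPieces.{u, u, u}) : DeadR.{u} := fun X _ _ M _ _ _ W _ _ _ T B p m h => E.false h

/-- **`AtomTwo`** -/
theorem atomTwo_of (hT : ToFs.{u}) (hD : DeadR.{u}) (hML : ML.Final.MLK.{u, u}) : AtomTwo.{u} := by
  intro W _ _ _ H y T N A B L S X hBA hB
  by_contra hcon
  obtain ⟨W', _, _, _, X', y', θ, T', B', F, hla⟩ := hT W H y T N A B L S X hBA hB hcon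
  have hfin : Finite (W' ≃ₗ[ZMod 2] W') := DFunLike.finite _
  have hfQ : Finite (QM y') := Finite.of_surjective (qm y') (qm_surj y')
  let _ := wact X'
  let _ := qact X' y' F.base.fix
  exact hD X' (QM y') (Multiplicative W') _ _ _ _ (F.psR hML hla)

/-- **`PTv`** -/
theorem ptv_of (hT : ToFs.{u}) (hD : DeadR.{u}) (hML : ML.Final.MLK.{u, u}) : PTv.{u} :=
  NOv.ptv_of (atomTwo_of hT hD hML) NOv.trSwap

/-- **(F1) for the leaf `TwoOne`** -/
theorem fOneP_of (hT : ToFs.{u}) (hD : DeadR.{u}) (hML : ML.Final.MLK.{u, u}) (K : Frame.Cls.{u}) :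
    NO3S.TwoOne.FOneP K :=
  NOv.fOneP_of K hML (ptv_of hT hD hML)

end Cfsg.Agent.Omega.FOne.Glue

end

section


/-!
# (F1'), `ToFs` from (ML) and THEOREM A
-/

set_option autoImplicit false
set_option linter.unusedSectionVars false

namespace Cfsg.Agent.Omega.FOne.ThmA

open Subgroup Cfsg Cfsg.Agent.ZN
open Cfsg.Agent.Omega.FOne.NOv

universe u

theorem fsLa_of {W : Type u} [AddCommGroup W] [Module (ZMod 2) W] {X T : Subgroup (W ≃ₗ[ZMod 2] W)} {y θ : W}
    (st : St X y θ T) (la : LA X y θ T) : Glue.FsLa X y θ T := by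
  intro Z hZ B₁ hB sq quad atom four R hT hR hRX
  have h1 : Z = Fq X y {θ} := by
    ext x
    rw [hZ, mem_Fq]
    constructor
    · rintro ⟨h1, h2⟩
      exact ⟨h1, st.base.fix x h1, by rintro v rfl; exact h2⟩
    · rintro ⟨h1, -, h2⟩
      exact ⟨h1, h2 θ rfl⟩
  rw [h1] at hB
  exact (la B₁ ⟨hB, sq, quad, atom, four⟩ R hT hR hRX).1

/-- **`ToFs`** from (ML) and THEOREM A -/
theorem toFs_of (hML : ML.Final.MLK.{u, u}) (hA : ThA.{u}) : Glue.ToFs.{u} := by
  intro W _ _ _ H y T N A B L s a hBA hB h2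
  obtain ⟨θ, st, g⟩ := start s a hBA hB h2
  obtain ⟨W', i1, i2, i3, X', y', θ', T', B', st', g', la⟩ := exists_min hML hA _ W H y θ T B rfl st g
  exact ⟨W', i1, i2, i3, X', y', θ', T', B', fs_of st' g' la, fsLa_of st' la⟩

end Cfsg.Agent.Omega.FOne.ThmA

end

section


/-!
# (F1'): `ToFs`, `AtomTwo`, `PTv`, `FOneP` from (ML) and `EndPieces`
-/

set_option autoImplicit false

namespace Cfsg.Agent.Omega.FOne.ThmR

open Subgroup Cfsg
open Cfsg.Agent.Omega.ML.Ex (EndPieces)

universe u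

/-- **`ToFs`** from (ML) -/
theorem toFs (hML : ML.Final.MLK.{u, u}) : Glue.ToFs.{u} := ThmA.toFs_of hML (thA hML)

/-- **(F1)** from (ML) and the last pieces -/
theorem fOneP (hML : ML.Final.MLK.{u, u}) (E : EndPieces.{u, u, u}) (K : Frame.Cls.{u}) : NO3S.TwoOne.FOneP K :=
  Glue.fOneP_of (toFs hML) (Glue.deadR_of E) hML K

end Cfsg.Agent.Omega.FOne.ThmR

end

section


/-!
# (F1'), `ToFs` from (ML) : THEOREM A (helper425) and the REDUCTION
-/

set_option autoImplicit false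

namespace Cfsg.Agent.Omega.FOne.ThmA

universe u

end Cfsg.Agent.Omega.FOne.ThmA

end

section


/-!
# (F1'), the K-route: `ToFs` from THEOREM A (helper854; the reduction is helper396's)
-/

set_option autoImplicit false

namespace Cfsg.Agent.Omega.FOne.Glue

open Subgroup Cfsg
open Cfsg.Agent.ZN (o2)
open Cfsg.Agent.Omega.FOne.NOv

universe u

end Cfsg.Agent.Omega.FOne.Glue

end
end

private theorem dce_ec2bf02fd40e : _root_.True := by
  try have : _root_.True := by simp only [_root_.Cfsg.Agent.Omega.FOne.ThmA.WR.eq_1]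
  try have : _root_.True := by simp only [_root_.Cfsg.Agent.Omega.FOne.ThmA.L1.eq_1]
  try have : _root_.True := by simp only [_root_.Cfsg.Agent.Omega.FOne.NOv.TrA.cn.eq_1]
  try have : _root_.True := by simp only [_root_.Cfsg.Agent.Omega.FOne.ThmA.Mv.eq_1]
  try have : _root_.True := by simp only [_root_.Cfsg.Agent.Omega.FOne.ThmA.LA.eq_1]
  exact _root_.True.intro
end

-- part: Mrg/Omega/FOne/QR/Plug
section
prune_inst 0x40000002000000058211000004440000900003000118400a400206b2000000064044a00800100a02000000004011000080000000000000000040000000802840009208a104250019803086080c00000000000000000000000000041004000000000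
set_option linter.all false
open scoped Cfsg.Agent.FastGrp

-- merged: Cfsg.Agent.Mrg.Omega.FOne.QR.Def
section

section


/-!
# (F1), the K-route for `R` of any size (helper69)

`X` acts on the 𝔽₂-space `W` and centralises `R ≤ W`, `C_W(T) ≤ R`; `M = W / R` is faithful.

* `cmR R B` : the preimage of `C_{W/R}(B)`;
* `FsR R θ T B` : THE FAITHFUL SECTION, additive form: `R`, `θ` instead of `{0, y}`, `θ`;
* `SwR R θ T N`, `AtR R N B` : the hypotheses of the reduction.
-/

set_option autoImplicit false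
set_option linter.unusedSectionVars false

namespace Cfsg.Agent.Omega.FOne.QR

open Subgroup Cfsg Cfsg.Agent.ZN

universe u v

section

variable {X : Type u} [Group X] {W : Type v} [AddCommGroup W] [DistribMulAction X W]

/-- the preimage in `W` of the fixed points of `B` on `W / R` -/
def cmR (R : AddSubgroup W) (B : Subgroup X) : AddSubgroup W where
  carrier := {w | ∀ b ∈ B, b • w + w ∈ R}
  zero_mem' := fun b _ => by rw [smul_zero, add_zero]; exact R.zero_mem
  add_mem' := by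
    intro v w hv hw b hb
    rw [smul_add, add_add_add_comm]
    exact R.add_mem (hv b hb) (hw b hb)
  neg_mem' := by
    intro w hw b hb
    rw [smul_neg, ← neg_add]
    exact R.neg_mem (hw b hb)

theorem sub_eq_add_of {W : Type v} [AddCommGroup W] (two : ∀ w : W, w + w = 0) (a b : W) : a - b = a + b := by
  rw [sub_eq_add_neg, neg_eq_of_add_eq_zero_left (two b)]

theorem mem_cmR {R : AddSubgroup W} {B : Subgroup X} {w : W} : w ∈ cmR R B ↔ ∀ b ∈ B, b • w + w ∈ R := Iff.rfl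

theorem cmR_anti {R : AddSubgroup W} {B C : Subgroup X} (h : C ≤ B) : cmR R B ≤ cmR R C := fun _ hw b hb => hw b (h hb)

/-- **The faithful section**, additive form. -/
structure FsR (R : AddSubgroup W) (θ : W) (T B : Subgroup X) : Prop where
  known : IsKGroupWith IsKnownSimple' X
  finX : Finite X
  finW : Finite W
  two : ∀ w : W, w + w = 0
  fixR : ∀ x : X, ∀ r ∈ R, x • r = r
  faith : ∀ x : X, (∀ w : W, x • w + w ∈ R) → x = 1
  T2 : IsPGroup 2 T
  syl : ¬ 2 ∣ T.index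
  fixT : ∀ w : W, (∀ t ∈ T, t • w = w) → w ∈ R
  θR : θ ∉ R
  Tθ : ∀ t ∈ T, t • θ + θ ∈ R
  gen : ∀ U : AddSubgroup W, R ≤ U → (∀ x : X, x • θ ∈ U) → U = ⊤
  BT : B ≤ T
  sq : ∀ b ∈ B, b * b = 1
  quad : ∀ a ∈ B, ∀ b ∈ B, ∀ w : W, a • (b • w + w) + (b • w + w) ∈ R
  four : 4 ≤ Nat.card B
  exact : (cmR R B).index = Nat.card B
  atom : ∀ C : Subgroup X, C ≤ B → C ≠ ⊥ → C ≠ B → Nat.card C < (cmR R C).index
  low : ∀ Q : Subgroup X, T ≤ Q → Q ≠ ⊤ → B ≤ o2 Q

/-- The hypotheses on `(H, W, R, θ, T, N)`. -/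
structure SwR (R : AddSubgroup W) (θ : W) (T N : Subgroup X) : Prop where
  known : IsKGroupWith IsKnownSimple' X
  finX : Finite X
  finW : Finite W
  two : ∀ w : W, w + w = 0
  fixR : ∀ x : X, ∀ r ∈ R, x • r = r
  faith : ∀ x : X, (∀ w : W, x • w + w ∈ R) → x = 1
  T2 : IsPGroup 2 T
  syl : ¬ 2 ∣ T.index
  fixT : ∀ w : W, (∀ t ∈ T, t • w = w) → w ∈ R
  θR : θ ∉ R
  Tθ : ∀ t ∈ T, t • θ + θ ∈ R
  gen : ∀ U : AddSubgroup W, R ≤ U → (∀ x : X, x • θ ∈ U) → U = ⊤
  N2 : IsPGroup 2 N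
  Nθ : ∀ n ∈ N, n • θ + θ ∈ R
  Nn : ∀ x : X, x • θ + θ ∈ R → ∀ n ∈ N, x * n * x⁻¹ ∈ N

/-- an atom of order at least 4 in `N` -/
structure AtR (R : AddSubgroup W) (N B : Subgroup X) : Prop where
  BN : B ≤ N
  sq : ∀ b ∈ B, b * b = 1
  quad : ∀ a ∈ B, ∀ b ∈ B, ∀ w : W, a • (b • w + w) + (b • w + w) ∈ R
  four : 4 ≤ Nat.card B
  exact : (cmR R B).index = Nat.card B
  atom : ∀ C : Subgroup X, C ≤ B → C ≠ ⊥ → C ≠ B → Nat.card C < (cmR R C).index

end

/-! ### the action on `W / R`, multiplicatively -/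

section quo

variable {X : Type u} [Group X] {W : Type v} [AddCommGroup W] [DistribMulAction X W]

/-- `W / R`, written multiplicatively -/
abbrev MR (R : AddSubgroup W) : Type v := Multiplicative (W ⧸ R)

/-- the projection -/
def mk (R : AddSubgroup W) (w : W) : MR R := Multiplicative.ofAdd (QuotientAddGroup.mk w)

theorem mk_add (R : AddSubgroup W) (a b : W) : mk R (a + b) = mk R a * mk R b := rfl

theorem mk_zero (R : AddSubgroup W) : mk R 0 = 1 := rfl

theorem mk_surj {R : AddSubgroup W} (v : MR R) : ∃ w, mk R w = v := by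
  obtain ⟨w, hw⟩ := QuotientAddGroup.mk_surjective (Multiplicative.toAdd v)
  exact ⟨w, congrArg Multiplicative.ofAdd hw⟩

theorem mk_eq {R : AddSubgroup W} {a b : W} : mk R a = mk R b ↔ a - b ∈ R := by
  have h1 : mk R a = mk R b ↔ (QuotientAddGroup.mk a : W ⧸ R) = QuotientAddGroup.mk b := Iff.rfl
  rw [h1, QuotientAddGroup.eq, ← neg_mem_iff]
  have e : -(-a + b) = a - b := by abel
  rw [e]

theorem mk_eq' (two : ∀ w : W, w + w = 0) {R : AddSubgroup W} {a b : W} : mk R a = mk R b ↔ a + b ∈ R := by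
  rw [mk_eq, sub_eq_add_of two]

theorem mk_one {R : AddSubgroup W} {a : W} : mk R a = 1 ↔ a ∈ R := by
  rw [← mk_zero, mk_eq, sub_zero]

/-- the projection as a homomorphism -/
def mkH (R : AddSubgroup W) : Multiplicative W →* MR R := AddMonoidHom.toMultiplicative (QuotientAddGroup.mk' R)

theorem mkH_surj (R : AddSubgroup W) : Function.Surjective (mkH R) := fun v => by
  obtain ⟨w, hw⟩ := mk_surj v
  exact ⟨Multiplicative.ofAdd w, hw⟩

/-- `X` acts on `W / R` -/
@[reducible] def act {R : AddSubgroup W} (hR : ∀ x : X, ∀ r ∈ R, x • r = r) : MulDistribMulAction X (MR R) where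
  smul x v := Multiplicative.ofAdd (QuotientAddGroup.map R R (DistribSMul.toAddMonoidHom W x)
    (fun r hr => by
      rw [AddSubgroup.mem_comap, DistribSMul.toAddMonoidHom_apply, hR x r hr]; exact hr) (Multiplicative.toAdd v))
  one_smul v := by
    obtain ⟨w, rfl⟩ := mk_surj v
    change mk R ((1 : X) • w) = mk R w
    rw [one_smul]
  mul_smul g h v := by
    obtain ⟨w, rfl⟩ := mk_surj v
    change mk R ((g * h) • w) = mk R (g • h • w)
    rw [mul_smul]
  smul_mul g v w := by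
    obtain ⟨v, rfl⟩ := mk_surj v
    obtain ⟨w, rfl⟩ := mk_surj w
    change mk R (g • (v + w)) = mk R (g • v + g • w)
    rw [smul_add]
  smul_one g := by
    change mk R (g • (0 : W)) = mk R 0
    rw [smul_zero]

/-- an action of `X` on `W / R` which is the natural one -/
structure IsA (X : Type u) [Group X] {W : Type v} [AddCommGroup W] [DistribMulAction X W] (R : AddSubgroup W)
    [MulDistribMulAction X (MR R)] : Prop where
  smul : ∀ (x : X) (w : W), x • mk R w = mk R (x • w)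

end quo

end Cfsg.Agent.Omega.FOne.QR

end

section


/-!
# (F1), `R` of any size: atoms (helper792, for `QR/Front.lean`)

* `exists_atom` : an exact group `A ≠ 1` whose subgroups are sub-exact contains an atom;
* `add_mem_of_two`, `dich_of_two` : `(cmR R B).index = 2`;
* `card_cases` : a nontrivial 2-group has order 2 or at least 4.
-/

set_option autoImplicit false
set_option linter.unusedSectionVars false

namespace Cfsg.Agent.Omega.FOne.QR

open Subgroup Cfsg Cfsg.Agent.ZN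

universe u v

variable {X : Type u} [Group X] {W : Type v} [AddCommGroup W] [DistribMulAction X W]

/-- `(cmR R B).index = 2`: the sum of two vectors outside is inside. -/
theorem add_mem_of_two {R : AddSubgroup W} {B : Subgroup X} (hix : (cmR R B).index = 2) {v w : W}
    (hv : v ∉ cmR R B) (hw : w ∉ cmR R B) : v + w ∈ cmR R B :=
  (AddSubgroup.add_mem_iff_of_index_two hix).2 (iff_of_false hv hw)

/-- A nontrivial 2-group has order 2 or at least 4. -/
theorem card_cases [Finite X] {B : Subgroup X} (h2 : IsPGroup 2 B) (hne : B ≠ ⊥) :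
    Nat.card B = 2 ∨ 4 ≤ Nat.card B := by
  have : Fact (Nat.Prime 2) := ⟨Nat.prime_two⟩
  obtain ⟨n, hn⟩ := IsPGroup.iff_card.1 h2
  rcases n with _ | _ | n
  · rw [pow_zero, Subgroup.card_eq_one] at hn
    exact absurd hn hne
  · exact Or.inl (by rw [hn]; norm_num)
  · right
    rw [hn]
    calc 4 = 2 ^ 2 := by norm_num
      _ ≤ 2 ^ (n + 1 + 1) := Nat.pow_le_pow_right (by norm_num) (by omega)

end Cfsg.Agent.Omega.FOne.QR

end

section


/-!
# (F1), the K-route for `R` of any size: the minimal overgroup, first part (helper69)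

* `Bs`, `kk`, `sp` : `C_X(U / R)`, the preimage of `⟨z^X⟩`;
* `no_rel` : (ML) for `X ≤ H` on `⟨z^X⟩`;
* `SwR.dich` : an atom is trivial on `M_X` or `B ∩ K_X = 1`, `W = W_X + C(B)`;
* `SwR.le_o2_of_le` : an atom in `K_Q` is in `O₂(Q)`.
-/

set_option autoImplicit false
set_option linter.unusedSectionVars false

namespace Cfsg.Agent.Omega.FOne.QR

open Subgroup Cfsg Cfsg.Agent.ZN
open Cfsg.Agent.Omega.ML.MinFrame (orb fxr)
open Cfsg.Agent.ClassTwoFusion.Quad (cv mem_cv)

universe u v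

variable {H : Type u} [Group H] {W : Type v} [AddCommGroup W] [DistribMulAction H W]

/-- `R` is centralised by `H`, `W` has exponent 2 -/
structure Bs (H : Type u) [Group H] {W : Type v} [AddCommGroup W] [DistribMulAction H W] (R : AddSubgroup W) :
    Prop where
  two : ∀ w : W, w + w = 0
  fixR : ∀ h : H, ∀ r ∈ R, h • r = r

/-- `{h : [U, h] ≤ R}` -/
def kk {R : AddSubgroup W} (b : Bs H R) (U : AddSubgroup W) : Subgroup H where
  carrier := {h | ∀ u ∈ U, h • u + u ∈ R}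
  one_mem' := fun u _ => by rw [one_smul, b.two]; exact R.zero_mem
  mul_mem' := by
    intro g h hg hh u hu
    have e : (g * h) • u + u = g • (h • u + u) + (g • u + u) := by
      have h1 : g • u + g • u = 0 := b.two _
      rw [mul_smul, smul_add]
      calc g • h • u + u = g • h • u + (g • u + g • u) + u := by rw [h1, add_zero]
        _ = _ := by abel
    rw [e, b.fixR g _ (hh u hu)]
    exact R.add_mem (hh u hu) (hg u hu)
  inv_mem' := by
    intro h hh u hu
    have e : h⁻¹ • u + u = h⁻¹ • (h • u + u) := by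
      rw [smul_add, inv_smul_smul, add_comm]
    rw [e, b.fixR _ _ (hh u hu)]
    exact hh u hu

variable {R : AddSubgroup W} (b : Bs H R)

theorem kk_conj {U : AddSubgroup W} {x k : H} (hU : ∀ u ∈ U, x⁻¹ • u ∈ U) (hk : k ∈ kk b U) :
    x * k * x⁻¹ ∈ kk b U := by
  intro u hu
  have e : (x * k * x⁻¹) • u + u = x • (k • x⁻¹ • u + x⁻¹ • u) := by
    rw [smul_add, smul_inv_smul, mul_smul, mul_smul]
  rw [e, b.fixR _ _ (hk _ (hU u hu))]
  exact hk _ (hU u hu)

/-- the preimage of `⟨z^X⟩` -/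
def sp (R : AddSubgroup W) (X : Subgroup H) (z : W) : AddSubgroup W :=
  AddSubgroup.closure ((R : Set W) ∪ {w | ∃ x ∈ X, w = x • z})

theorem le_sp (R : AddSubgroup W) (X : Subgroup H) (z : W) : R ≤ sp R X z := fun _ hr =>
  AddSubgroup.subset_closure (Or.inl hr)

theorem smul_mem_sp' (R : AddSubgroup W) {X : Subgroup H} (z : W) {x : H} (hx : x ∈ X) : x • z ∈ sp R X z :=
  AddSubgroup.subset_closure (Or.inr ⟨x, hx, rfl⟩)

theorem mem_sp (R : AddSubgroup W) (X : Subgroup H) (z : W) : z ∈ sp R X z := by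
  have := smul_mem_sp' R z X.one_mem
  rwa [one_smul] at this

theorem sp_le {U : AddSubgroup W} {X : Subgroup H} {z : W} (hR : R ≤ U) (hU : ∀ x ∈ X, x • z ∈ U) : sp R X z ≤ U := by
  rw [sp, AddSubgroup.closure_le]
  rintro w (hw | ⟨x, hx, rfl⟩)
  · exact hR hw
  · exact hU x hx

include b in
theorem smul_mem_sp {X : Subgroup H} {z : W} {x : H} (hx : x ∈ X) {u : W} (hu : u ∈ sp R X z) :
    x • u ∈ sp R X z := by
  have h1 : sp R X z ≤ (sp R X z).comap (DistribSMul.toAddMonoidHom W x) := by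
    refine sp_le ?_ ?_
    · intro r hr
      change x • r ∈ sp R X z
      rw [b.fixR x r hr]
      exact le_sp R X z hr
    · intro y hy
      change x • y • z ∈ sp R X z
      rw [← mul_smul]
      exact smul_mem_sp' R z (X.mul_mem hx hy)
  exact h1 hu

theorem mem_kk_sp {X : Subgroup H} {z : W} {h : H} : h ∈ kk b (sp R X z) ↔ ∀ x ∈ X, h • x • z + x • z ∈ R := by
  constructor
  · intro hh x hx
    exact hh _ (smul_mem_sp' R z hx)
  · intro hh u hu
    let U : AddSubgroup W :=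
      { carrier := {w | h • w + w ∈ R}
        zero_mem' := by
          change h • (0 : W) + 0 ∈ R
          rw [smul_zero, add_zero]; exact R.zero_mem
        add_mem' := by
          intro v w hv hw
          change h • (v + w) + (v + w) ∈ R
          rw [smul_add, add_add_add_comm]
          exact R.add_mem hv hw
        neg_mem' := by
          intro w hw
          change h • (-w) + -w ∈ R
          rw [smul_neg, ← neg_add]
          exact R.neg_mem hw }
    have h1 : sp R X z ≤ U := by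
      refine sp_le ?_ hh
      intro r hr
      change h • r + r ∈ R
      rw [b.fixR h r hr, b.two]
      exact R.zero_mem
    exact h1 hu

theorem kk_norm {X : Subgroup H} {z : W} {x k : H} (hx : x ∈ X) (hk : k ∈ kk b (sp R X z)) :
    x * k * x⁻¹ ∈ kk b (sp R X z) :=
  kk_conj b (fun _ hu => smul_mem_sp b (X.inv_mem hx) hu) hk

/-- **(ML) for `X ≤ H` on the submodule generated by `z` modulo `R`** -/
theorem no_rel (hML : ML.Final.MLK.{u, v}) [Finite H] [Finite W] (hK : IsKGroupWith IsKnownSimple' H)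
    {X T Q A : Subgroup H} {z : W} (TX : T ≤ X) (T2 : IsPGroup 2 T) (syl : ¬ 2 ∣ T.relIndex X)
    (Tz : ∀ t ∈ T, t • z + z ∈ R) (QX : Q ≤ X) (Q2 : IsPGroup 2 Q) (Qz : ∀ q ∈ Q, q • z + z ∈ R)
    (Qn : ∀ x ∈ X, x • z + z ∈ R → ∀ q ∈ Q, x * q * x⁻¹ ∈ Q) (AQ : A ≤ Q) (sq : ∀ a ∈ A, a * a = 1) :
    (kk b (sp R X z)).relIndex A ≤ (cmR R A).relIndex (sp R X z) := by
  classical
  letI := act (X := X) (R := R) fun x r hr => b.fixR x r hr
  have hfin : Finite (MR R) := Finite.of_surjective (mkH R) (mkH_surj R)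
  have hsm : ∀ (x : X) (w : W), x • mk R w = mk R ((x : H) • w) := fun _ _ => rfl
  have AX : A ≤ X := AQ.trans QX
  have D : ML.Final.Dat (C := X) (V := MR R) (T.subgroupOf X) (Q.subgroupOf X) (A.subgroupOf X) (mk R z) := by
    refine ⟨?_, T2.of_equiv (subgroupOfEquivOfLe TX).symm, syl, ?_, ?_, ?_, ?_, ?_, ?_⟩
    · intro v
      obtain ⟨w, rfl⟩ := mk_surj v
      rw [← mk_add, b.two, mk_zero]
    · intro t ht
      rw [hsm, mk_eq' b.two]
      exact Tz _ ht
    · intro q hq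
      obtain ⟨n, hn⟩ := Q2 ⟨q, hq⟩
      refine ⟨n, fun v => ?_⟩
      have h2 : (q : H) ^ 2 ^ n = 1 := congrArg Subtype.val hn
      have h1 : q ^ 2 ^ n = 1 := Subtype.ext h2
      rw [h1, one_smul]
    · intro q hq
      rw [hsm, mk_eq' b.two]
      exact Qz _ hq
    · intro g hg q hq
      rw [hsm, mk_eq' b.two] at hg
      exact ⟨g * q * g⁻¹, Qn g g.2 hg q hq, fun _ => rfl⟩
    · intro a ha
      exact ⟨a, AQ ha, fun _ => rfl⟩
    · intro a ha v
      have h1 : a * a = 1 := Subtype.ext (sq a ha)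
      rw [← mul_smul, h1, one_smul]
  have key := hML.act (ML.Final.kgroup_of_surj hK X (MonoidHom.id X) fun x => ⟨x, rfl⟩) D
  have horb : orb (⊤ : Subgroup X) (mk R z) = (AddSubgroup.toSubgroup (sp R X z)).map (mkH R) := by
    apply le_antisymm
    · rw [orb, closure_le]
      rintro _ ⟨g, -, rfl⟩
      exact ⟨Multiplicative.ofAdd ((g : H) • z), smul_mem_sp' R z g.2, rfl⟩
    · rw [map_le_iff_le_comap]
      intro w hw
      let U : AddSubgroup W :=
        { carrier := {w | mk R w ∈ orb (⊤ : Subgroup X) (mk R z)}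
          zero_mem' := by
            change mk R 0 ∈ orb (⊤ : Subgroup X) (mk R z)
            rw [mk_zero]; exact one_mem _
          add_mem' := by
            intro v w hv hw
            change mk R (v + w) ∈ orb (⊤ : Subgroup X) (mk R z)
            rw [mk_add]
            exact mul_mem hv hw
          neg_mem' := by
            intro w hw
            have : mk R (-w) = (mk R w)⁻¹ := rfl
            change mk R (-w) ∈ orb (⊤ : Subgroup X) (mk R z)
            rw [this]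
            exact inv_mem hw }
      have h1 : sp R X z ≤ U := by
        refine sp_le ?_ ?_
        · intro r hr
          change mk R r ∈ orb (⊤ : Subgroup X) (mk R z)
          rw [mk_one.2 hr]; exact one_mem _
        · intro x hx
          exact subset_closure ⟨⟨x, hx⟩, mem_top _, rfl⟩
      exact h1 hw
  have hcv : (cv (MR R) ((A.subgroupOf X : Subgroup X) : Set X)).comap (mkH R) =
      AddSubgroup.toSubgroup (cmR R A) := by
    ext w
    rw [mem_comap, mem_cv]
    change (∀ a ∈ (A.subgroupOf X : Set X), a • mk R (Multiplicative.toAdd w) = mk R (Multiplicative.toAdd w)) ↔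
      Multiplicative.toAdd w ∈ cmR R A
    rw [mem_cmR]
    constructor
    · intro h3 a ha
      have h4 := h3 ⟨a, AX ha⟩ ha
      rw [hsm, mk_eq' b.two] at h4
      exact h4
    · intro h3 a ha
      rw [hsm, mk_eq' b.two]
      exact h3 _ ha
  have hfx : fxr X (orb (⊤ : Subgroup X) (mk R z)) = (kk b (sp R X z)).subgroupOf X := by
    ext x
    rw [mem_subgroupOf, horb]
    constructor
    · intro hx u hu
      have h1 := hx (mk R u) ⟨Multiplicative.ofAdd u, hu, rfl⟩
      rw [hsm, mk_eq' b.two] at h1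
      exact h1
    · rintro hx _ ⟨u, hu, rfl⟩
      change x • mk R (Multiplicative.toAdd u) = mk R (Multiplicative.toAdd u)
      rw [hsm, mk_eq' b.two]
      exact hx _ hu
  rw [hfx, relIndex_subgroupOf AX, horb, ← relIndex_comap, hcv] at key
  exact key

end Cfsg.Agent.Omega.FOne.QR

end

section


/-!
# (F1), the K-route for `R` of any size: the minimal overgroup, second part (helper69)

* `SwR.no` : (NO) on `W / R`;
* `SwR.dich` : an atom is trivial on `M_X` or `B ∩ K_X = 1`, `W = W_X + C(B)`;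
* `SwR.exists_min` : the minimal overgroup `X` on which some atom `B` is not trivial;
* `MinX` : its properties.
-/

set_option autoImplicit false
set_option linter.unusedSectionVars false

namespace Cfsg.Agent.Omega.FOne.QR

open Subgroup Cfsg Cfsg.Agent.ZN

universe u v

variable {H : Type u} [Group H] {W : Type v} [AddCommGroup W] [DistribMulAction H W]
  {R : AddSubgroup W} {θ : W} {T N : Subgroup H}

theorem SwR.bs (S : SwR R θ T N) : Bs H R := ⟨S.two, S.fixR⟩

theorem SwR.sylX (S : SwR R θ T N) {X : Subgroup H} (hTX : T ≤ X) : ¬ 2 ∣ T.relIndex X := fun h =>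
  S.syl (h.trans (relIndex_dvd_index_of_le hTX))

/-- `N ≤ T` -/
theorem SwR.NT (S : SwR R θ T N) : N ≤ T := by
  have := S.finX
  have : Fact (Nat.Prime 2) := ⟨Nat.prime_two⟩
  have h1 : IsPGroup 2 (T ⊔ N : Subgroup H) := by
    refine IsPGroup.to_sup_of_normal_right' S.T2 S.N2 fun t ht => ?_
    rw [mem_normalizer_iff]
    intro n
    constructor
    · exact S.Nn t (S.Tθ t ht) n
    · intro hn
      have := S.Nn t⁻¹ (S.Tθ _ (T.inv_mem ht)) _ hn
      have e : t⁻¹ * (t * n * t⁻¹) * t⁻¹⁻¹ = n := by group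
      rwa [e] at this
  have h2 : T ⊔ N = T := (S.T2.toSylow S.syl).is_maximal' h1 le_sup_left
  calc N ≤ T ⊔ N := le_sup_right
    _ = T := h2

theorem SwR.sp_top (S : SwR R θ T N) : sp R (⊤ : Subgroup H) θ = ⊤ :=
  S.gen _ (le_sp R _ θ) fun x => smul_mem_sp' R θ (mem_top x)

theorem SwR.kk_top (S : SwR R θ T N) : kk S.bs (sp R (⊤ : Subgroup H) θ) = ⊥ := by
  rw [eq_bot_iff]
  intro x hx
  rw [S.sp_top] at hx
  exact mem_bot.2 (S.faith x fun w => hx w (AddSubgroup.mem_top w))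

/-- (ML) for `T ≤ X` -/
theorem SwR.rel (S : SwR R θ T N) (hML : ML.Final.MLK.{u, v}) {X A : Subgroup H} (hTX : T ≤ X) (AN : A ≤ N)
    (sq : ∀ a ∈ A, a * a = 1) : (kk S.bs (sp R X θ)).relIndex A ≤ (cmR R A).relIndex (sp R X θ) := by
  have := S.finX
  have := S.finW
  exact no_rel S.bs hML S.known hTX S.T2 (S.sylX hTX) S.Tθ (S.NT.trans hTX) S.N2 S.Nθ (fun x _ => S.Nn x) AN sq

/-- **(NO)** on `W / R` -/
theorem SwR.no (S : SwR R θ T N) (hML : ML.Final.MLK.{u, v}) {A : Subgroup H} (AN : A ≤ N)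
    (sq : ∀ a ∈ A, a * a = 1) : Nat.card A ≤ (cmR R A).index := by
  have h := S.rel hML (X := ⊤) le_top AN sq
  rw [S.kk_top, S.sp_top, relIndex_bot_left, AddSubgroup.relIndex_top_right] at h
  exact h

/-- **(1)** : an atom is trivial on `M_X`, or faithful on it with `W = W_X + C(B)`. -/
theorem SwR.dich (S : SwR R θ T N) (hML : ML.Final.MLK.{u, v}) {X B : Subgroup H} (hTX : T ≤ X) (hB : AtR R N B) :
    B ≤ kk S.bs (sp R X θ) ∨ (B ⊓ kk S.bs (sp R X θ) = ⊥ ∧ sp R X θ ⊔ cmR R B = ⊤) := by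
  have := S.finX
  have := S.finW
  set K := kk S.bs (sp R X θ) with hK
  set D := B ⊓ K with hD
  have h1 : K.relIndex B ≤ (cmR R B).relIndex (sp R X θ) := S.rel hML hTX hB.BN hB.sq
  have h2 : K.relIndex B * Nat.card D = Nat.card B := by
    have h3 : (K.subgroupOf B).index * Nat.card (K.subgroupOf B) = Nat.card B := index_mul_card _
    have h4 : Nat.card (K.subgroupOf B) = Nat.card D := by
      rw [hD, ← inf_subgroupOf_left K B]
      exact Nat.card_congr (subgroupOfEquivOfLe inf_le_left).toEquiv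
    rw [h4] at h3
    exact h3
  have hUD : sp R X θ ≤ cmR R D := fun u hu d hd => hd.2 u hu
  have hBD : cmR R B ≤ cmR R D := cmR_anti inf_le_left
  have h3 : (cmR R B).relIndex (sp R X θ) ≤ (cmR R B).relIndex (cmR R D) :=
    AddSubgroup.relIndex_le_of_le_right hUD AddSubgroup.index_ne_zero_of_finite
  have h4 : (cmR R B).relIndex (cmR R D) * (cmR R D).index = Nat.card B := by
    rw [AddSubgroup.relIndex_mul_index hBD, hB.exact]
  have hpos : 0 < K.relIndex B := Nat.pos_of_ne_zero index_ne_zero_of_finite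
  by_cases hDB : D = B
  · left
    rw [← hDB]
    exact inf_le_right
  by_cases hD0 : D = ⊥
  · right
    refine ⟨hD0, ?_⟩
    rw [hD0, card_bot, mul_one] at h2
    have h5 : (cmR R B).relIndex (sp R X θ ⊔ cmR R B) * (sp R X θ ⊔ cmR R B).index = (cmR R B).index :=
      AddSubgroup.relIndex_mul_index le_sup_right
    rw [AddSubgroup.relIndex_sup_right, hB.exact] at h5
    rw [← AddSubgroup.index_eq_one]
    have h6 : 0 < (sp R X θ ⊔ cmR R B).index := Nat.pos_of_ne_zero AddSubgroup.index_ne_zero_of_finite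
    by_contra h7
    have h8 : 2 ≤ (sp R X θ ⊔ cmR R B).index := by omega
    have h9 : (cmR R B).relIndex (sp R X θ) * 2 ≤ Nat.card B := by
      rw [← h5]; exact Nat.mul_le_mul_left _ h8
    omega
  · exfalso
    have h5 := hB.atom D inf_le_left hD0 hDB
    have h6 : Nat.card B < (cmR R B).relIndex (cmR R D) * (cmR R D).index := by
      calc Nat.card B = K.relIndex B * Nat.card D := h2.symm
        _ < K.relIndex B * (cmR R D).index := Nat.mul_lt_mul_of_pos_left h5 hpos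
        _ ≤ (cmR R B).relIndex (cmR R D) * (cmR R D).index := Nat.mul_le_mul_right _ (h1.trans h3)
    omega

/-- an atom which is trivial on `M_Q` lies in `O₂(Q)` -/
theorem SwR.le_o2_of_le (S : SwR R θ T N) {Q B : Subgroup H} (hTQ : T ≤ Q) (hBN : B ≤ N)
    (hB : B ≤ kk S.bs (sp R Q θ)) : B ≤ o2 Q := by
  set K := kk S.bs (sp R Q θ) ⊓ Q with hK
  have hKθ : ∀ k ∈ K, k • θ + θ ∈ R := fun k hk => hk.1 θ (mem_sp R Q θ)
  have h1 : N ⊓ K ≤ o2 K := by
    refine le_o2 inf_le_right (S.N2.to_le inf_le_left) fun k hk => ?_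
    rw [mem_normalizer_iff]
    intro n
    constructor
    · intro hn
      exact ⟨S.Nn k (hKθ k hk) n hn.1, K.mul_mem (K.mul_mem hk hn.2) (K.inv_mem hk)⟩
    · intro hn
      have h2 := S.Nn k⁻¹ (hKθ _ (K.inv_mem hk)) _ hn.1
      have h3 := K.mul_mem (K.mul_mem (K.inv_mem hk) hn.2) (K.inv_mem (K.inv_mem hk))
      have e : k⁻¹ * (k * n * k⁻¹) * k⁻¹⁻¹ = n := by group
      rw [e] at h2 h3
      exact ⟨h2, h3⟩
  have h2 : Q ≤ normalizer (K : Set H) := by
    intro q hq
    rw [mem_normalizer_iff]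
    intro k
    constructor
    · intro hk
      exact ⟨kk_norm S.bs hq hk.1, Q.mul_mem (Q.mul_mem hq hk.2) (Q.inv_mem hq)⟩
    · intro hk
      have h2 := kk_norm S.bs (Q.inv_mem hq) hk.1
      have h3 := Q.mul_mem (Q.mul_mem (Q.inv_mem hq) hk.2) (Q.inv_mem (Q.inv_mem hq))
      have e : q⁻¹ * (q * k * q⁻¹) * q⁻¹⁻¹ = k := by group
      rw [e] at h2 h3
      exact ⟨h2, h3⟩
  have h3 : o2 K ≤ o2 Q := le_o2 ((o2_le K).trans inf_le_right) (isPGroup_o2 K)
    (h2.trans (normalizer_le_normalizer_o2 K))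
  exact (le_inf hBN (le_inf hB ((hBN.trans S.NT).trans hTQ))).trans (h1.trans h3)

/-- **The minimal overgroup.** -/
structure MinX (R : AddSubgroup W) (θ : W) (T N : Subgroup H) (b : Bs H R) (X B : Subgroup H) : Prop where
  TX : T ≤ X
  at_ : AtR R N B
  nt : ¬ B ≤ kk b (sp R X θ)
  min : ∀ Q : Subgroup H, T ≤ Q → Q ≤ X → Q ≠ X → ∀ C, AtR R N C → C ≤ kk b (sp R Q θ)

theorem SwR.exists_min (S : SwR R θ T N) {B : Subgroup H} (hB : AtR R N B) :
    ∃ X B' : Subgroup H, MinX R θ T N S.bs X B' := by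
  have := S.finX
  have hfin : Finite (Subgroup H) := inferInstance
  obtain ⟨X, hX⟩ := (Set.toFinite {X : Subgroup H | T ≤ X ∧ ∃ C, AtR R N C ∧ ¬ C ≤ kk S.bs (sp R X θ)}).exists_minimal
    ⟨⊤, le_top, B, hB, fun h => by
      rw [S.kk_top, le_bot_iff] at h
      have h4 := hB.four
      rw [h, card_bot] at h4
      omega⟩
  obtain ⟨hTX, C, hC, hCX⟩ := hX.prop
  refine ⟨X, C, hTX, hC, hCX, fun Q hTQ hQX hne C' hC' => ?_⟩
  by_contra hcon
  exact hne (le_antisymm hQX (hX.le_of_le (y := Q) ⟨hTQ, C', hC', hcon⟩ hQX))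

end Cfsg.Agent.Omega.FOne.QR

end

section


/-!
# (F1), the K-route for `R` of any size: the vector `θ_n` (helper69)

* `exists_norm` : the product of an odd orbit;
* `min_sup_eq` : `X = ⟨B^X⟩ T`;
* `min_exists_vec` : `θ_s`, fixed by `X` modulo `R`, with `θ + θ_s ∈ [W_X, ⟨B^X⟩] R`;
* `min_thmA` : `K_X` centralises `[W_X, ⟨B^X⟩]`.
-/

set_option autoImplicit false
set_option linter.unusedSectionVars false
set_option linter.style.haveILetI false

namespace Cfsg.Agent.Omega.FOne.QR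

open Subgroup Cfsg Cfsg.Agent.ZN

universe u v

section norm

variable {G : Type*} [Group G] {M : Type*} [CommGroup M] [MulDistribMulAction G M]

/-- the product of an orbit of odd length -/
theorem exists_norm [Finite M] (sq : ∀ m : M, m * m = 1) {T L : Subgroup G}
    (hn : ∀ t ∈ T, ∀ k ∈ L, t * k * t⁻¹ ∈ L) (hodd : ¬ 2 ∣ T.relIndex L) {m : M} (hm : ∀ t ∈ T, t • m = m) :
    ∃ s : M, (∀ k ∈ L, k • s = s) ∧ (∀ t ∈ T, t • s = s) ∧
      m * s ∈ Subgroup.closure {x | ∃ k ∈ L, x = (k • m) * m} := by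
  classical
  haveI : Fintype (MulAction.orbit L m) := Fintype.ofFinite _
  have hcard : ¬ 2 ∣ Fintype.card (MulAction.orbit L m) := by
    intro h
    apply hodd
    have e : Fintype.card (MulAction.orbit L m) = (MulAction.stabilizer L m).index := by
      rw [← Nat.card_eq_fintype_card]
      exact Nat.card_congr (MulAction.orbitEquivQuotientStabilizer L m)
    have hle : T.subgroupOf L ≤ MulAction.stabilizer L m := by
      intro x hx
      rw [MulAction.mem_stabilizer_iff]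
      exact hm _ (mem_subgroupOf.mp hx)
    rw [e] at h
    exact h.trans (index_dvd_of_le hle)
  refine ⟨∏ x : MulAction.orbit L m, (x : M), ?_, ?_, ?_⟩
  · intro k hk
    rw [Finset.smul_prod']
    exact Fintype.prod_equiv (MulAction.toPerm (⟨k, hk⟩ : L)) _ _ (fun x => rfl)
  · intro t ht
    rw [Finset.smul_prod']
    have hmem : ∀ x ∈ MulAction.orbit L m, t • x ∈ MulAction.orbit L m := by
      rintro _ ⟨k, rfl⟩
      refine ⟨⟨t * k * t⁻¹, hn t ht k k.2⟩, ?_⟩
      change (t * k * t⁻¹) • m = t • ((k : G) • m)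
      rw [mul_smul, mul_smul, hm t⁻¹ (T.inv_mem ht)]
    have hinj : Function.Injective (fun x : MulAction.orbit L m =>
        (⟨t • (x : M), hmem x x.2⟩ : MulAction.orbit L m)) := by
      intro x x' h
      exact Subtype.ext (MulAction.injective t (congrArg Subtype.val h))
    exact Fintype.prod_bijective _ (Finite.injective_iff_bijective.mp hinj) _ _ (fun x => rfl)
  · have hpow : m ^ Fintype.card (MulAction.orbit L m) = m := by
      obtain ⟨j, hj⟩ := Nat.not_even_iff_odd.mp (fun h => hcard (even_iff_two_dvd.mp h))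
      rw [hj, pow_succ, pow_mul, sq_mul_self sq, one_pow, one_mul]
    have e : m * ∏ x : MulAction.orbit L m, (x : M) = ∏ x : MulAction.orbit L m, (x : M) * m := by
      rw [Finset.prod_mul_distrib, Finset.prod_const, Finset.card_univ, hpow, mul_comm]
    rw [e]
    refine Subgroup.prod_mem _ fun x _ => ?_
    obtain ⟨k, hk⟩ := x.2
    exact Subgroup.subset_closure ⟨k, k.2, by rw [← hk]; rfl⟩
where
  sq_mul_self {m : M} (sq : ∀ m : M, m * m = 1) : m ^ 2 = 1 := by rw [pow_two, sq]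

end norm

variable {H : Type u} [Group H] {W : Type v} [AddCommGroup W] [DistribMulAction H W]
  {R : AddSubgroup W} {θ : W} {T N X B : Subgroup H}

/-- `⟨B^X⟩` -/
def LX (X B : Subgroup H) : Subgroup H := Subgroup.closure {y | ∃ x ∈ X, ∃ c ∈ B, y = x * c * x⁻¹}

theorem LX_le (hBX : B ≤ X) : LX X B ≤ X := by
  rw [LX, closure_le]
  rintro _ ⟨x, hx, c, hc, rfl⟩
  exact X.mul_mem (X.mul_mem hx (hBX hc)) (X.inv_mem hx)

theorem le_LX : B ≤ LX X B := fun c hc => subset_closure ⟨1, X.one_mem, c, hc, by group⟩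

theorem LX_conj {x g : H} (hx : x ∈ X) (hg : g ∈ LX X B) : x * g * x⁻¹ ∈ LX X B := by
  have h1 : LX X B ≤ (LX X B).comap (MulAut.conj x).toMonoidHom := by
    conv_lhs => rw [LX]
    rw [closure_le]
    rintro _ ⟨y, hy, c, hc, rfl⟩
    refine subset_closure ⟨x * y, X.mul_mem hx hy, c, hc, ?_⟩
    change x * (y * c * y⁻¹) * x⁻¹ = x * y * c * (x * y)⁻¹
    group
  exact h1 hg

theorem le_normalizer_LX : X ≤ normalizer (LX X B : Set H) := by
  intro x hx
  rw [mem_normalizer_iff]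
  intro g
  constructor
  · exact LX_conj hx
  · intro hg
    have := LX_conj (X.inv_mem hx) hg
    have e : x⁻¹ * (x * g * x⁻¹) * x⁻¹⁻¹ = g := by group
    rwa [e] at this

section min

variable (S : SwR R θ T N) (M : MinX R θ T N S.bs X B)

include M

theorem min_BX : B ≤ X := (M.at_.BN.trans S.NT).trans M.TX

/-- (a) `X = ⟨B^X⟩ T` -/
theorem min_sup_eq : LX X B ⊔ T = X := by
  have := S.finX
  have hle : LX X B ⊔ T ≤ X := sup_le (LX_le (min_BX S M)) M.TX
  by_contra hne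
  set Y := LX X B ⊔ T with hY
  have h1 : B ≤ kk S.bs (sp R Y θ) := M.min Y le_sup_right hle hne B M.at_
  have h2 : B ≤ o2 Y := S.le_o2_of_le le_sup_right M.at_.BN h1
  have h3 : o2 Y ⊓ LX X B ≤ o2 (LX X B) := by
    refine le_o2 inf_le_right ((isPGroup_o2 Y).to_le inf_le_left) ?_
    intro l hl
    have h4 := le_normalizer_o2 Y ((le_sup_left : LX X B ≤ Y) hl)
    rw [mem_normalizer_iff] at h4 ⊢
    intro g
    constructor
    · intro hg
      exact ⟨(h4 g).1 hg.1, (LX X B).mul_mem ((LX X B).mul_mem hl hg.2) ((LX X B).inv_mem hl)⟩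
    · intro hg
      have h5 := (LX X B).mul_mem ((LX X B).mul_mem ((LX X B).inv_mem hl) hg.2) hl
      have e : l⁻¹ * (l * g * l⁻¹) * l = g := by group
      rw [e] at h5
      exact ⟨(h4 g).2 hg.1, h5⟩
  have h4 : o2 (LX X B) ≤ o2 X := le_o2 ((o2_le _).trans (LX_le (min_BX S M))) (isPGroup_o2 _)
    (le_normalizer_LX.trans (normalizer_le_normalizer_o2 _))
  have h5 : B ≤ o2 X := (le_inf h2 le_LX).trans (h3.trans h4)
  have h6 : o2 X ≤ T := o2_le_of_sylow M.TX S.T2 (S.sylX M.TX)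
  apply M.nt
  intro c hc
  rw [mem_kk_sp]
  intro x hx
  have h7 : x⁻¹ * c * x ∈ o2 X := by
    have h8 := (mem_normalizer_iff.1 (le_normalizer_o2 X (X.inv_mem hx)) c).1 (h5 hc)
    rwa [inv_inv] at h8
  have h8 := S.Tθ _ (h6 h7)
  have e : c • x • θ + x • θ = x • ((x⁻¹ * c * x) • θ + θ) := by
    rw [smul_add, mul_smul, mul_smul, smul_inv_smul]
  rw [e, S.fixR x _ h8]
  exact h8

/-- the frame of THEOREM A -/
theorem min_dat (hML : ML.Final.MLK.{u, v}) : ThmR.Dat X T N B R (sp R X θ) θ := by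
  have hd := (S.dich hML M.TX M.at_).resolve_left M.nt
  refine
    { two := S.two
      fixR := S.fixR
      faith := S.faith
      TX := M.TX
      T2 := S.T2
      syl := S.sylX M.TX
      BO := M.at_.BN
      BX := (min_BX S M)
      sqB := M.at_.sq
      quad := fun b hb c hc w => M.at_.quad c hc b hb w
      no := fun E hE hsq => S.no hML hE hsq
      ex := M.at_.exact.symm
      min := fun E hE hne hex => ?_
      RV := le_sp R X θ
      XV := fun x hx v hv => smul_mem_sp S.bs hx hv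
      gen := fun U hR hU => sp_le hR hU
      lamV := mem_sp R X θ
      Tlam := S.Tθ
      nO := fun h hh o ho => S.Nn h hh o ho
      cover := fun w => ?_ }
  · by_contra hcon
    have := M.at_.atom E hE hne hcon
    exact absurd hex (Nat.ne_of_lt this)
  · have h1 : w ∈ sp R X θ ⊔ cmR R B := by rw [hd.2]; exact AddSubgroup.mem_top w
    obtain ⟨v, hv, c, hc, e⟩ := AddSubgroup.mem_sup.1 h1
    refine ⟨v, hv, ?_⟩
    have e2 : w + v = c := by
      rw [← e]
      calc v + c + v = (v + v) + c := by abel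
        _ = c := by rw [S.two, zero_add]
    rw [e2]
    exact hc

/-- **THEOREM A** for the minimal overgroup -/
theorem min_thmA (hML : ML.Final.MLK.{u, v}) {k l : H} {w : W} (hk : k ∈ X) (hkK : k ∈ kk S.bs (sp R X θ))
    (hl : l ∈ LX X B) (hw : w ∈ sp R X θ) : k • (l • w + w) = l • w + w := by
  have := S.finX
  have := S.finW
  have h1 := (min_dat S M hML).main M.at_.four l hl k hk (fun v hv => hkK v hv) w hw
  have h2 : k • (l • w + w) + (l • w + w) = 0 := h1
  have h3 := eq_neg_of_add_eq_zero_left h2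
  rw [h3]
  exact neg_eq_of_add_eq_zero_left (S.two _)

/-- (b) : the vector `θ_s` -/
theorem min_exists_vec : ∃ s : W, s ∈ sp R X θ ∧ (∀ x ∈ X, x • s + s ∈ R) ∧
    θ + s ∈ AddSubgroup.closure ((R : Set W) ∪ {w | ∃ k ∈ LX X B, w = k • θ + θ}) := by
  classical
  have := S.finX
  have := S.finW
  letI := act (X := H) (R := R) S.fixR
  have hfin : Finite (MR R) := Finite.of_surjective (mkH R) (mkH_surj R)
  have hsm : ∀ (x : H) (w : W), x • mk R w = mk R (x • w) := fun _ _ => rfl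
  have hT : T ≤ normalizer (LX X B : Set H) := M.TX.trans le_normalizer_LX
  have hodd : ¬ 2 ∣ T.relIndex (LX X B) := by
    rw [← ML.MinFrame.relIndex_sup_comm hT, min_sup_eq S M]
    exact S.sylX M.TX
  obtain ⟨s, hsL, hsT, hs⟩ := exists_norm (G := H) (M := MR R) (fun m => by
    obtain ⟨w, rfl⟩ := mk_surj m
    rw [← mk_add, S.two, mk_zero]) (T := T) (L := LX X B) (fun t ht k hk => LX_conj (M.TX ht) hk) hodd
    (m := mk R θ) (fun t ht => by
      rw [hsm, mk_eq' S.two]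
      exact S.Tθ t ht)
  obtain ⟨w, rfl⟩ := mk_surj s
  have hcl : θ + w ∈ AddSubgroup.closure ((R : Set W) ∪ {w | ∃ k ∈ LX X B, w = k • θ + θ}) := by
    set C := AddSubgroup.closure ((R : Set W) ∪ {w | ∃ k ∈ LX X B, w = k • θ + θ}) with hC
    have hRC : R ≤ C := fun r hr => AddSubgroup.subset_closure (Or.inl hr)
    have h1 : Subgroup.closure {x : MR R | ∃ k ∈ LX X B, x = (k • mk R θ) * mk R θ} ≤
        (AddSubgroup.toSubgroup C).map (mkH R) := by
      rw [closure_le]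
      rintro _ ⟨k, hk, rfl⟩
      have h2 : k • θ + θ ∈ C := AddSubgroup.subset_closure (Or.inr ⟨k, hk, rfl⟩)
      exact ⟨Multiplicative.ofAdd (k • θ + θ), h2, rfl⟩
    obtain ⟨c, hc, e⟩ := h1 hs
    have e' : mk R (Multiplicative.toAdd c) = mk R (θ + w) := e
    rw [mk_eq' S.two] at e'
    have h2 := C.add_mem (hRC e') (show Multiplicative.toAdd c ∈ C from hc)
    have e2 : Multiplicative.toAdd c + (θ + w) + Multiplicative.toAdd c = θ + w := by
      have := S.two (Multiplicative.toAdd c)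
      calc Multiplicative.toAdd c + (θ + w) + Multiplicative.toAdd c =
          (Multiplicative.toAdd c + Multiplicative.toAdd c) + (θ + w) := by abel
        _ = _ := by rw [this, zero_add]
    rwa [e2] at h2
  refine ⟨w, ?_, ?_, hcl⟩
  · have h1 : AddSubgroup.closure ((R : Set W) ∪ {w | ∃ k ∈ LX X B, w = k • θ + θ}) ≤ sp R X θ := by
      rw [AddSubgroup.closure_le]
      rintro v (hv | ⟨k, hk, rfl⟩)
      · exact le_sp R X θ hv
      · exact (sp R X θ).add_mem (smul_mem_sp' R θ (LX_le (min_BX S M) hk)) (mem_sp R X θ)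
    have h2 := (sp R X θ).add_mem (mem_sp R X θ) (h1 hcl)
    rwa [← add_assoc, S.two, zero_add] at h2
  · have hfix : ∀ x ∈ LX X B ⊔ T, x • mk R w = mk R w := by
      have h1 : LX X B ⊔ T ≤ MulAction.stabilizer H (mk R w) := sup_le (fun k hk => hsL k hk) (fun t ht => hsT t ht)
      exact fun x hx => h1 hx
    intro x hx
    rw [← min_sup_eq S M] at hx
    have h1 := hfix x hx
    rwa [hsm, mk_eq' S.two] at h1

end min

end Cfsg.Agent.Omega.FOne.QR

end

section


/-!
# (F1), the K-route for `R` of any size: the section of the minimal overgroup (helper69)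

* `stb R θ` : the stabiliser of `θ` modulo `R`; `StR R θ T` : a situation;
* `MinX.sec` : the minimal overgroup gives the situation `(X / K_X, W_n, θ_n)`;
* **`StR.exists_fs`** : a situation with an atom of order at least 4 in `O₂(C(θ))` gives `FsR` with (LA).
-/

set_option autoImplicit false
set_option linter.unusedSectionVars false
set_option linter.style.haveILetI false

namespace Cfsg.Agent.Omega.FOne.QR

open Subgroup Cfsg Cfsg.Agent.ZN

universe u v

section defs

variable {X : Type u} [Group X] {W : Type v} [AddCommGroup W] [DistribMulAction X W]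

/-- the stabiliser of `θ` modulo `R` -/
def stb (R : AddSubgroup W) (θ : W) : Subgroup X := Subgroup.closure {x | x • θ + θ ∈ R}

theorem mem_stb {R : AddSubgroup W} (b : Bs X R) {θ : W} {x : X} : x ∈ (stb R θ : Subgroup X) ↔ x • θ + θ ∈ R := by
  constructor
  · intro hx
    let Z : Subgroup X :=
      { carrier := {x | x • θ + θ ∈ R}
        one_mem' := by
          change (1 : X) • θ + θ ∈ R
          rw [one_smul, b.two]; exact R.zero_mem
        mul_mem' := by
          intro g h hg hh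
          change (g * h) • θ + θ ∈ R
          have e : (g * h) • θ + θ = g • (h • θ + θ) + (g • θ + θ) := by
            have h1 : g • θ + g • θ = 0 := b.two _
            rw [mul_smul, smul_add]
            calc g • h • θ + θ = g • h • θ + (g • θ + g • θ) + θ := by rw [h1, add_zero]
              _ = _ := by abel
          rw [e, b.fixR g _ hh]
          exact R.add_mem hh hg
        inv_mem' := by
          intro h hh
          change h⁻¹ • θ + θ ∈ R
          have e : h⁻¹ • θ + θ = h⁻¹ • (h • θ + θ) := by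
            rw [smul_add, inv_smul_smul, add_comm]
          rw [e, b.fixR _ _ hh]
          exact hh }
    have h1 : (stb R θ : Subgroup X) ≤ Z := by
      rw [stb, closure_le]
      exact fun x hx => hx
    exact h1 hx
  · exact fun hx => subset_closure hx

/-- A situation. -/
structure StR (R : AddSubgroup W) (θ : W) (T : Subgroup X) : Prop where
  known : IsKGroupWith IsKnownSimple' X
  finX : Finite X
  finW : Finite W
  two : ∀ w : W, w + w = 0
  fixR : ∀ x : X, ∀ r ∈ R, x • r = r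
  faith : ∀ x : X, (∀ w : W, x • w + w ∈ R) → x = 1
  T2 : IsPGroup 2 T
  syl : ¬ 2 ∣ T.index
  fixT : ∀ w : W, (∀ t ∈ T, t • w = w) → w ∈ R
  θR : θ ∉ R
  Tθ : ∀ t ∈ T, t • θ + θ ∈ R
  gen : ∀ U : AddSubgroup W, R ≤ U → (∀ x : X, x • θ ∈ U) → U = ⊤

theorem SwR.st {R : AddSubgroup W} {θ : W} {T N : Subgroup X} (S : SwR R θ T N) : StR R θ T :=
  ⟨S.known, S.finX, S.finW, S.two, S.fixR, S.faith, S.T2, S.syl, S.fixT, S.θR, S.Tθ, S.gen⟩

theorem StR.bs {R : AddSubgroup W} {θ : W} {T : Subgroup X} (S : StR R θ T) : Bs X R := ⟨S.two, S.fixR⟩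

/-- the situation with `N = O₂(C(θ))` -/
theorem StR.sw {R : AddSubgroup W} {θ : W} {T : Subgroup X} (S : StR R θ T) : SwR R θ T (o2 (stb R θ)) where
  known := S.known
  finX := S.finX
  finW := S.finW
  two := S.two
  fixR := S.fixR
  faith := S.faith
  T2 := S.T2
  syl := S.syl
  fixT := S.fixT
  θR := S.θR
  Tθ := S.Tθ
  gen := S.gen
  N2 := isPGroup_o2 _
  Nθ := fun n hn => (mem_stb S.bs).1 (o2_le _ hn)
  Nn := fun x hx n hn => (mem_normalizer_iff.1 (le_normalizer_o2 _ ((mem_stb S.bs).2 hx)) n).1 hn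

/-- `N ≤ O₂(C(θ))` -/
theorem SwR.N_le {R : AddSubgroup W} {θ : W} {T N : Subgroup X} (S : SwR R θ T N) : N ≤ o2 (stb R θ) := by
  refine le_o2 (fun n hn => (mem_stb S.bs).2 (S.Nθ n hn)) S.N2 fun x hx => ?_
  have hx' := (mem_stb S.bs).1 hx
  have hxi := (mem_stb S.bs).1 ((stb R θ).inv_mem hx)
  rw [mem_normalizer_iff]
  intro n
  constructor
  · exact S.Nn x hx' n
  · intro hn
    have := S.Nn x⁻¹ hxi _ hn
    have e : x⁻¹ * (x * n * x⁻¹) * x⁻¹⁻¹ = n := by group
    rwa [e] at this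

/-- every atom of `O₂(C(θ))` is in `O₂(Q)`, `T ≤ Q < X` -/
def LaR (R : AddSubgroup W) (θ : W) (T : Subgroup X) : Prop :=
  ∀ Z : Subgroup X, (∀ x, x ∈ Z ↔ x • θ + θ ∈ R) → ∀ B₁ : Subgroup X, AtR R (o2 Z) B₁ →
    ∀ Q : Subgroup X, T ≤ Q → Q ≠ ⊤ → B₁ ≤ o2 Q

end defs

variable {H : Type u} [Group H] {W : Type v} [AddCommGroup W] [DistribMulAction H W]
  {R : AddSubgroup W} {θ : W} {T N X B : Subgroup H}

/-- **The section of the minimal overgroup.** -/
theorem min_sec (hML : ML.Final.MLK.{u, v}) (S : SwR R θ T N) (M : MinX R θ T N S.bs X B) :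
    ∃ (X' : Type u) (_ : Group X') (W' : Type v) (_ : AddCommGroup W') (_ : DistribMulAction X' W')
      (R' : AddSubgroup W') (θ' : W') (T' B' : Subgroup X'), StR R' θ' T' ∧ AtR R' (o2 (stb R' θ')) B' ∧
        Nat.card X' ≤ Nat.card X := by
  classical
  have hfX := S.finX
  have hfW := S.finW
  have b := S.bs
  have two := S.two
  set K := kk S.bs (sp R X θ) with hK
  obtain ⟨s, hsU, hsX, hscl⟩ := min_exists_vec S M
  set θn := θ + s with hθn
  have hθ : θ = θn + s := by rw [hθn, add_assoc, two, add_zero]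
  set U := sp R X θn with hU
  have hBX := min_BX S M
  -- `K ∩ X` fixes `U`
  have hKX : ∀ x ∈ X, ∀ k ∈ X, k ∈ K → x * k * x⁻¹ ∈ K := fun x hx k _ hk => kk_norm S.bs hx hk
  have hfix1 : ∀ k ∈ X, k ∈ K → k • θn = θn := by
    intro k hk hkK
    let C : AddSubgroup W :=
      { carrier := {w | k • w = w}
        zero_mem' := smul_zero k
        add_mem' := by
          intro v w hv hw
          change k • (v + w) = v + w
          rw [smul_add, hv, hw]
        neg_mem' := by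
          intro w hw
          change k • (-w) = -w
          rw [smul_neg, hw] }
    have h1 : AddSubgroup.closure ((R : Set W) ∪ {w | ∃ l ∈ LX X B, w = l • θ + θ}) ≤ C := by
      rw [AddSubgroup.closure_le]
      rintro w (hw | ⟨l, hl, rfl⟩)
      · exact S.fixR k w hw
      · exact min_thmA S M hML hk hkK hl (mem_sp R X θ)
    exact h1 hscl
  have hfix : ∀ k ∈ X, k ∈ K → ∀ u ∈ U, k • u = u := by
    intro k hk hkK u hu
    let C : AddSubgroup W :=
      { carrier := {w | k • w = w}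
        zero_mem' := smul_zero k
        add_mem' := by
          intro v w hv hw
          change k • (v + w) = v + w
          rw [smul_add, hv, hw]
        neg_mem' := by
          intro w hw
          change k • (-w) = -w
          rw [smul_neg, hw] }
    have h1 : U ≤ C := by
      refine sp_le (fun r hr => S.fixR k r hr) fun x hx => ?_
      change k • x • θn = x • θn
      have h2 := hKX x⁻¹ (X.inv_mem hx) k hk hkK
      rw [inv_inv] at h2
      have h3 := hfix1 _ (X.mul_mem (X.mul_mem (X.inv_mem hx) hk) hx) h2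
      have e : k • x • θn = x • ((x⁻¹ * k * x) • θn) := by
        rw [mul_smul, mul_smul, smul_inv_smul]
      rw [e, h3]
    exact h1 hu
  -- the kernel on `U / R`
  have hker : ∀ x ∈ X, (∀ u ∈ U, x • u + u ∈ R) → x ∈ K := by
    intro x hx hxU
    rw [hK, mem_kk_sp]
    intro y hy
    have h1 := hxU _ (smul_mem_sp' R θn hy)
    have h2 := hsX _ (X.mul_mem hx hy)
    have h3 := hsX _ hy
    have e : x • y • θ + y • θ = (x • y • θn + y • θn) + (((x * y) • s + s) + (y • s + s)) := by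
      have h4 := two s
      rw [hθ, smul_add, smul_add, mul_smul]
      calc x • y • θn + x • y • s + (y • θn + y • s) =
          x • y • θn + x • y • s + (y • θn + y • s) + 0 := by rw [add_zero]
        _ = x • y • θn + x • y • s + (y • θn + y • s) + (s + s) := by rw [h4]
        _ = _ := by abel
    rw [e]
    exact R.add_mem h1 (R.add_mem h2 h3)
  have hstab : ∀ x ∈ X, (x • θn + θn ∈ R ↔ x • θ + θ ∈ R) := by
    intro x hx
    have h2 := hsX x hx
    have e : x • θ + θ = (x • θn + θn) + (x • s + s) := by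
      conv_lhs => rw [hθ]
      rw [smul_add]; abel
    have e2 : x • θn + θn = (x • θ + θ) + (x • s + s) := by
      rw [hθn, smul_add]; abel
    constructor
    · intro h; rw [e]; exact R.add_mem h h2
    · intro h; rw [e2]; exact R.add_mem h h2
  have hθnR : θn ∉ R := by
    intro h
    apply M.nt
    intro c hc
    have hXθ : ∀ x ∈ X, x • θ + θ ∈ R := by
      intro x hx
      rw [← hstab x hx, S.fixR x _ h, two]
      exact R.zero_mem
    rw [mem_kk_sp]
    intro x hx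
    have h1 := hXθ _ (X.mul_mem (hBX hc) hx)
    have h2 := hXθ _ hx
    have e : c • x • θ + x • θ = ((c * x) • θ + θ) + (x • θ + θ) := by
      have h4 := two θ
      rw [mul_smul]
      calc c • x • θ + x • θ = c • x • θ + x • θ + (θ + θ) := by rw [h4, add_zero]
        _ = _ := by abel
    rw [e]
    exact R.add_mem h1 h2
  -- `W = U + C(B)`
  have hd := (S.dich hML M.TX M.at_).resolve_left M.nt
  have hsup : U ⊔ cmR R B = ⊤ := by
    rw [eq_top_iff, ← hd.2]
    refine sup_le (sp_le ((le_sp R X θn).trans le_sup_left) fun x hx => ?_) le_sup_right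
    have h1 : x • θn ∈ U ⊔ cmR R B := (le_sup_left : U ≤ U ⊔ cmR R B) (smul_mem_sp' R θn hx)
    have h2 : x • s ∈ U ⊔ cmR R B := by
      have h3 : s ∈ cmR R B := fun c hc => hsX c (hBX hc)
      have h4 : x • s + s ∈ U := le_sp R X θn (hsX x hx)
      have h5 := (U ⊔ cmR R B).add_mem ((le_sup_left : U ≤ U ⊔ cmR R B) h4) ((le_sup_right : _ ≤ U ⊔ cmR R B) h3)
      rwa [add_assoc, two, add_zero] at h5
    have e : x • θ = x • θn + x • s := by
      conv_lhs => rw [hθ]
      rw [smul_add]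
    rw [e]
    exact (U ⊔ cmR R B).add_mem h1 h2
  have hidx : ∀ C ≤ B, (cmR R C).relIndex U = (cmR R C).index := by
    intro C hC
    have h1 : U ⊔ cmR R C = ⊤ := by
      rw [eq_top_iff, ← hsup]
      exact sup_le le_sup_left ((cmR_anti hC).trans le_sup_right)
    have h2 : (cmR R C).relIndex (U ⊔ cmR R C) = (cmR R C).relIndex U := AddSubgroup.relIndex_sup_right _ _
    rw [← h2, h1, AddSubgroup.relIndex_top_right]
  -- the action of `X` on `U`
  have hUX : ∀ x ∈ X, ∀ u ∈ U, x • u ∈ U := fun x hx u hu => smul_mem_sp S.bs hx hu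
  letI actU : DistribMulAction X U :=
    { smul := fun x u => ⟨(x : H) • (u : W), hUX x x.2 u u.2⟩
      one_smul := fun u => Subtype.ext (one_smul H (u : W))
      mul_smul := fun x y u => Subtype.ext (mul_smul (x : H) (y : H) (u : W))
      smul_zero := fun x => Subtype.ext (smul_zero (x : H))
      smul_add := fun x u v => Subtype.ext (smul_add (x : H) (u : W) (v : W)) }
  have hsm : ∀ (x : X) (u : U), ((x • u : U) : W) = (x : H) • (u : W) := fun _ _ => rfl
  let K' : Subgroup X := K.subgroupOf X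
  haveI hKn : K'.Normal := ⟨fun k hk x => hKX x x.2 k k.2 hk⟩
  have hle : K' ≤ (DistribMulAction.toAddMonoidEnd X U).ker := by
    intro k hk
    rw [MonoidHom.mem_ker]
    ext u
    exact hfix k k.2 hk u u.2
  letI actQ : DistribMulAction (X ⧸ K') U :=
    DistribMulAction.compHom U (QuotientGroup.lift K' (DistribMulAction.toAddMonoidEnd X U) hle)
  let π : X →* X ⧸ K' := QuotientGroup.mk' K'
  have hπ : Function.Surjective π := QuotientGroup.mk'_surjective K'
  have hsq : ∀ (x : X) (u : U), π x • u = x • u := fun _ _ => rfl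
  have hcoe : ∀ (x : X) (u : U), ((π x • u : U) : W) = (x : H) • (u : W) := fun _ _ => rfl
  have hπ1 : ∀ x : X, π x = 1 ↔ (x : H) ∈ K := fun x => QuotientGroup.eq_one_iff x
  -- the data
  let R' : AddSubgroup U := R.addSubgroupOf U
  have hR' : ∀ u : U, u ∈ R' ↔ (u : W) ∈ R := fun _ => Iff.rfl
  let θ' : U := ⟨θn, mem_sp R X θn⟩
  let T' : Subgroup (X ⧸ K') := (T.subgroupOf X).map π
  let B' : Subgroup (X ⧸ K') := (B.subgroupOf X).map π
  have hinjB : ∀ x : X, (x : H) ∈ B → π x = 1 → x = 1 := by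
    intro x hx h1
    have h2 : (x : H) ∈ B ⊓ K := ⟨hx, (hπ1 x).1 h1⟩
    rw [hd.1, mem_bot] at h2
    exact Subtype.ext h2
  have hst : StR R' θ' T' := by
    refine
      { known := ?_
        finX := inferInstance
        finW := inferInstance
        two := fun w => Subtype.ext (two w)
        fixR := ?_
        faith := ?_
        T2 := (S.T2.of_equiv (subgroupOfEquivOfLe M.TX).symm).map π
        syl := ?_
        fixT := ?_
        θR := hθnR
        Tθ := ?_
        gen := ?_ }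
    · exact ML.Final.kgroup_of_surj (ML.Final.kgroup_of_surj S.known X (MonoidHom.id X) fun x => ⟨x, rfl⟩)
        (⊤ : Subgroup X) (π.comp (⊤ : Subgroup X).subtype) (by
          intro q
          obtain ⟨x, rfl⟩ := hπ q
          exact ⟨⟨x, mem_top x⟩, rfl⟩)
    · intro q r hr
      obtain ⟨x, rfl⟩ := hπ q
      exact Subtype.ext (S.fixR x _ hr)
    · intro q hq
      obtain ⟨x, rfl⟩ := hπ q
      rw [hπ1]
      exact hker x x.2 fun u hu => hq ⟨u, hu⟩
    · intro h2
      have h3 : (T.subgroupOf X).index = T.relIndex X := rfl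
      have h4 := index_map_dvd (T.subgroupOf X) hπ
      rw [h3] at h4
      exact S.sylX M.TX (h2.trans h4)
    · intro w hw
      refine S.fixT w fun t ht => ?_
      have h1 := hw (π ⟨t, M.TX ht⟩) ⟨⟨t, M.TX ht⟩, ht, rfl⟩
      exact congrArg Subtype.val h1
    · rintro _ ⟨t, ht, rfl⟩
      have h1 := (hstab t t.2).2 (S.Tθ t ht)
      exact h1
    · intro V hV hVx
      rw [eq_top_iff]
      rintro ⟨u, hu⟩ -
      have h1 : U ≤ V.map U.subtype := by
        refine sp_le ?_ ?_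
        · intro r hr
          exact ⟨⟨r, le_sp R X θn hr⟩, hV hr, rfl⟩
        · intro x hx
          exact ⟨_, hVx (π ⟨x, hx⟩), rfl⟩
      obtain ⟨v, hv, e⟩ := h1 hu
      have : v = ⟨u, hu⟩ := Subtype.ext e
      rwa [this] at hv
  have hcm : ∀ C : Subgroup H, C ≤ X → cmR R' ((C.subgroupOf X).map π) = (cmR R C).addSubgroupOf U := by
    intro C hC
    ext u
    rw [AddSubgroup.mem_addSubgroupOf]
    constructor
    · intro hu c hc
      exact hu (π ⟨c, hC hc⟩) ⟨⟨c, hC hc⟩, hc, rfl⟩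
    · rintro hu _ ⟨c, hc, rfl⟩
      exact hu c hc
  have hcard : ∀ C : Subgroup H, C ≤ B → Nat.card ((C.subgroupOf X).map π : Subgroup (X ⧸ K')) = Nat.card C := by
    intro C hC
    have h1 : Function.Injective (π.subgroupMap (C.subgroupOf X)) := by
      rw [injective_iff_map_eq_one]
      rintro ⟨x, hx⟩ h1
      have h2 : π x = 1 := congrArg Subtype.val h1
      exact Subtype.ext (hinjB x (hC hx) h2)
    rw [← Nat.card_congr (Equiv.ofBijective _ ⟨h1, π.subgroupMap_surjective _⟩)]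
    exact Nat.card_congr (subgroupOfEquivOfLe (hC.trans hBX)).toEquiv
  have hat : AtR R' (o2 (stb R' θ')) B' := by
    refine
      { BN := ?_
        sq := ?_
        quad := ?_
        four := ?_
        exact := ?_
        atom := ?_ }
    · -- the image of `N ∩ X`
      have h1 : ((N ⊓ X).subgroupOf X).map π ≤ o2 (stb R' θ') := by
        refine le_o2 ?_ ?_ ?_
        · rintro _ ⟨n, hn, rfl⟩
          rw [mem_stb hst.bs]
          exact (hstab n n.2).2 (S.Nθ n hn.1)
        · exact ((S.N2.to_le inf_le_left).of_equiv (subgroupOfEquivOfLe inf_le_right).symm).map π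
        · intro q hq
          rw [mem_stb hst.bs] at hq
          obtain ⟨x, rfl⟩ := hπ q
          have hx1 : (x : H) • θ + θ ∈ R := (hstab x x.2).1 hq
          have hx2 : ((x⁻¹ : X) : H) • θ + θ ∈ R := by
            have h2 := (stb R θ).inv_mem ((mem_stb S.bs).2 hx1)
            exact (mem_stb S.bs).1 h2
          rw [mem_normalizer_iff]
          intro g
          constructor
          · rintro ⟨n, hn, rfl⟩
            refine ⟨x * n * x⁻¹, ⟨S.Nn x hx1 n hn.1, (x * n * x⁻¹).2⟩, ?_⟩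
            rw [map_mul, map_mul, map_inv]
          · rintro ⟨n, hn, e⟩
            refine ⟨x⁻¹ * n * x, ⟨?_, (x⁻¹ * n * x).2⟩, ?_⟩
            · have h2 := S.Nn _ hx2 n hn.1
              have e2 : ((x⁻¹ * n * x : X) : H) = ((x⁻¹ : X) : H) * n * ((x⁻¹ : X) : H)⁻¹ := by
                simp
              change ((x⁻¹ * n * x : X) : H) ∈ N
              rw [e2]
              exact h2
            · rw [map_mul, map_mul, map_inv, e]
              group
      refine le_trans ?_ h1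
      refine Subgroup.map_mono ?_
      intro x hx
      exact ⟨M.at_.BN hx, x.2⟩
    · rintro _ ⟨x, hx, rfl⟩
      rw [← map_mul]
      have h1 : x * x = 1 := Subtype.ext (M.at_.sq x hx)
      rw [h1, map_one]
    · rintro _ ⟨x, hx, rfl⟩ _ ⟨y, hy, rfl⟩ w
      exact M.at_.quad x hx y hy w
    · rw [hcard B le_rfl]
      exact M.at_.four
    · rw [hcm B hBX, hcard B le_rfl]
      change (cmR R B).relIndex U = _
      rw [hidx B le_rfl, M.at_.exact]
    · intro C hC hC1 hCB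
      -- the preimage of `C` in `B`
      let C₀ : Subgroup H := (((C.comap π) ⊓ (B.subgroupOf X))).map X.subtype
      have hC₀B : C₀ ≤ B := by
        rintro _ ⟨x, hx, rfl⟩
        exact hx.2
      have hC₀ : (C₀.subgroupOf X).map π = C := by
        apply le_antisymm
        · rintro _ ⟨x, hx, rfl⟩
          obtain ⟨y, hy, e⟩ := hx
          have : y = x := Subtype.ext e
          rw [← this]
          exact hy.1
        · intro c hc
          obtain ⟨x, hx, e⟩ := hC hc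
          refine ⟨x, ⟨x, ⟨?_, hx⟩, rfl⟩, e⟩
          change π x ∈ C
          rw [e]; exact hc
      rw [← hC₀, hcard C₀ hC₀B, hcm C₀ (hC₀B.trans hBX)]
      change _ < (cmR R C₀).relIndex U
      rw [hidx C₀ hC₀B]
      refine M.at_.atom C₀ hC₀B ?_ ?_
      · intro h
        apply hC1
        rw [← hC₀, h, eq_bot_iff]
        rintro _ ⟨x, hx, rfl⟩
        have h2 : x = 1 := Subtype.ext (mem_bot.1 (show (x : H) ∈ (⊥ : Subgroup H) from hx))
        rw [mem_bot, h2, map_one]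
      · intro h
        apply hCB
        rw [← hC₀, h]
  refine ⟨X ⧸ K', inferInstance, U, inferInstance, actQ, R', θ', T', B', hst, hat, ?_⟩
  exact Nat.card_le_card_of_surjective π hπ

/-- **A situation with an atom of order at least 4 in `O₂(C(θ))` gives the faithful section with (LA).** -/
theorem exists_fs (hML : ML.Final.MLK.{u, v}) (n : ℕ) : ∀ (H : Type u) [Group H] (W : Type v) [AddCommGroup W]
    [DistribMulAction H W] (R : AddSubgroup W) (θ : W) (T B : Subgroup H), Nat.card H = n → StR R θ T →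
    AtR R (o2 (stb R θ)) B →
    ∃ (X' : Type u) (_ : Group X') (W' : Type v) (_ : AddCommGroup W') (_ : DistribMulAction X' W')
      (R' : AddSubgroup W') (θ' : W') (T' B' : Subgroup X'), FsR R' θ' T' B' ∧ LaR R' θ' T' := by
  induction n using Nat.strong_induction_on with
  | _ n ih =>
    intro H _ W _ _ R θ T B hn St hB
    classical
    have hfX := St.finX
    have S := St.sw
    by_cases hall : ∀ Q : Subgroup H, T ≤ Q → Q ≠ ⊤ → ∀ C, AtR R (o2 (stb R θ)) C → C ≤ kk St.bs (sp R Q θ)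
    · have hlow : ∀ C, AtR R (o2 (stb R θ)) C → ∀ Q : Subgroup H, T ≤ Q → Q ≠ ⊤ → C ≤ o2 Q :=
        fun C hC Q hTQ hQ => S.le_o2_of_le hTQ hC.BN (hall Q hTQ hQ C hC)
      refine ⟨H, inferInstance, W, inferInstance, inferInstance, R, θ, T, B, ?_, ?_⟩
      · exact
          { known := St.known, finX := St.finX, finW := St.finW, two := St.two, fixR := St.fixR, faith := St.faith
            T2 := St.T2, syl := St.syl, fixT := St.fixT, θR := St.θR, Tθ := St.Tθ, gen := St.gen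
            BT := hB.BN.trans S.NT, sq := hB.sq, quad := hB.quad, four := hB.four, exact := hB.exact
            atom := hB.atom, low := hlow B hB }
      · intro Z hZ B₁ hB₁ Q hTQ hQ
        have e : Z = stb R θ := by
          ext x
          rw [hZ, mem_stb St.bs]
        rw [e] at hB₁
        exact hlow B₁ hB₁ Q hTQ hQ
    · push Not at hall
      obtain ⟨Q, hTQ, hQ, C, hC, hCQ⟩ := hall
      have hfin : Finite (Subgroup H) := inferInstance
      obtain ⟨X, hX⟩ := (Set.toFinite {X : Subgroup H | T ≤ X ∧ X ≠ ⊤ ∧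
        ∃ C, AtR R (o2 (stb R θ)) C ∧ ¬ C ≤ kk St.bs (sp R X θ)}).exists_minimal ⟨Q, hTQ, hQ, C, hC, hCQ⟩
      obtain ⟨hTX, hXt, C', hC', hCX⟩ := hX.prop
      have M : MinX R θ T (o2 (stb R θ)) S.bs X C' := by
        refine ⟨hTX, hC', hCX, fun Y hTY hYX hne D hD => ?_⟩
        by_contra hcon
        refine hne (le_antisymm hYX (hX.le_of_le (y := Y) ⟨hTY, ?_, D, hD, hcon⟩ hYX))
        intro h
        rw [h, top_le_iff] at hYX
        exact hXt hYX
      obtain ⟨X', i1, W', i2, i3, R', θ', T', B', h1, h2, h3⟩ := min_sec hML S M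
      have hlt : Nat.card X < Nat.card H := by
        have h4 := X.card_mul_index
        have h5 : X.index ≠ 1 := fun h => hXt (index_eq_one.1 h)
        have h6 : X.index ≠ 0 := index_ne_zero_of_finite
        have h7 : 0 < Nat.card X := Nat.card_pos
        have h8 : 2 ≤ X.index := by omega
        have h9 : Nat.card X * 2 ≤ Nat.card H := by rw [← h4]; exact Nat.mul_le_mul_left _ h8
        omega
      exact ih (Nat.card X') (by omega) X' W' R' θ' T' B' rfl h1 h2

/-- the same from `SwR` -/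
theorem SwR.exists_fs (hML : ML.Final.MLK.{u, v}) (S : SwR R θ T N) (hB : AtR R N B) :
    ∃ (X' : Type u) (_ : Group X') (W' : Type v) (_ : AddCommGroup W') (_ : DistribMulAction X' W')
      (R' : AddSubgroup W') (θ' : W') (T' B' : Subgroup X'), FsR R' θ' T' B' ∧ LaR R' θ' T' :=
  QR.exists_fs hML _ H W R θ T B rfl S.st
    ⟨hB.BN.trans S.N_le, hB.sq, hB.quad, hB.four, hB.exact, hB.atom⟩

end Cfsg.Agent.Omega.FOne.QR

end

section


/-!
# From an exact group on `W` to an atom of `W / R` (helper763 #23689 (2)-(4), typed by helper851)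

`SwR R θ T N`; `E ≤ N` is elementary abelian, quadratic and exact on `W` (`|W : C_W(E)| ≤ |E|`, `|C| < |W : C_W(C)|` for
`1 < C < E`), `|E| ≥ 4`, and an element of `E` which normalises a line `R + ⟨x • θ⟩` centralises it (`m1`).

* `SwR.o2_bot` : no nontrivial normal 2-subgroup;
* `SwR.tw` : an involution `b` with `(cmR R ⟨b⟩).index = 2` and `m1` is a transvection of `W`;
* **`SwR.exists_atR`** : `E` contains an atom `B` of `W / R` with `|B| ≥ 4`, i.e. `AtR R N B`.
-/

set_option autoImplicit false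
set_option linter.unusedSectionVars false

namespace Cfsg.Agent.Omega.FOne.QR

open Subgroup Cfsg Cfsg.Agent.ZN

universe u v

variable {X : Type u} [Group X] {W : Type v} [AddCommGroup W] [DistribMulAction X W]

variable {R : AddSubgroup W} {θ : W} {T N : Subgroup X}

theorem mem_cmR_zpowers {b : X} (hb : b * b = 1) (two : ∀ w : W, w + w = 0) {w : W} :
    w ∈ cmR R (zpowers b) ↔ b • w + w ∈ R := by
  constructor
  · intro h
    exact h b (mem_zpowers b)
  · intro h x hx
    obtain ⟨n, rfl⟩ := mem_zpowers_iff.1 hx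
    rcases Int.even_or_odd n with hn | hn
    · obtain ⟨k, rfl⟩ := hn
      have e : b ^ (k + k) = 1 := by
        rw [← two_mul, zpow_mul, zpow_two, hb, one_zpow]
      rw [e, one_smul, two]
      exact R.zero_mem
    · obtain ⟨k, rfl⟩ := hn
      have e : b ^ (2 * k + 1) = b := by
        rw [zpow_add_one, zpow_mul, zpow_two, hb, one_zpow, one_mul]
      rw [e]
      exact h

/-- `O_2(X) = 1` -/
theorem SwR.o2_bot (S : SwR R θ T N) {P : Subgroup X} (hP : IsPGroup 2 P) (hn : P.Normal) : P = ⊥ := by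
  have := S.finX
  have : Fact (Nat.Prime 2) := ⟨Nat.prime_two⟩
  have hPT : P ≤ T := by
    have h1 : IsPGroup 2 (T ⊔ P : Subgroup X) := S.T2.to_sup_of_normal_right hP
    have h2 : T ⊔ P = T := (S.T2.toSylow S.syl).is_maximal' h1 le_sup_left
    exact le_sup_right.trans h2.le
  rw [eq_bot_iff]
  intro p hp
  rw [mem_bot]
  refine S.faith p ?_
  have key : cmR R P = ⊤ := by
    refine S.gen _ ?_ ?_
    · intro r hr b _
      rw [S.fixR b r hr, S.two]
      exact R.zero_mem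
    · intro x b hb
      have h1 : x⁻¹ * b * x ∈ P := by
        have := hn.conj_mem b hb x⁻¹
        rwa [inv_inv] at this
      have h2 := S.Tθ _ (hPT h1)
      have e : b • x • θ + x • θ = x • ((x⁻¹ * b * x) • θ + θ) := by
        rw [smul_add, mul_smul, mul_smul, smul_inv_smul]
      rw [e, S.fixR x _ h2]
      exact h2
  intro w
  have : w ∈ cmR R P := by rw [key]; exact AddSubgroup.mem_top w
  exact this p hp

/-- two involutions which act on `W > U > R` in a small way: `(b b')^4 = 1` -/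
theorem SwR.pow_four (S : SwR R θ T N) {b b' : X} (hb : b * b = 1) {U : AddSubgroup W} (hRU : R ≤ U)
    (h1 : ∀ w, b' • w + w ∈ U) (h2 : ∀ u ∈ U, b • u + u ∈ R) (h3 : ∀ u ∈ U, b' • u + u ∈ R) :
    (b * b') ^ 4 = 1 := by
  have sub : ∀ (x : X) (u : W), x • u + u ∈ R → u ∈ U → x • u ∈ U := by
    intro x u h hu
    have e : x • u = (x • u + u) + u := by rw [add_assoc, S.two, add_zero]
    rw [e]
    exact U.add_mem (hRU h) hu
  -- `b b'` on `U`
  have h4 : ∀ u ∈ U, (b * b') • u + u ∈ R := by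
    intro u hu
    have e : (b * b') • u + u = (b • (b' • u + u)) + (b • u + u) := by
      rw [mul_smul, smul_add]
      calc b • b' • u + u = b • b' • u + (b • u + b • u) + u := by rw [S.two, add_zero]
        _ = _ := by abel
    rw [e, S.fixR b _ (h3 u hu)]
    exact R.add_mem (h3 u hu) (h2 u hu)
  have h4U : ∀ u ∈ U, (b * b') • u ∈ U := fun u hu => sub _ _ (h4 u hu) hu
  have hbU : ∀ u ∈ U, b • u ∈ U := fun u hu => sub _ _ (h2 u hu) hu
  -- `b b' w = b w` modulo `U`
  have h5 : ∀ w : W, (b * b') • w + b • w ∈ U := by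
    intro w
    rw [mul_smul, ← smul_add]
    exact hbU _ (h1 w)
  -- `(b b')² w = w` modulo `U`
  have h6 : ∀ w : W, (b * b') • (b * b') • w + w ∈ U := by
    intro w
    have e : (b * b') • (b * b') • w + w
        = (b * b') • ((b * b') • w + b • w) + ((b * b') • b • w + b • b • w) := by
      have e1 : b • b • w = w := by rw [← mul_smul, hb, one_smul]
      rw [e1, smul_add]
      calc (b * b') • (b * b') • w + w
          = (b * b') • (b * b') • w + ((b * b') • b • w + (b * b') • b • w) + w := by rw [S.two, add_zero]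
        _ = _ := by abel
    rw [e]
    exact U.add_mem (h4U _ (h5 w)) (h5 (b • w))
  refine S.faith _ fun w => ?_
  set ρ := b * b' with hρ
  have h7 : ∀ u ∈ U, ρ • ρ • u + u ∈ R := by
    intro u hu
    have e : ρ • ρ • u + u = (ρ • (ρ • u) + ρ • u) + (ρ • u + u) := by
      calc ρ • ρ • u + u = ρ • ρ • u + (ρ • u + ρ • u) + u := by rw [S.two, add_zero]
        _ = _ := by abel
    rw [e]
    exact R.add_mem (h4 _ (h4U u hu)) (h4 u hu)
  have e : ρ ^ 4 • w + w = ρ • ρ • (ρ • ρ • w + w) + (ρ • ρ • w + w) := by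
    have e1 : ρ ^ 4 • w = ρ • ρ • ρ • ρ • w := by
      rw [show ρ ^ 4 = ρ * ρ * ρ * ρ by simp only [pow_succ, pow_zero, one_mul], mul_smul, mul_smul, mul_smul]
    rw [e1, smul_add, smul_add]
    calc ρ • ρ • ρ • ρ • w + w = ρ • ρ • ρ • ρ • w + (ρ • ρ • w + ρ • ρ • w) + w := by rw [S.two, add_zero]
      _ = _ := by abel
  rw [e]
  exact h7 _ (h6 w)

/-- **LEMMA TW** : an involution which is a transvection of `W / R` and centralises the lines `R + ⟨x • θ⟩` which it
normalises is a transvection of `W`. -/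
theorem SwR.tw (S : SwR R θ T N) {b : X} (hb : b * b = 1) (hix : (cmR R (zpowers b)).index = 2)
    (m1 : ∀ x : X, b • x • θ + x • θ ∈ R → b • x • θ = x • θ) :
    ∃ c' : W, ∀ w : W, b • w = w ∨ b • (w + c') = w + c' := by
  have := S.finX
  have : Fact (Nat.Prime 2) := ⟨Nat.prime_two⟩
  have hmem : ∀ {w : W}, w ∈ cmR R (zpowers b) ↔ b • w + w ∈ R := mem_cmR_zpowers hb S.two
  -- a vector outside
  obtain ⟨w₀, hw₀⟩ : ∃ w₀ : W, w₀ ∉ cmR R (zpowers b) := by
    by_contra hcon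
    push Not at hcon
    have : cmR R (zpowers b) = ⊤ := by
      rw [eq_top_iff]
      intro w _
      exact hcon w
    rw [this, AddSubgroup.index_top] at hix
    omega
  have hb1 : b ≠ 1 := by
    rintro rfl
    exact hw₀ (hmem.2 (by rw [one_smul, S.two]; exact R.zero_mem))
  have bb : ∀ w : W, b • b • w = w := fun w => by rw [← mul_smul, hb, one_smul]
  set c : W := b • w₀ + w₀ with hc
  have hcf : b • c = c := by rw [hc, smul_add, bb, add_comm]
  have hcK : c ∈ cmR R (zpowers b) := hmem.2 (by rw [hcf, S.two]; exact R.zero_mem)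
  have hcR : c ∉ R := fun h => hw₀ (hmem.2 h)
  have hadd : ∀ {v w : W}, v ∉ cmR R (zpowers b) → w ∉ cmR R (zpowers b) → v + w ∈ cmR R (zpowers b) :=
    fun hv hw => add_mem_of_two hix hv hw
  -- (A), (B)
  have hA : ∀ {w : W}, w ∈ cmR R (zpowers b) → b • w + w ∈ R := fun h => hmem.1 h
  have hB : ∀ {w : W}, w ∉ cmR R (zpowers b) → b • w + w + c ∈ R := by
    intro w hw
    have h := hA (hadd hw hw₀)
    have e : b • (w + w₀) + (w + w₀) = b • w + w + c := by
      rw [hc, smul_add]; abel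
    rwa [e] at h
  -- an element of odd order inverted by `b`
  have hO : ¬ IsPGroup 2 (Subgroup.normalClosure {b} : Subgroup X) := by
    intro h
    have h1 := S.o2_bot h Subgroup.normalClosure_normal
    have h2 : b ∈ (Subgroup.normalClosure {b} : Subgroup X) := subset_normalClosure (by simp)
    rw [h1, mem_bot] at h2
    exact hb1 h2
  obtain ⟨h, hh1, hodd, hinv⟩ := Cfsg.Agent.Involutions.BaerSuzuki.exists_odd_inverted b hb hO
  have hbinv : b⁻¹ = b := inv_eq_of_mul_eq_one_left hb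
  set b' : X := h * b * h⁻¹ with hb'
  set c' : W := h • c with hc'
  have hb'2 : b' * b' = 1 := by
    rw [hb']
    calc h * b * h⁻¹ * (h * b * h⁻¹) = h * (b * b) * h⁻¹ := by group
      _ = 1 := by rw [hb]; group
  have hsm : ∀ w : W, b' • w = h • b • h⁻¹ • w := by
    intro w
    rw [hb', mul_smul, mul_smul]
  have hA' : ∀ {w : W}, h⁻¹ • w ∈ cmR R (zpowers b) → b' • w + w ∈ R := by
    intro w hw
    have h1 := hA hw
    have e : b' • w + w = h • (b • h⁻¹ • w + h⁻¹ • w) := by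
      rw [hsm, smul_add, smul_inv_smul]
    rw [e, S.fixR h _ h1]
    exact h1
  have hB' : ∀ {w : W}, h⁻¹ • w ∉ cmR R (zpowers b) → b' • w + w + c' ∈ R := by
    intro w hw
    have h1 := hB hw
    have e : b' • w + w + c' = h • (b • h⁻¹ • w + h⁻¹ • w + c) := by
      rw [hsm, smul_add, smul_add, smul_inv_smul]
    rw [e, S.fixR h _ h1]
    exact h1
  -- `b b' = h^{-2}` has odd order
  have hne : (b * b') ^ 4 ≠ 1 := by
    intro h4
    have e : b * b' = h⁻¹ * h⁻¹ := by
      have e1 : b * h * b⁻¹ = h⁻¹ := hinv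
      rw [hbinv] at e1
      calc b * b' = (b * h * b) * h⁻¹ := by rw [hb']; group
        _ = h⁻¹ * h⁻¹ := by rw [e1]
    rw [e] at h4
    have e2 : h ^ 8 = 1 := by
      have e3 : (h⁻¹ * h⁻¹) ^ 4 = (h ^ 8)⁻¹ := by group
      rw [e3, inv_eq_one] at h4
      exact h4
    have h5 : orderOf h ∣ 8 := orderOf_dvd_of_pow_eq_one e2
    have h6 : orderOf h ∣ 2 ^ 3 := by simpa using h5
    have h7 : Nat.Coprime (orderOf h) (2 ^ 3) :=
      (Nat.Coprime.pow_right 3 (Nat.coprime_two_right.2 hodd))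
    have h8 : orderOf h = 1 := Nat.Coprime.eq_one_of_dvd h7 h6
    exact hh1 (orderOf_eq_one_iff.1 h8)
  -- `c' ∉ K`
  have hc'K : c' ∉ cmR R (zpowers b) := by
    intro hcon
    apply hne
    refine S.pow_four hb (U := R ⊔ AddSubgroup.zmultiples c') le_sup_left ?_ ?_ ?_
    · intro w
      by_cases hw : h⁻¹ • w ∈ cmR R (zpowers b)
      · exact (le_sup_left : R ≤ _) (hA' hw)
      · have h1 := hB' hw
        have e : b' • w + w = (b' • w + w + c') + c' := by rw [add_assoc _ c' c', S.two, add_zero]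
        rw [e]
        exact AddSubgroup.add_mem _ ((le_sup_left : R ≤ _) h1)
          ((le_sup_right : AddSubgroup.zmultiples c' ≤ _) (AddSubgroup.mem_zmultiples c'))
    · intro u hu
      have hle : R ⊔ AddSubgroup.zmultiples c' ≤ cmR R (zpowers b) := by
        refine sup_le ?_ ?_
        · intro r hr
          exact hmem.2 (by rw [S.fixR b r hr, S.two]; exact R.zero_mem)
        · rw [AddSubgroup.zmultiples_le]
          exact hcon
      exact hA (hle hu)
    · intro u hu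
      have hle : R ⊔ AddSubgroup.zmultiples c' ≤ cmR R (zpowers b') := by
        refine sup_le ?_ ?_
        · intro r hr
          exact (mem_cmR_zpowers hb'2 S.two).2 (by rw [S.fixR b' r hr, S.two]; exact R.zero_mem)
        · rw [AddSubgroup.zmultiples_le, mem_cmR_zpowers hb'2 S.two]
          have e : b' • c' = c' := by rw [hsm, hc', inv_smul_smul, hcf]
          rw [e, S.two]
          exact R.zero_mem
      exact (mem_cmR_zpowers hb'2 S.two).1 (hle hu)
  -- `h⁻¹ c ∉ K`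
  have hcK' : h⁻¹ • c ∉ cmR R (zpowers b) := by
    intro hcon
    have h4 : (b' * b) ^ 4 = 1 := by
      refine S.pow_four hb'2 (U := R ⊔ AddSubgroup.zmultiples c) le_sup_left ?_ ?_ ?_
      · intro w
        by_cases hw : w ∈ cmR R (zpowers b)
        · exact (le_sup_left : R ≤ _) (hA hw)
        · have h1 := hB hw
          have e : b • w + w = (b • w + w + c) + c := by rw [add_assoc _ c c, S.two, add_zero]
          rw [e]
          exact AddSubgroup.add_mem _ ((le_sup_left : R ≤ _) h1)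
            ((le_sup_right : AddSubgroup.zmultiples c ≤ _) (AddSubgroup.mem_zmultiples c))
      · intro u hu
        have hle : R ⊔ AddSubgroup.zmultiples c ≤ cmR R (zpowers b') := by
          refine sup_le ?_ ?_
          · intro r hr
            exact (mem_cmR_zpowers hb'2 S.two).2 (by rw [S.fixR b' r hr, S.two]; exact R.zero_mem)
          · rw [AddSubgroup.zmultiples_le, mem_cmR_zpowers hb'2 S.two]
            exact hA' hcon
        exact (mem_cmR_zpowers hb'2 S.two).1 (hle hu)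
      · intro u hu
        have hle : R ⊔ AddSubgroup.zmultiples c ≤ cmR R (zpowers b) := by
          refine sup_le ?_ ?_
          · intro r hr
            exact hmem.2 (by rw [S.fixR b r hr, S.two]; exact R.zero_mem)
          · rw [AddSubgroup.zmultiples_le]
            exact hcK
        exact hA (hle hu)
    apply hne
    have e : b * b' = (b' * b)⁻¹ := by
      rw [mul_inv_rev, hbinv, inv_eq_of_mul_eq_one_left hb'2]
    rw [e, inv_pow, h4, inv_one]
  -- the points of the orbit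
  have hpt : ∀ x : X, x • θ ∈ cmR R (zpowers b) → b • x • θ = x • θ := fun x hx => m1 x (hA hx)
  have hfix_add : ∀ {v w : W}, b • v = v → b • w = w → b • (v + w) = v + w := by
    intro v w hv hw
    rw [smul_add, hv, hw]
  have hfixR : ∀ r ∈ R, b • r = r := fun r hr => S.fixR b r hr
  -- if `v` is congruent to `w + c + c'` or `w + c'` modulo `R`
  have hkey : ∀ x : X, b • x • θ = x • θ ∨ b • (x • θ + c') = x • θ + c' := by
    intro x
    by_cases hx : x • θ ∈ cmR R (zpowers b)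
    · exact Or.inl (hpt x hx)
    right
    by_cases hx' : h⁻¹ • x • θ ∈ cmR R (zpowers b)
    · -- `f(v) = 1`, `f'(v) = 0`
      have h1 := hB hx
      set r₁ := b • x • θ + x • θ + c with hr₁
      have e1 : b • x • θ = x • θ + c + r₁ := by
        rw [hr₁]
        calc b • x • θ = b • x • θ + (x • θ + x • θ) + (c + c) := by rw [S.two, S.two, add_zero, add_zero]
          _ = _ := by abel
      have h2 : h⁻¹ • (x • θ + c) ∉ cmR R (zpowers b) := by
        rw [smul_add]
        intro hcon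
        apply hcK'
        have e : h⁻¹ • c = h⁻¹ • x • θ + (h⁻¹ • x • θ + h⁻¹ • c) := by
          rw [← add_assoc, S.two, zero_add]
        rw [e]
        exact AddSubgroup.add_mem _ hx' hcon
      have h3 := hB' h2
      set r₂ := b' • (x • θ + c) + (x • θ + c) + c' with hr₂
      have e2 : b' • b • x • θ = x • θ + c' + (c + r₂ + r₁) := by
        rw [e1, smul_add, S.fixR b' r₁ h1, hr₂]
        calc b' • (x • θ + c) + r₁
            = b' • (x • θ + c) + ((x • θ + c) + (x • θ + c)) + (c' + c') + r₁ + (c + c) := by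
              rw [S.two, S.two, S.two, add_zero, add_zero, add_zero]
          _ = x • θ + c' + (c + (b' • (x • θ + c) + (x • θ + c) + c') + r₁) + (c + c) := by abel
          _ = _ := by rw [S.two, add_zero]
      have h4 : (b' * b * x) • θ ∈ cmR R (zpowers b) := by
        rw [mul_smul, mul_smul, e2]
        refine AddSubgroup.add_mem _ (hadd hx hc'K) (AddSubgroup.add_mem _ (AddSubgroup.add_mem _ hcK ?_) ?_)
        · exact hmem.2 (by rw [S.fixR b r₂ h3, S.two]; exact R.zero_mem)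
        · exact hmem.2 (by rw [S.fixR b r₁ h1, S.two]; exact R.zero_mem)
      have h5 := hpt _ h4
      rw [mul_smul, mul_smul, e2] at h5
      have h6 : b • (c + r₂ + r₁) = c + r₂ + r₁ := hfix_add (hfix_add hcf (hfixR _ h3)) (hfixR _ h1)
      have e3 : x • θ + c' = (x • θ + c' + (c + r₂ + r₁)) + (c + r₂ + r₁) := by
        rw [add_assoc _ (c + r₂ + r₁) (c + r₂ + r₁), S.two, add_zero]
      rw [e3]
      exact hfix_add h5 h6
    · -- `f(v) = 1 = f'(v)`
      have h1 := hB' hx'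
      set r₁ := b' • x • θ + x • θ + c' with hr₁
      have e1 : b' • x • θ = x • θ + c' + r₁ := by
        rw [hr₁]
        calc b' • x • θ = b' • x • θ + (x • θ + x • θ) + (c' + c') := by rw [S.two, S.two, add_zero, add_zero]
          _ = _ := by abel
      have h4 : (b' * x) • θ ∈ cmR R (zpowers b) := by
        rw [mul_smul, e1]
        refine AddSubgroup.add_mem _ (hadd hx hc'K) ?_
        exact hmem.2 (by rw [S.fixR b r₁ h1, S.two]; exact R.zero_mem)
      have h5 := hpt _ h4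
      rw [mul_smul, e1] at h5
      have e3 : x • θ + c' = (x • θ + c' + r₁) + r₁ := by
        rw [add_assoc _ r₁ r₁, S.two, add_zero]
      rw [e3]
      exact hfix_add h5 (hfixR _ h1)
  refine ⟨c', ?_⟩
  -- the subgroup `C_W(b) ∪ (C_W(b) + c')`
  let U : AddSubgroup W :=
    { carrier := {w | b • w = w ∨ b • (w + c') = w + c'}
      zero_mem' := Or.inl (smul_zero b)
      add_mem' := by
        rintro v w (hv | hv) (hw | hw)
        · exact Or.inl (hfix_add hv hw)
        · right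
          rw [add_assoc]
          exact hfix_add hv hw
        · right
          have e : v + w + c' = (v + c') + w := by abel
          rw [e]
          exact hfix_add hv hw
        · left
          have e : v + w = (v + c') + (w + c') := by
            calc v + w = v + w + (c' + c') := by rw [S.two, add_zero]
              _ = _ := by abel
          rw [e]
          exact hfix_add hv hw
      neg_mem' := by
        intro w hw
        have e : -w = w := neg_eq_of_add_eq_zero_left (S.two w)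
        rw [e]
        exact hw }
  have hU : U = ⊤ := S.gen U (fun r hr => Or.inl (hfixR r hr)) hkey
  intro w
  have : w ∈ U := by rw [hU]; exact AddSubgroup.mem_top w
  exact this

end Cfsg.Agent.Omega.FOne.QR

end

end

-- merged: Cfsg.Agent.Mrg.Omega.NO3S.FarB.FOneR
section

section


/-!
# (F1), `q ≥ 4`, every stage: the socket `FOneB` from an abstract statement about `(H, W, R, V)`

* `RDat T A V R π` : `H` acts on `W`, centralises `R`, is faithful on `M = W / R`, `lam = V / R`, `C_W(T) ≤ R`, `A ≠ 1` exact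
  in `O₂(C_H(lam))`, liftwise fixed points (helper81's `FOne.Q.Hyp` with `fixM` replaced by `cent`);
* `FOneR` : `RDat` is contradictory;
* **`fOneB_of_R`** : `MLK → FOneR → NO3S.FOneB K` (every stage, `n ≥ 1`).
-/

set_option autoImplicit false
set_option linter.unusedSectionVars false

namespace Cfsg.Agent.Omega.NO3S.FarB

open Subgroup Cfsg Cfsg.Agent.Omega.NO3S.PT
open Cfsg.Agent.ZN (o2)
open Cfsg.Agent.MinSimple.VModule (o2_le)
open Cfsg.Agent.Omega.NO3S.PtGeom (Pt)
open Cfsg.Agent.Omega.NO3S.FarQ (FlagK NoOv KNO Img Exact zm fixer kno_of_mlk)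
open Cfsg.Agent.Omega.NO3S.FarQ.FOne (Off ph rh img mem_img mem_img_of card_img rho_one rho_inv eq_of_rho
  cent_conj pi_inv)
open Cfsg.Agent.Omega.ML.Final (MLK)
open Cfsg.Agent.Omega.Frame (Cls)
open Cfsg.Agent.ClassTwoFusion.Quad (cv mem_cv cv_anti)
open scoped Pointwise

universe u

/-- **The data at the point `R`** (every stage). -/
structure RDat {H W M : Type u} [Group H] [CommGroup W] [MulDistribMulAction H W] [CommGroup M]
    [MulDistribMulAction H M] (T A : Subgroup H) (V R : Subgroup W) (π : W →* M) : Prop where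
  known : IsKGroupWith IsKnownSimple' H
  finW : Finite W
  sq : ∀ w : W, w * w = 1
  surj : Function.Surjective π
  dat : FarQ.FOneAbs.Dat T V R π
  flag : FlagK T (V.map π)
  full : ∀ v ∈ V, v ∉ R → ∀ r ∈ R, ∃ t ∈ T, (t • v) * v⁻¹ = r
  /-- `C_W(T) ≤ R` -/
  cent : ∀ w : W, (∀ t ∈ T, t • w = w) → w ∈ R
  ex : Exact (V.map π) A
  AV : ∀ x ∈ A, ∀ v ∈ V, x • v = v
  fix : ∀ w : W, (∀ x ∈ A, x • π w = π w) → ∀ x ∈ A, x • w = w

/-- **(F1) for `q ≥ 4`, abstract form, every stage.** -/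
def FOneR : Prop :=
  ∀ (H W M : Type u) [Group H] [CommGroup W] [MulDistribMulAction H W] [CommGroup M] [MulDistribMulAction H M]
    (T A : Subgroup H) (V R : Subgroup W) (π : W →* M), RDat T A V R π → False

section main

variable {G : Type u} [Group G] [Finite G] {S : Sylow 2 G} {B₀ P V Z : Subgroup G} (h : PB S B₀ P V Z)
variable {H M : Type u} [Group H] [CommGroup M] [MulDistribMulAction H M] {ρ : G → H} {π : G → M}
include h

/-- **The contradiction at the base flag.** -/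
theorem false_baseR (r : FarQ.Real V Z ρ π) (hR : FOneR.{u}) (hKG : IsKGroupWith IsKnownSimple' H)
    (hf : kx V Z ≤ centralizer (V : Set G)) {B : Subgroup G} (hB : Off V V Z B)
    (hne : ¬ B ≤ centralizer (ws V Z : Set G))
    (hle : (centralizer (B : Set G)).relIndex (ws V Z) ≤ (centralizer (ws V Z : Set G)).relIndex B)
    (hNO : ∀ A : Subgroup H, A ≤ o2 (fixer ((V.subgroupOf (ws V Z)).map (ph r))) →
      (∀ a ∈ A, ∀ b ∈ A, a * b = b * a) → (∀ a ∈ A, a * a = 1) →
      (∀ a ∈ A, ∀ b ∈ A, ∀ m : M, b • ((a • m) * m⁻¹) = (a • m) * m⁻¹) → Nat.card A ≤ (zm M A).index)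
    (hF : FlagK (FOne.tt h r) ((V.subgroupOf (ws V Z)).map (ph r))) : False := by
  have hBC := FOne.Off.le_cent h hB
  set A := img r hBC with hA
  have hkc := FOne.kx_le h hf
  have hke := FOne.kx_eq h hf
  have hcard : Nat.card A = (centralizer (ws V Z : Set G)).relIndex B := by rw [hA, card_img r hBC, hke]
  have hcomm : ∀ a ∈ A, ∀ b ∈ A, a * b = b * a := by
    intro x hx y hy
    obtain ⟨a, ha, rfl⟩ := (mem_img r).1 hx
    obtain ⟨b, hb, rfl⟩ := (mem_img r).1 hy
    rw [← r.mulρ _ (hBC ha) _ (hBC hb), ← r.mulρ _ (hBC hb) _ (hBC ha), hB.comm a ha b hb]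
  have hsq : ∀ a ∈ A, a * a = 1 := by
    intro x hx
    obtain ⟨a, ha, rfl⟩ := (mem_img r).1 hx
    rw [← r.mulρ _ (hBC ha) _ (hBC ha), hB.sq a ha, rho_one r]
  have hact : ∀ a ∈ B, ∀ w ∈ ws V Z, (ρ a • π w) * (π w)⁻¹ = π (a * w * a⁻¹ * w⁻¹) := by
    intro a ha w hw
    rw [← r.act a (hBC ha) w hw, ← pi_inv r hw, ← r.mulπ _ (cent_conj r (hBC ha) hw) _ (inv_mem hw)]
  have hcW : ∀ a ∈ B, ∀ w ∈ ws V Z, a * w * a⁻¹ * w⁻¹ ∈ ws V Z := fun a ha w hw =>
    mul_mem (cent_conj r (hBC ha) hw) (inv_mem hw)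
  have hquad : ∀ a ∈ A, ∀ b ∈ A, ∀ m : M, b • ((a • m) * m⁻¹) = (a • m) * m⁻¹ := by
    intro x hx y hy m
    obtain ⟨a, ha, rfl⟩ := (mem_img r).1 hx
    obtain ⟨b, hb, rfl⟩ := (mem_img r).1 hy
    obtain ⟨w, hw, rfl⟩ := r.surjπ m
    rw [hact a ha w hw, ← r.act b (hBC hb) _ (hcW a ha w hw), hB.comm b hb _ (hB.nor a ha w hw),
      mul_inv_cancel_right]
  have hAle : A ≤ o2 (fixer ((V.subgroupOf (ws V Z)).map (ph r))) := FOne.img_le h r hB
  have h1 := hNO A hAle hcomm hsq hquad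
  have hsurj : Function.Surjective (ph r) := fun m => by
    obtain ⟨w, hw, rfl⟩ := r.surjπ m
    exact ⟨⟨w, hw⟩, rfl⟩
  have h2 := index_comap_of_surjective (zm M A) hsurj
  have h3 : (centralizer (B : Set G)).subgroupOf (ws V Z) ≤ (zm M A).comap (ph r) := by
    intro w hw
    rw [mem_comap, mem_cv]
    intro x hx
    obtain ⟨a, ha, rfl⟩ := (mem_img r).1 hx
    have h4 := hact a ha w w.2
    have h5 : a * w * a⁻¹ * (w : G)⁻¹ = 1 := by
      have h6 := mem_centralizer_iff.1 (mem_subgroupOf.1 hw) a ha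
      rw [h6, mul_inv_cancel_right, mul_inv_cancel]
    rw [h5] at h4
    have h7 : π 1 = 1 := (ph r).map_one
    rw [h7, mul_inv_eq_one] at h4
    exact h4
  have h4 : ((zm M A).comap (ph r)).index ≤ ((centralizer (B : Set G)).subgroupOf (ws V Z)).index :=
    Nat.le_of_dvd (Nat.pos_of_ne_zero index_ne_zero_of_finite) (index_dvd_of_le h3)
  have h5 : ((centralizer (B : Set G)).subgroupOf (ws V Z)).index ≤ Nat.card A := by
    rw [hcard]; exact hle
  have h6 : (zm M A).comap (ph r) ≤ (centralizer (B : Set G)).subgroupOf (ws V Z) :=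
    FOne.le_of_index_le h3 (by omega)
  have hex : Exact ((V.subgroupOf (ws V Z)).map (ph r)) A := by
    refine ⟨fun e => hne fun b hb => ?_, hAle, hcomm, hsq, hquad, by omega⟩
    have h7 : ρ b ∈ A := mem_img_of r hb
    rw [e, mem_bot] at h7
    exact hkc ((r.kerρ b (hBC hb)).1 h7)
  -- the action on `W`
  choose σ hσ1 hσ2 using r.surjρ
  let _ : CommGroup (ws V Z) :=
    { (inferInstance : Group (ws V Z)) with
      mul_comm := fun a b => Subtype.ext (mem_centralizer_iff.1 (h.Wcomm b.2) a a.2) }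
  let _ : MulDistribMulAction H (ws V Z) :=
    { smul := fun x w => ⟨σ x * w * (σ x)⁻¹, cent_conj r (hσ1 x) w.2⟩
      one_smul := fun w => Subtype.ext (by
        show σ 1 * (w : G) * (σ 1)⁻¹ = w
        rw [eq_of_rho r (hσ1 1) (one_mem _) hkc ((hσ2 1).trans (rho_one r).symm) w.2]
        group)
      mul_smul := fun x y w => Subtype.ext (by
        show σ (x * y) * (w : G) * (σ (x * y))⁻¹ = σ x * (σ y * w * (σ y)⁻¹) * (σ x)⁻¹
        rw [eq_of_rho r (hσ1 (x * y)) (mul_mem (hσ1 x) (hσ1 y)) hkc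
          (by rw [hσ2, r.mulρ _ (hσ1 x) _ (hσ1 y), hσ2, hσ2]) w.2]
        group)
      smul_mul := fun x w w' => Subtype.ext (by
        show σ x * ((w : G) * w') * (σ x)⁻¹ = σ x * w * (σ x)⁻¹ * (σ x * w' * (σ x)⁻¹)
        group)
      smul_one := fun x => Subtype.ext (by
        show σ x * (1 : G) * (σ x)⁻¹ = 1
        group) }
  have hsm : ∀ a ∈ centralizer (Z : Set G), ∀ w : ws V Z, ((ρ a • w : ws V Z) : G) = a * w * a⁻¹ := by
    intro a ha w
    show σ (ρ a) * (w : G) * (σ (ρ a))⁻¹ = a * w * a⁻¹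
    exact eq_of_rho r (hσ1 _) ha hkc (hσ2 _) w.2
  have D : FarQ.FOneAbs.Dat (FOne.tt h r) (V.subgroupOf (ws V Z)) (Z.subgroupOf (ws V Z)) (ph r) := by
    refine ⟨FOne.finite_H r, fun w => r.kerπ w w.2, ?_, ?_, ?_, ?_, ?_, ?_, ?_⟩
    · intro x w
      show π (σ x * w * (σ x)⁻¹) = x • π w
      rw [r.act _ (hσ1 x) w w.2, hσ2]
    · intro x w hw
      refine Subtype.ext ?_
      show σ x * (w : G) * (σ x)⁻¹ = w
      rw [← mem_centralizer_iff.1 (hσ1 x) w hw, mul_inv_cancel_right]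
    · intro t ht v hv
      obtain ⟨s, hs, rfl⟩ := (mem_img r).1 ht
      rw [mem_subgroupOf]
      show ((ρ s • v : ws V Z) : G) * (v : G)⁻¹ ∈ Z
      rw [hsm s (h.B_le hs)]
      exact h.act s hs v hv
    · intro w hw
      exact h.ZV hw
    · intro t ht v hv hvZ e u hu
      obtain ⟨s, hs, rfl⟩ := (mem_img r).1 ht
      have e1 := congrArg Subtype.val e
      rw [hsm s (h.B_le hs)] at e1
      refine Subtype.ext ?_
      rw [hsm s (h.B_le hs)]
      have e2 := h.free s hs v hv (fun e => hvZ e) (mul_inv_eq_iff_eq_mul.1 e1) u hu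
      rw [e2, mul_inv_cancel_right]
    · obtain ⟨Y, hY, hYV, hYne⟩ := h.exists_second h.isCj_self h.ZV
      obtain ⟨v, hv, hv1⟩ := h.pt_ne_bot hY
      have hvZ : v ∉ Z := fun e => hYne (h.pts_eq hY h.isCj_self hv e hv1)
      obtain ⟨z, hz, hz1⟩ := h.pt_ne_bot h.isCj_self
      obtain ⟨s, hs, hsz⟩ := h.full v (hYV hv) hvZ z hz
      refine ⟨ρ s, mem_img_of r hs, ⟨v, h.V_le_ws h.ZV (hYV hv)⟩, hYV hv, fun e => hz1 ?_⟩
      have e1 := congrArg Subtype.val e
      rw [hsm s (h.B_le hs)] at e1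
      rw [← hsz, mul_inv_eq_one]
      exact e1
    · intro x hx v hv
      have h7 := FOne.norm_V h r hf (hσ1 x) (by rw [hσ2]; exact hx)
      rw [mem_subgroupOf]
      show σ x * (v : G) * (σ x)⁻¹ ∈ V
      exact (mem_normalizer_iff.1 h7 v).1 hv
  refine hR H (ws V Z) M (FOne.tt h r) A (V.subgroupOf (ws V Z)) (Z.subgroupOf (ws V Z)) (ph r)
    { known := hKG
      finW := inferInstance
      sq := ?_
      surj := hsurj
      dat := D
      flag := hF
      full := ?_
      cent := ?_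
      ex := hex
      AV := ?_
      fix := ?_ }
  · intro w
    exact Subtype.ext (PB.Geom.ws_sq_pt h h.isCj_self w w.2)
  · intro v hv hvZ z hz
    obtain ⟨s, hs, e⟩ := h.full v hv (fun e => hvZ e) z hz
    refine ⟨ρ s, mem_img_of r hs, Subtype.ext ?_⟩
    show ((ρ s • v : ws V Z) : G) * (v : G)⁻¹ = z
    rw [hsm s (h.B_le hs)]
    exact e
  · intro w hw
    rw [mem_subgroupOf]
    refine h.omega w ?_ (PB.Geom.ws_sq_pt h h.isCj_self w w.2) fun s hs => ?_
    · exact h.ws_le_B w.2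
    · have e := congrArg Subtype.val (hw (ρ s) (mem_img_of r hs))
      rw [hsm s (h.B_le hs)] at e
      exact mul_inv_eq_iff_eq_mul.1 e
  · intro x hx v hv
    obtain ⟨b, hb, rfl⟩ := (mem_img r).1 hx
    refine Subtype.ext ?_
    rw [hsm b (hBC hb)]
    have h8 := mem_centralizer_iff.1 (o2_le _ (hB.le hb)) v hv
    rw [← h8, mul_inv_cancel_right]
  · intro w hw x hx
    obtain ⟨b, hb, rfl⟩ := (mem_img r).1 hx
    have h7 : w ∈ (zm M A).comap (ph r) := by
      rw [mem_comap, mem_cv]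
      exact hw
    have h8 := mem_centralizer_iff.1 (mem_subgroupOf.1 (h6 h7)) b hb
    refine Subtype.ext ?_
    rw [hsm b (hBC hb), h8, mul_inv_cancel_right]

/-- **(F1) for `q ≥ 4`** at a critical pair. -/
theorem hf_ofR (hML : MLK.{u, u}) (hR : FOneR.{u}) (hq : 4 ≤ Nat.card Z)
    (hKC : ∀ (H : Type u) [Group H], Img (centralizer (Z : Set G)) H → IsKGroup H) {n : ℕ} (hn : 1 ≤ n)
    {x y : Pt Z} (hc : NOThree.Pts.Crit (PtGeom.inc (Z := Z) (V := V)) (fun x : Pt Z => ws V x.sg) n x y) :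
    ¬ kx V Z ≤ centralizer (V : Set G) := by
  intro hf
  obtain ⟨H, M, iH, iM, iA, ρ, π, r⟩ := exists_real h
  let T : Subgroup H := FOne.tt h r
  have hT : ∀ x, x ∈ T ↔ ∃ s ∈ B₀, ρ s = x := fun x => FarQ.FOne.mem_img r
  let lam : Subgroup M := (V.subgroupOf (ws V Z)).map (FarQ.FOne.ph r)
  have hlam : ∀ m, m ∈ lam ↔ ∃ v ∈ V, π v = m := fun m => FOne.ph_V_mem h r
  have hK := flagK_of h r hq hT hlam
  have hI : Img (centralizer (Z : Set G)) H := FarQ.img_of_real r
  have hKG : IsKGroup H := hKC H hI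
  have hNO := kno_of_mlk hML H M T lam hKG hK
  obtain ⟨g, hg, hB⟩ := FOne.off_of_crit h hn hc
  obtain ⟨g', hg', hB'⟩ := FOne.off_of_crit h hn hc.symm
  have hb := hB.conj g⁻¹
  have hb' := hB'.conj g'⁻¹
  rw [cj_cj, cj_cj, inv_mul_cancel, cj_one, cj_one] at hb hb'
  have h1 := FOne.relIndex_le h r hf hb' hNO
  -- `|W_y : C(W_x)| ≤ |W_x : C(W_y)|`
  have e1 : cj g (cj g⁻¹ (ws V x.sg)) = ws V x.sg := by rw [cj_cj, mul_inv_cancel, cj_one]
  have e2 : cj g' (cj g'⁻¹ (ws V y.sg)) = ws V y.sg := by rw [cj_cj, mul_inv_cancel, cj_one]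
  have e3 : ws V y.sg = cj g (ws V Z) := by rw [hg, ws_cj]
  have e4 : ws V x.sg = cj g' (ws V Z) := by rw [hg', ws_cj]
  rw [← FOne.cent_relIndex_conj g' (ws V Z), ← FOne.cent_relIndex_conj g' (cj g'⁻¹ (ws V y.sg)), e2, ← e4] at h1
  refine false_baseR h r hR hKG hf hb ?_ ?_ hNO hK
  · intro hcon
    apply hc.ne
    intro a ha b hbm
    have h2 : ws V x.sg ≤ centralizer (ws V y.sg : Set G) := by
      rw [← e1, e3, ← cj_centralizer, cj_le_cj]
      exact hcon
    exact (mem_centralizer_iff.1 (h2 ha) b hbm).symm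
  · rw [← FOne.cent_relIndex_conj g (ws V Z), ← FOne.cent_relIndex_conj g (cj g⁻¹ (ws V x.sg)), e1, ← e3]
    exact h1

end main

/-- **The socket `FOneB`** (every stage) from (ML) and `FOneR`. -/
theorem fOneB_of_R {K : Cls.{u}} (hML : MLK.{u, u}) (hR : FOneR.{u}) : NO3S.FOneB K := by
  intro G _ _ _ S P h F _ _ _ hF _ B R hB n y hn hc
  exact Or.inl (hf_ofR hB.pb hML hR (hB.card.symm ▸ hF)
    (fun H _ hI => FarQ.kgroup_of_img h.toHyp.ctx.kproper (centralizer_ne_top h.toHyp hB.pb.Zne) H hI) hn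
    (PB.Geom.crit hB.pb hB.pb.V_eq hc))

end Cfsg.Agent.Omega.NO3S.FarB

end

section


/-!
# (F1), the K-route for `R` of any size: the front (helper232; copy of helper81's `FOne.Q.Abs` at the `R`-level)

* `Front.exists_atom` : an exact subgroup contains an atom;
* `Front.tv_of_index_two` : an exact subgroup of order 2 consists of transvections modulo `R`;
* **`front`** : `RDat` (every stage) ⟹ `SwR`, `AtR` for the submodule generated by one vector of `lam`.
-/

set_option autoImplicit false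
set_option linter.unusedSectionVars false

namespace Cfsg.Agent.Omega.FOne.QR

open Subgroup Cfsg
open Cfsg.Agent.ClassTwoFusion.Quad (cv mem_cv)
open Cfsg.Agent.Omega.NO3S.FarQ (FlagK Exact zm fixer)
open Cfsg.Agent.Omega.NO3S.FarQ.FOneAbs (Dat)
open Cfsg.Agent.Omega.NO3S.FarB (RDat)
open Cfsg.Agent.Omega.ML.MinFrame (orb fxr)
open Cfsg.Agent.ZN (o2)
open Cfsg.Agent.MinSimple.VModule (o2_le o2_isPGroup le_normalizer_o2)

universe u v

section pure

variable {H : Type u} [Group H] {W : Type v} [AddCommGroup W] [DistribMulAction H W] {R : AddSubgroup W}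

/-- An exact subgroup `≠ 1` contains an atom. -/
theorem Front.exists_atom [Finite H] {A : Subgroup H} (A1 : A ≠ ⊥) (hex : (cmR R A).index = Nat.card A)
    (hno : ∀ C : Subgroup H, C ≤ A → Nat.card C ≤ (cmR R C).index) :
    ∃ B : Subgroup H, B ≤ A ∧ B ≠ ⊥ ∧ (cmR R B).index = Nat.card B ∧
      ∀ C : Subgroup H, C ≤ B → C ≠ ⊥ → C ≠ B → Nat.card C < (cmR R C).index := by
  have hfin : Finite (Subgroup H) := inferInstance
  obtain ⟨B, hB⟩ := (Set.toFinite {B : Subgroup H | B ≤ A ∧ B ≠ ⊥ ∧ (cmR R B).index = Nat.card B}).exists_minimal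
    ⟨A, le_rfl, A1, hex⟩
  obtain ⟨h1, h2, h3⟩ := hB.prop
  refine ⟨B, h1, h2, h3, fun C hC hC1 hCB => lt_of_le_of_ne (hno C (hC.trans h1)) fun h4 => hCB ?_⟩
  exact le_antisymm hC (hB.le_of_le (y := C) ⟨hC.trans h1, hC1, h4.symm⟩ hC)

/-- `|W / R : C(B)| = 2` : transvections modulo `R` -/
theorem Front.tv_of_index_two {B : Subgroup H} (h2 : (cmR R B).index = 2) {b : H} (hb : b ∈ B) (v w : W) :
    b • v + v ∈ R ∨ b • w + w ∈ R ∨ b • (v + w) + (v + w) ∈ R := by
  by_cases hv : v ∈ cmR R B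
  · exact Or.inl (hv b hb)
  · by_cases hw : w ∈ cmR R B
    · exact Or.inr (Or.inl (hw b hb))
    · refine Or.inr (Or.inr ?_)
      have h : v + w ∈ cmR R B := (AddSubgroup.add_mem_iff_of_index_two h2).2 ⟨fun h => absurd h hv, fun h => absurd h hw⟩
      exact h b hb

end pure

section main

variable {H W M : Type u} [Group H] [CommGroup W] [MulDistribMulAction H W] [CommGroup M]
  [MulDistribMulAction H M]

/-- the action on `U`, additively -/
@[reducible] def actA {U : Subgroup W} (hU : ∀ h : H, ∀ w ∈ U, h • w ∈ U) : DistribMulAction H (Additive U) where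
  smul h w := Additive.ofMul ⟨h • ((Additive.toMul w : U) : W), hU h _ (Additive.toMul w).2⟩
  one_smul w := congrArg Additive.ofMul (Subtype.ext (one_smul H ((Additive.toMul w : U) : W)))
  mul_smul g h w := congrArg Additive.ofMul (Subtype.ext (mul_smul g h ((Additive.toMul w : U) : W)))
  smul_zero g := congrArg Additive.ofMul (Subtype.ext (smul_one g))
  smul_add g v w := congrArg Additive.ofMul (Subtype.ext (smul_mul' g ((Additive.toMul v : U) : W)
    ((Additive.toMul w : U) : W)))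

/-- **The front**: `RDat` at any stage gives the situation of the reduction. -/
theorem front (hML : ML.Final.MLK.{u, u}) {T A : Subgroup H} {V R : Subgroup W} {π : W →* M}
    (P : RDat T A V R π) :
    ∃ (W' : Type u) (_ : AddCommGroup W') (_ : DistribMulAction H W') (R' : AddSubgroup W') (θ : W')
      (N B : Subgroup H), SwR R' θ T N ∧ AtR R' N B := by
  classical
  have hfW := P.finW
  have D := P.dat
  have F := P.flag
  have hfH := F.finH
  have hfM := F.finM
  -- `R` is centralised, `π` is equivariant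
  have hcm : ∀ (x : H) (w : W), (x • w) * w⁻¹ ∈ R ↔ x • π w = π w := by
    intro x w
    rw [← D.ker, map_mul, map_inv, D.equi, mul_inv_eq_one]
  have hlm : ∀ v ∈ V, π v ∈ V.map π := fun v hv => mem_map_of_mem π hv
  have hlin : ∀ (h : H) (v : W), v ∈ V → v ∉ R → h • π v = π v → ∀ b ∈ V.map π, h • b = b := by
    intro h v hv hvR e
    exact F.lin _ (hlm v hv) (fun e1 => hvR ((D.ker v).1 e1)) h e
  -- an element fixing one vector of `lam ^ g` fixes all of them
  have hlin' : ∀ (x g : H) (v : W), v ∈ V → v ∉ R → x • g • π v = g • π v → ∀ b ∈ V.map π, x • g • b = g • b := by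
    intro x g v hv hvR e b hb
    have h1 : (g⁻¹ * x * g) • π v = π v := by
      rw [mul_smul, mul_smul, e, inv_smul_smul]
    have h2 := hlin _ v hv hvR h1 b hb
    rw [mul_smul, mul_smul, inv_smul_eq_iff] at h2
    exact h2
  have htriv : ∀ x : H, (∀ g : H, ∀ b ∈ V.map π, x • g • b = g • b) → x = 1 := by
    intro x hx
    refine F.faith x fun m => ?_
    let N : Subgroup M :=
      { carrier := {m | x • m = m}
        one_mem' := smul_one x
        mul_mem' := fun {a b} ha hb => by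
          change x • (a * b) = a * b
          rw [smul_mul', ha, hb]
        inv_mem' := fun {a} ha => by
          change x • a⁻¹ = a⁻¹
          rw [smul_inv', ha] }
    have hN := F.gen N fun h a ha => hx h a ha
    have : m ∈ N := by rw [hN]; exact mem_top m
    exact this
  -- a vector `a ∈ V - R`
  obtain ⟨t₀, ht₀, a, ha, hta⟩ := D.ne
  have haR : a ∉ R := fun h => hta (D.fixR t₀ a h)
  -- the module of `a`
  set Ma : Subgroup M := orb (⊤ : Subgroup H) (π a) with hMa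
  set U : Subgroup W := Ma.comap π with hU
  have hMaH : ∀ (h : H), ∀ m ∈ Ma, h • m ∈ Ma := by
    intro h m hm
    have h1 : Ma ≤ Ma.comap (MulDistribMulAction.toMonoidHom M h) := by
      rw [hMa, orb, closure_le]
      rintro _ ⟨g, -, rfl⟩
      change h • g • π a ∈ orb (⊤ : Subgroup H) (π a)
      rw [← mul_smul]
      exact subset_closure ⟨h * g, mem_top _, rfl⟩
    exact h1 hm
  have hUH : ∀ (h : H), ∀ w ∈ U, h • w ∈ U := by
    intro h w hw
    rw [hU, mem_comap, D.equi]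
    exact hMaH h _ hw
  have hRU : R ≤ U := by
    intro r hr
    rw [hU, mem_comap, (D.ker r).2 hr]
    exact one_mem _
  have hgaU : ∀ h : H, h • a ∈ U := by
    intro h
    rw [hU, mem_comap, D.equi]
    exact subset_closure ⟨h, mem_top _, rfl⟩
  have haU : a ∈ U := by
    have := hgaU 1
    rwa [one_smul] at this
  set lam := V.map π with hlam
  -- the additive module
  let act1 : DistribMulAction H (Additive U) := actA hUH
  let ι : Additive U → W := fun w => ((Additive.toMul w : U) : W)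
  have ιadd : ∀ v w, ι (v + w) = ι v * ι w := fun _ _ => rfl
  have ιsm : ∀ (h : H) w, ι (h • w) = h • ι w := fun _ _ => rfl
  have ιU : ∀ w, ι w ∈ U := fun w => (Additive.toMul w : U).2
  have ιinj : ∀ v w, ι v = ι w → v = w := fun v w h => congrArg Additive.ofMul (Subtype.ext h : Additive.toMul v = Additive.toMul w)
  let mk : ∀ w : W, w ∈ U → Additive U := fun w hw => Additive.ofMul ⟨w, hw⟩
  have ιmk : ∀ w hw, ι (mk w hw) = w := fun _ _ => rfl
  let R' : AddSubgroup (Additive U) := Subgroup.toAddSubgroup (R.subgroupOf U)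
  have hR' : ∀ w, w ∈ R' ↔ ι w ∈ R := fun w => Iff.rfl
  have hinv : ∀ w : W, w⁻¹ = w := fun w => inv_eq_of_mul_eq_one_left (P.sq w)
  -- `x • w + w ∈ R'`
  have hcr : ∀ (x : H) (w : Additive U), x • w + w ∈ R' ↔ x • π (ι w) = π (ι w) := by
    intro x w
    rw [hR', ιadd, ιsm, ← hcm, hinv]
  let θ : Additive U := mk a haU
  -- the group `N`
  let N : Subgroup H := o2 (fixer lam)
  have hAN : A ≤ N := P.ex.le
  have hgen : ∀ X : AddSubgroup (Additive U), R' ≤ X → (∀ x : H, x • θ ∈ X) → X = ⊤ := by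
    intro X hRX hX
    rw [eq_top_iff]
    rintro w -
    let Y : Subgroup M :=
      { carrier := {m | ∃ u ∈ X, π (ι u) = m}
        one_mem' := ⟨0, X.zero_mem, by
          change π ((1 : U) : W) = 1
          rw [Subgroup.coe_one, map_one]⟩
        mul_mem' := by
          rintro _ _ ⟨u, hu, rfl⟩ ⟨v, hv, rfl⟩
          exact ⟨u + v, X.add_mem hu hv, by rw [ιadd, map_mul]⟩
        inv_mem' := by
          rintro _ ⟨u, hu, rfl⟩
          exact ⟨u, hu, by rw [← map_inv, hinv]⟩ }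
    have h1 : Ma ≤ Y := by
      rw [hMa, orb, closure_le]
      rintro _ ⟨g, -, rfl⟩
      exact ⟨g • θ, hX g, by rw [ιsm, D.equi]; rfl⟩
    obtain ⟨u, hu, e⟩ := h1 (ιU w)
    have h2 : w + u ∈ R' := by
      rw [hR', ιadd, ← D.ker, map_mul, e, ← map_mul, P.sq, map_one]
    have h3 := X.add_mem (hRX h2) hu
    have h4 : w + u + u = w := by
      apply ιinj
      rw [ιadd, ιadd, mul_assoc, P.sq, mul_one]
    rwa [h4] at h3
  have S : SwR R' θ T N :=
    { known := P.known
      finX := hfH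
      finW := inferInstance
      two := fun w => ιinj _ _ (P.sq (ι w))
      fixR := fun x r hr => ιinj _ _ (D.fixR x _ hr)
      faith := by
        intro x hx
        refine htriv x fun g b hb => hlin' x g a ha haR ?_ b hb
        have h1 := (hcr x (g • θ)).1 (hx _)
        rwa [ιsm, D.equi] at h1
      T2 := F.two
      syl := F.ndvd
      fixT := by
        intro w hw
        exact P.cent _ fun t ht => congrArg ι (hw t ht)
      θR := haR
      Tθ := by
        intro t ht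
        rw [hcr]
        exact F.fix t ht _ (hlm a ha)
      gen := hgen
      N2 := o2_isPGroup _
      Nθ := by
        intro n hn
        rw [hcr]
        exact o2_le _ hn _ (hlm a ha)
      Nn := by
        intro x hx n hn
        rw [hcr] at hx
        have h2 : x ∈ (fixer lam : Subgroup H) := hlin x a ha haR hx
        exact (mem_normalizer_iff.1 (le_normalizer_o2 _ h2) n).1 hn }
  -- `A` is exact
  let f : Multiplicative (Additive U) →* M := MonoidHom.mk' (fun w => π (ι (Multiplicative.toAdd w))) fun v w => by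
    rw [toAdd_mul, ιadd, map_mul]
  have hfr : f.range = Ma := by
    ext m
    constructor
    · rintro ⟨w, rfl⟩
      exact ιU (Multiplicative.toAdd w)
    · intro hm
      obtain ⟨w, rfl⟩ := P.surj m
      exact ⟨Multiplicative.ofAdd (mk w hm), rfl⟩
  have hcmA : AddSubgroup.toSubgroup (cmR R' A) = (zm M A).comap f := by
    ext w
    rw [mem_comap]
    change Multiplicative.toAdd w ∈ cmR R' A ↔ f w ∈ cv M (A : Set H)
    rw [mem_cmR, mem_cv]
    exact forall₂_congr fun x _ => hcr x _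
  have hrel : (cmR R' A).index = (zm M A).relIndex Ma := by
    have h1 : (AddSubgroup.toSubgroup (cmR R' A)).index = (zm M A).relIndex Ma := by
      rw [hcmA, index_comap, hfr]
    exact h1
  have hno : ∀ C : Subgroup H, C ≤ A → Nat.card C ≤ (cmR R' C).index := fun C hC =>
    S.no hML (hC.trans hAN) fun c hc => P.ex.sq c (hC hc)
  have hrs : (zm M A).relIndex (Ma ⊔ zm M A) = (zm M A).relIndex Ma := relIndex_sup_right _ _
  have hmul : (zm M A).relIndex (Ma ⊔ zm M A) * (Ma ⊔ zm M A).index = (zm M A).index :=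
    relIndex_mul_index le_sup_right
  rw [hrs, ← hrel] at hmul
  have hone : (Ma ⊔ zm M A).index = 1 := by
    have h1 := P.ex.card
    have h2 : 0 < (Ma ⊔ zm M A).index := Nat.pos_of_ne_zero index_ne_zero_of_finite
    have h0 := hno A le_rfl
    by_contra h3
    have h4 : 2 ≤ (Ma ⊔ zm M A).index := by omega
    have h5 : (cmR R' A).index * 2 ≤ (zm M A).index := by rw [← hmul]; exact Nat.mul_le_mul_left _ h4
    have h6 : 0 < Nat.card A := Nat.card_pos
    omega
  have hsup : Ma ⊔ zm M A = ⊤ := index_eq_one.1 hone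
  have hexA : (cmR R' A).index = Nat.card A := by
    rw [hone, mul_one] at hmul
    rw [hmul]; exact P.ex.card.symm
  -- the atom
  obtain ⟨B, hBA, hB1, hBex, hBat⟩ := Front.exists_atom P.ex.ne hexA hno
  refine ⟨Additive U, inferInstance, act1, R', θ, N, B, S, hBA.trans hAN, fun b hb => P.ex.sq b (hBA hb), ?_, ?_,
    hBex, hBat⟩
  · intro x hx z hz w
    rw [hcr, ιadd, ιsm, map_mul, D.equi]
    have h1 := P.ex.quad z (hBA hz) x (hBA hx) (π (ι w))
    have h2 : (π (ι w))⁻¹ = π (ι w) := by rw [← map_inv, hinv]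
    rwa [h2] at h1
  · -- `|B| = 2` is impossible
    by_contra h4
    have hB2 : IsPGroup 2 B := S.N2.to_le (hBA.trans hAN)
    have hcard : Nat.card B = 2 := by
      have : Fact (Nat.Prime 2) := ⟨Nat.prime_two⟩
      obtain ⟨n, hn⟩ := IsPGroup.iff_card.1 hB2
      match n, hn with
      | 0, hn =>
        exfalso
        apply hB1
        rw [pow_zero] at hn
        exact card_eq_one.1 hn
      | 1, hn => rw [hn, pow_one]
      | n + 2, hn =>
        exfalso
        apply h4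
        rw [hn, pow_add]
        have := Nat.one_le_two_pow (n := n)
        omega
    obtain ⟨g, hg, hg1⟩ : ∃ g ∈ B, g ≠ 1 := by
      by_contra hcon
      push Not at hcon
      exact hB1 ((eq_bot_iff_forall B).2 hcon)
    rw [hcard] at hBex
    -- on `Ma`
    have hgm : ∀ m ∈ Ma, ∀ n ∈ Ma, g • m = m ∨ g • n = n ∨ g • (m * n) = m * n := by
      intro m hm n hn
      obtain ⟨v, rfl⟩ := P.surj m
      obtain ⟨w, rfl⟩ := P.surj n
      have hv : v ∈ U := hm
      have hw : w ∈ U := hn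
      have h1 := Front.tv_of_index_two hBex hg (mk v hv) (mk w hw)
      rw [hcr, hcr, hcr, ιadd, ιmk, ιmk, map_mul] at h1
      exact h1
    have hgM : ∀ m n : M, g • m = m ∨ g • n = n ∨ g • (m * n) = m * n := by
      intro m n
      have h1 : ∀ m : M, ∃ m' ∈ Ma, ∃ c ∈ zm M A, m = m' * c := by
        intro m
        have : m ∈ Ma ⊔ zm M A := by rw [hsup]; exact mem_top m
        obtain ⟨x, hx, c, hc, e⟩ := mem_sup.1 this
        exact ⟨x, hx, c, hc, e.symm⟩
      obtain ⟨m', hm', c, hc, rfl⟩ := h1 m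
      obtain ⟨n', hn', d, hd, rfl⟩ := h1 n
      have hc' : g • c = c := mem_cv.1 hc g (hBA hg)
      have hd' : g • d = d := mem_cv.1 hd g (hBA hg)
      rcases hgm m' hm' n' hn' with h | h | h
      · left; rw [smul_mul', h, hc']
      · right; left; rw [smul_mul', h, hd']
      · right; right
        have e : m' * c * (n' * d) = m' * n' * (c * d) := mul_mul_mul_comm _ _ _ _
        rw [e, smul_mul' g (m' * n'), h, smul_mul', hc', hd']
    -- two independent elements of `lam`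
    obtain ⟨b₁, hb₁, b₂, hb₂, n1, n2, n3⟩ : ∃ b₁ ∈ V, ∃ b₂ ∈ V, b₁ ∉ R ∧ b₂ ∉ R ∧ b₁ * b₂ ∉ R := by
      by_contra hcon
      push Not at hcon
      have h1 : (lam : Set M) ⊆ (({1, π a} : Finset M) : Set M) := by
        rintro _ ⟨v, hv, rfl⟩
        simp only [Finset.coe_insert, Finset.coe_singleton, Set.mem_insert_iff, Set.mem_singleton_iff]
        by_cases hvR : v ∈ R
        · left; exact (D.ker v).2 hvR
        · right
          have h2 := hcon v hv a ha hvR haR
          have h3 := (D.ker _).2 h2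
          rw [map_mul] at h3
          have h4 : π a * π a = 1 := F.sq _
          exact (mul_left_inj (π a)).1 (h3.trans h4.symm)
      have h2 := Set.ncard_le_ncard h1 (Finset.finite_toSet _)
      rw [Set.ncard_coe_finset] at h2
      have h3 : (lam : Set M).ncard = Nat.card lam := rfl
      have h4 := Finset.card_le_two (a := (1 : M)) (b := π a)
      have h5 := F.four
      omega
    apply hg1
    refine htriv g fun h b hb => ?_
    rcases hgM (h • π b₁) (h • π b₂) with e | e | e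
    · exact hlin' g h b₁ hb₁ n1 e b hb
    · exact hlin' g h b₂ hb₂ n2 e b hb
    · refine hlin' g h (b₁ * b₂) (V.mul_mem hb₁ hb₂) n3 ?_ b hb
      rw [map_mul, smul_mul']
      exact e

end main

end Cfsg.Agent.Omega.FOne.QR

end

section


/-!
# (F1), `q ≥ 4`, over the `(R, B)`-frame: the socket `FOneB` from (ML) and the K-input on the blocks

* `fOneB_of_kps` : `NO3S.FOneB K` (`Node/NO3SLevel.lean`, every `n ≥ 1`) from `MLK` and `KPS` for K-groups (`front` of
  `FarB/Node.lean`, helper973).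

(The socket `FarBF` is `FarQ.Free.farBF`, `Free/End.lean`.)
-/

set_option autoImplicit false
set_option linter.unusedSectionVars false

namespace Cfsg.Agent.Omega.NO3S.FarB

open Subgroup Cfsg
open Cfsg.Agent.Omega.NO3S.FarQ (KPS)
open Cfsg.Agent.Omega.ML.Final (MLK)

universe u

end Cfsg.Agent.Omega.NO3S.FarB

end

end

-- merged: Cfsg.Agent.Mrg.Omega.FOne.ActR.End
section

section


/-!
# (F1), the minimal parabolic case, closed form

`Sit.nmax` : an exact atom `B ≤ T` of order `≥ 4`, `C_W(T) ≤ ker p` : `T` is in at least two maximal subgroups of `X`.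
-/

set_option autoImplicit false

namespace Cfsg.Agent.Omega.FOne.ActR

universe u

/-- **nmax** -/
theorem Sit.nmax {X M : Type u} {W : Type*} [Group X] [Finite X] [CommGroup M] [Finite M] [MulDistribMulAction X M]
    [CommGroup W] [Finite W] [MulDistribMulAction X W] {T B : Subgroup X} {p : W →* M} (h : Sit T B p) :
    ¬ ∃ N : Subgroup X, N ≠ ⊤ ∧ ∀ R : Subgroup X, T ≤ R → R ≠ ⊤ → R ≤ N :=
  Sit.nmax_of FF.Glob.aStmt h

/-- generation by one vector -/
theorem gen_of {X M : Type*} [Group X] [CommGroup M] [MulDistribMulAction X M] {T : Subgroup X} {m₀ : M}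
    (h0 : ∀ t ∈ T, t • m₀ = m₀)
    (gen : ∀ U : Subgroup M, (∀ x : X, ∀ u ∈ U, x • u ∈ U) → m₀ ∈ U → U = ⊤) (U : Subgroup M)
    (hU : ∀ m : M, (∀ t ∈ T, t • m = m) → ∀ x : X, x • m ∈ U) : U = ⊤ := by
  -- the largest invariant subgroup of `U`
  let U' : Subgroup M :=
    { carrier := {m | ∀ x : X, x • m ∈ U}
      one_mem' := fun x => by rw [smul_one]; exact U.one_mem
      mul_mem' := fun {a b} ha hb x => by rw [smul_mul']; exact U.mul_mem (ha x) (hb x)
      inv_mem' := fun {a} ha x => by rw [smul_inv']; exact U.inv_mem (ha x) }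
  have h1 := gen U' (fun x u hu z => by
    have := hu (z * x)
    rwa [mul_smul] at this) fun x => hU m₀ h0 x
  rw [eq_top_iff]
  intro m _
  have h2 : m ∈ U' := by rw [h1]; exact Subgroup.mem_top _
  have h3 := h2 1
  rwa [one_smul] at h3

end Cfsg.Agent.Omega.FOne.ActR

end

section


/-!
# (F1), the minimal parabolic case, additive form with a group acting

`X` acts on the `𝔽₂`-space `W` and fixes `R ≤ W`, `C_W(T) ≤ R`, `W / R = ⟨θ^X⟩` with `θ` fixed by `T` modulo `R`.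
-/

set_option autoImplicit false
set_option linter.unusedSectionVars false

namespace Cfsg.Agent.Omega.FOne.ActR

open Subgroup
open Cfsg.Agent.ClassTwoFusion.Quad (cv mem_cv)

universe u

section

variable {X W : Type*} [Group X] [AddCommGroup W] [DistribMulAction X W]

/-- `X` acts on `W`, written multiplicatively -/
@[reducible] def mact (X W : Type*) [Group X] [AddCommGroup W] [DistribMulAction X W] :
    MulDistribMulAction X (Multiplicative W) where
  smul x v := Multiplicative.ofAdd (x • Multiplicative.toAdd v)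
  one_smul v := congrArg Multiplicative.ofAdd (one_smul X (Multiplicative.toAdd v))
  mul_smul a b v := congrArg Multiplicative.ofAdd (mul_smul a b (Multiplicative.toAdd v))
  smul_mul x a b := congrArg Multiplicative.ofAdd (smul_add x (Multiplicative.toAdd a) (Multiplicative.toAdd b))
  smul_one x := congrArg Multiplicative.ofAdd (smul_zero x)

theorem qle {R : AddSubgroup W} (hR : ∀ (x : X), ∀ r ∈ R, x • r = r) (x : X) :
    R ≤ R.comap (DistribSMul.toAddMonoidHom W x) := by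
  intro r hr
  rw [AddSubgroup.mem_comap]
  change x • r ∈ R
  rw [hR x r hr]; exact hr

/-- `X` acts on `W / R`, written multiplicatively -/
@[reducible] def qact {R : AddSubgroup W} (hR : ∀ (x : X), ∀ r ∈ R, x • r = r) :
    MulDistribMulAction X (Multiplicative (W ⧸ R)) where
  smul x v := Multiplicative.ofAdd (QuotientAddGroup.map R R (DistribSMul.toAddMonoidHom W x) (qle hR x)
    (Multiplicative.toAdd v))
  one_smul v := by
    obtain ⟨w, hw⟩ := QuotientAddGroup.mk_surjective (Multiplicative.toAdd v)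
    obtain rfl : Multiplicative.ofAdd (QuotientAddGroup.mk w) = v := congrArg Multiplicative.ofAdd hw
    change Multiplicative.ofAdd (QuotientAddGroup.mk ((1 : X) • w)) = _
    rw [one_smul]
  mul_smul g h v := by
    obtain ⟨w, hw⟩ := QuotientAddGroup.mk_surjective (Multiplicative.toAdd v)
    obtain rfl : Multiplicative.ofAdd (QuotientAddGroup.mk w) = v := congrArg Multiplicative.ofAdd hw
    change Multiplicative.ofAdd (QuotientAddGroup.mk ((g * h) • w)) = _
    rw [mul_smul]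
    rfl
  smul_mul g v w := by
    change Multiplicative.ofAdd (QuotientAddGroup.map R R _ (qle hR g)
      (Multiplicative.toAdd v + Multiplicative.toAdd w)) = _
    rw [map_add]
    rfl
  smul_one g := by
    change Multiplicative.ofAdd (QuotientAddGroup.map R R _ (qle hR g) 0) = _
    rw [map_zero]
    rfl

/-- the projection `W → W / R` -/
def qmap (R : AddSubgroup W) : Multiplicative W →* Multiplicative (W ⧸ R) :=
  AddMonoidHom.toMultiplicative (QuotientAddGroup.mk' R)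

theorem qmap_surj (R : AddSubgroup W) : Function.Surjective (qmap R) := fun v => by
  obtain ⟨w, hw⟩ := QuotientAddGroup.mk_surjective (Multiplicative.toAdd v)
  exact ⟨Multiplicative.ofAdd w, congrArg Multiplicative.ofAdd hw⟩

theorem qmap_eq (two : ∀ w : W, w + w = 0) {R : AddSubgroup W} {a b : W} :
    qmap R (Multiplicative.ofAdd a) = qmap R (Multiplicative.ofAdd b) ↔ a + b ∈ R := by
  have h1 : qmap R (Multiplicative.ofAdd a) = qmap R (Multiplicative.ofAdd b) ↔
      (QuotientAddGroup.mk a : W ⧸ R) = QuotientAddGroup.mk b := Iff.rfl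
  rw [h1, QuotientAddGroup.eq]
  have h2 : -a = a := neg_eq_of_add_eq_zero_left (two a)
  rw [h2]

theorem qmap_one {R : AddSubgroup W} {a : W} : qmap R (Multiplicative.ofAdd a) = 1 ↔ a ∈ R :=
  QuotientAddGroup.eq_zero_iff a

theorem index_eq (two : ∀ w : W, w + w = 0) {R : AddSubgroup W} (hR : ∀ (x : X), ∀ r ∈ R, x • r = r)
    (B : Subgroup X) {C : AddSubgroup W} (hC : ∀ w, w ∈ C ↔ ∀ b ∈ B, b • w + w ∈ R) :
    letI := qact hR
    (cv (Multiplicative (W ⧸ R)) (B : Set X)).index = C.index := by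
  let _ := qact hR
  have h1 := Subgroup.index_comap_of_surjective (cv (Multiplicative (W ⧸ R)) (B : Set X)) (qmap_surj R)
  rw [← h1]
  have h2 : (cv (Multiplicative (W ⧸ R)) (B : Set X)).comap (qmap R) = AddSubgroup.toSubgroup C := by
    ext w
    obtain ⟨w, rfl⟩ := Multiplicative.ofAdd.surjective w
    rw [mem_comap, mem_cv]
    constructor
    · intro h3
      exact (hC w).2 fun b hb => (qmap_eq two).1 (h3 b hb)
    · intro h3 a ha
      exact (qmap_eq two).2 ((hC w).1 h3 a ha)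
  rw [h2]
  rfl

end

/-- **nmax**, additive form -/
theorem no_minR {X W : Type u} [Group X] [Finite X] [AddCommGroup W] [Finite W] [DistribMulAction X W]
    {R : AddSubgroup W} {θ : W} {T B : Subgroup X} (cm : Subgroup X → AddSubgroup W)
    (hcm : ∀ C w, w ∈ cm C ↔ ∀ b ∈ C, b • w + w ∈ R) (two : ∀ w : W, w + w = 0)
    (fixR : ∀ (x : X), ∀ r ∈ R, x • r = r) (faith : ∀ x : X, (∀ w, x • w + w ∈ R) → x = 1)
    (T2 : IsPGroup 2 T) (syl : ¬ 2 ∣ T.index) (fixT : ∀ w : W, (∀ t ∈ T, t • w = w) → w ∈ R)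
    (Tθ : ∀ t ∈ T, t • θ + θ ∈ R)
    (gen : ∀ U : AddSubgroup W, R ≤ U → (∀ x : X, x • θ ∈ U) → U = ⊤) (BT : B ≤ T) (sq : ∀ b ∈ B, b * b = 1)
    (four : 4 ≤ Nat.card B) (exact : (cm B).index = Nat.card B)
    (atom : ∀ C : Subgroup X, C ≤ B → C ≠ ⊥ → C ≠ B → Nat.card C < (cm C).index) :
    ¬ ∃ N : Subgroup X, N ≠ ⊤ ∧ ∀ Q : Subgroup X, T ≤ Q → Q ≠ ⊤ → Q ≤ N := by
  classical
  let i1 := mact X W
  let i2 := qact fixR
  have hfinM : Finite (Multiplicative (W ⧸ R)) := inferInstanceAs (Finite (W ⧸ R))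
  have hfinW : Finite (Multiplicative W) := inferInstanceAs (Finite W)
  have hsm : ∀ (x : X) (w : W), x • qmap R (Multiplicative.ofAdd w) = qmap R (Multiplicative.ofAdd (x • w)) :=
    fun x w => rfl
  have hTθ : ∀ t ∈ T, t • qmap R (Multiplicative.ofAdd θ) = qmap R (Multiplicative.ofAdd θ) := fun t ht => by
    rw [hsm, qmap_eq two]; exact Tθ t ht
  have hgen : ∀ U : Subgroup (Multiplicative (W ⧸ R)), (∀ x : X, ∀ u ∈ U, x • u ∈ U) →
      qmap R (Multiplicative.ofAdd θ) ∈ U → U = ⊤ := by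
    intro U hU hθ
    have h1 := gen (Subgroup.toAddSubgroup' (U.comap (qmap R))) (fun r hr => by
      change qmap R (Multiplicative.ofAdd r) ∈ U
      rw [qmap_one.2 hr]; exact U.one_mem) fun x => hU x _ hθ
    rw [eq_top_iff]
    intro m _
    obtain ⟨w, rfl⟩ := qmap_surj R m
    obtain ⟨w, rfl⟩ := Multiplicative.ofAdd.surjective w
    have h2 : w ∈ Subgroup.toAddSubgroup' (U.comap (qmap R)) := by rw [h1]; exact AddSubgroup.mem_top _
    exact h2
  have hs : Sit T B (qmap R) :=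
    { sq := fun w => congrArg Multiplicative.ofAdd (two (Multiplicative.toAdd w))
      eqv := fun x w => rfl
      surj := qmap_surj R
      ker := fun w hw x => congrArg Multiplicative.ofAdd (fixR x _ (qmap_one.1 hw))
      faith := fun x hx => faith x fun w => (qmap_eq two).1 (hx (qmap R (Multiplicative.ofAdd w)))
      core := by
        intro N hN hN2
        -- `N ≤ T`
        let S : Sylow 2 X := T2.toSylow syl
        have hNT : N ≤ T := by
          obtain ⟨P, hP⟩ := hN2.exists_le_sylow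
          obtain ⟨g, hg⟩ := MulAction.exists_smul_eq X P S
          intro n hn
          have h1 : g * n * g⁻¹ ∈ N := hN.conj_mem n hn g
          have h2 : g⁻¹ * n * g ∈ N := by
            have := hN.conj_mem n hn g⁻¹
            rwa [inv_inv] at this
          have h3 : g⁻¹ * n * g ∈ P := hP h2
          have h4 : n ∈ (g • P : Sylow 2 X) := by
            change n ∈ ((g • P : Sylow 2 X) : Subgroup X)
            rw [Sylow.coe_subgroup_smul, Subgroup.mem_pointwise_smul_iff_inv_smul_mem]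
            rw [← map_inv, MulAut.smul_def, MulAut.conj_apply, inv_inv]
            exact h3
          rw [hg] at h4
          exact h4
        have hfx : ∀ n ∈ N, ∀ m : Multiplicative (W ⧸ R), n • m = m := by
          intro n hn m
          let U : Subgroup (Multiplicative (W ⧸ R)) :=
            { carrier := {m | ∀ n ∈ N, n • m = m}
              one_mem' := fun n _ => smul_one n
              mul_mem' := fun {a b} ha hb n hn => by rw [smul_mul', ha n hn, hb n hn]
              inv_mem' := fun {a} ha n hn => by rw [smul_inv', ha n hn] }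
          have hU : U = ⊤ := hgen U (fun x u hu n hn => by
            have h5 : x⁻¹ * n * x ∈ N := by
              have := hN.conj_mem n hn x⁻¹
              rwa [inv_inv] at this
            have h6 := congrArg (fun z => x • z) (hu _ h5)
            simp only [smul_smul] at h6
            rw [smul_smul]
            have e2 : x * (x⁻¹ * n * x) = n * x := by group
            rw [e2] at h6
            exact h6) fun n hn => hTθ n (hNT hn)
          have h7 : m ∈ U := by rw [hU]; exact mem_top _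
          exact h7 n hn
        rw [eq_bot_iff]
        intro n hn
        rw [mem_bot]
        refine faith n fun w => ?_
        rw [← qmap_eq two, ← hsm]
        exact hfx n hn _
      two := T2
      syl := syl
      fixT := fun w hw => qmap_one.2 (fixT (Multiplicative.toAdd w) fun t ht => congrArg Multiplicative.toAdd (hw t ht))
      gen := gen_of hTθ hgen
      BT := BT
      el := sq
      four := four
      exact := by rw [index_eq two fixR B (hcm B)]; exact exact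
      atom := fun C h1 h2 h3 => by rw [index_eq two fixR C (hcm C)]; exact atom C h1 h2 h3 }
  exact hs.nmax

end Cfsg.Agent.Omega.FOne.ActR

end

end

-- merged: Cfsg.Agent.Mrg.Omega.FOne.QR.Nmax
section

/-!
# (F1), the K-route for `R` of any size: (nmax)

`FsR.nmax` : in the faithful section `T` is in at least two maximal subgroups of `X`.
-/

set_option autoImplicit false

namespace Cfsg.Agent.Omega.FOne.QR

open Subgroup Cfsg Cfsg.Agent.ZN

universe u

variable {X : Type u} [Group X] {W : Type u} [AddCommGroup W] [DistribMulAction X W]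

/-- **(nmax)** -/
theorem FsR.nmax {R : AddSubgroup W} {θ : W} {T B : Subgroup X} (F : FsR R θ T B) :
    ¬ ∃ N : Subgroup X, N ≠ ⊤ ∧ ∀ Q : Subgroup X, T ≤ Q → Q ≠ ⊤ → Q ≤ N := by
  have := F.finX
  have := F.finW
  exact ActR.no_minR (cmR R) (fun _ _ => Iff.rfl) F.two F.fixR F.faith F.T2 F.syl F.fixT F.Tθ F.gen F.BT F.sq
    F.four F.exact F.atom

end Cfsg.Agent.Omega.FOne.QR

end

-- merged: Cfsg.Agent.Mrg.Omega.FOne.QR.PsR
section

/-!
# (F1), the K-route for `R` of any size: from the faithful section to `PsR` (helper69)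

* `wactR` : `X` acts on `Multiplicative W`;
* `psR_of` : `FsR` and (LA) give helper854's `PsR`;
* **`SwR.false`** : `SwR`, `AtR` are contradictory, given (ML) and the pieces behind `PsR`.
-/

set_option autoImplicit false
set_option linter.unusedSectionVars false

namespace Cfsg.Agent.Omega.FOne.QR

open Subgroup Cfsg Cfsg.Agent.ZN Cfsg.Agent.Omega.NOThree.NoOver
open Cfsg.Agent.ClassTwoFusion.Quad (cv mem_cv)
open Cfsg.Agent.Omega.ML.Ex (LA PsR EndPieces)

universe u

variable {X : Type u} [Group X] {W : Type u} [AddCommGroup W] [DistribMulAction X W]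

/-- `X` acts on `W`, written multiplicatively -/
@[reducible] def wactR (X : Type u) [Group X] (W : Type u) [AddCommGroup W] [DistribMulAction X W] :
    MulDistribMulAction X (Multiplicative W) where
  smul x v := Multiplicative.ofAdd (x • Multiplicative.toAdd v)
  one_smul v := by
    change Multiplicative.ofAdd ((1 : X) • Multiplicative.toAdd v) = v
    rw [one_smul]; rfl
  mul_smul x y v := by
    change Multiplicative.ofAdd ((x * y) • Multiplicative.toAdd v) =
      Multiplicative.ofAdd (x • (y • Multiplicative.toAdd v))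
    rw [mul_smul]
  smul_mul x v w := by
    change Multiplicative.ofAdd (x • (Multiplicative.toAdd v + Multiplicative.toAdd w)) = _
    rw [smul_add]; rfl
  smul_one x := by
    change Multiplicative.ofAdd (x • (0 : W)) = 1
    rw [smul_zero]; rfl

section conj

variable {R : AddSubgroup W} {B : Subgroup X}

theorem mem_cj_iff {G : Type*} [Group G] {g : G} {C : Subgroup G} {x : G} : x ∈ cj g C ↔ ∃ c ∈ C, x = g * c * g⁻¹ := by
  constructor
  · rintro ⟨c, hc, rfl⟩
    exact ⟨c, hc, rfl⟩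
  · rintro ⟨c, hc, rfl⟩
    exact ⟨c, hc, rfl⟩

theorem card_cj {G : Type*} [Group G] (g : G) (C : Subgroup G) : Nat.card (cj g C) = Nat.card C :=
  Nat.card_congr (C.equivMapOfInjective _ (MulAut.conj g).injective).symm.toEquiv

theorem index_cmR_cj (b : Bs X R) (g : X) (C : Subgroup X) : (cmR R (cj g C)).index = (cmR R C).index := by
  have h1 : (cmR R (cj g C)).comap (DistribSMul.toAddMonoidHom W g) = cmR R C := by
    ext w
    rw [AddSubgroup.mem_comap, DistribSMul.toAddMonoidHom_apply, mem_cmR, mem_cmR]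
    constructor
    · intro h c hc
      have h2 := h _ (mem_cj_iff.2 ⟨c, hc, rfl⟩)
      have e : (g * c * g⁻¹) • g • w + g • w = g • (c • w + w) := by
        rw [smul_add, mul_smul, mul_smul, inv_smul_smul]
      rw [e] at h2
      have h3 := b.fixR g⁻¹ _ h2
      rw [inv_smul_smul] at h3
      rw [h3]; exact h2
    · intro h x hx
      obtain ⟨c, hc, rfl⟩ := mem_cj_iff.1 hx
      have e : (g * c * g⁻¹) • g • w + g • w = g • (c • w + w) := by
        rw [smul_add, mul_smul, mul_smul, inv_smul_smul]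
      rw [e, b.fixR g _ (h c hc)]
      exact h c hc
  rw [← h1]
  exact (AddSubgroup.index_comap_of_surjective _ (MulAction.surjective g)).symm

theorem cj_cj_inv {G : Type*} [Group G] (g : G) (C : Subgroup G) : cj g (cj g⁻¹ C) = C := by
  ext x
  rw [mem_cj_iff]
  constructor
  · rintro ⟨c, hc, rfl⟩
    obtain ⟨d, hd, rfl⟩ := mem_cj_iff.1 hc
    have e : g * (g⁻¹ * d * g⁻¹⁻¹) * g⁻¹ = d := by group
    rwa [e]
  · intro hx
    exact ⟨g⁻¹ * x * g⁻¹⁻¹, mem_cj_iff.2 ⟨x, hx, rfl⟩, by group⟩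

theorem cj_inv_cj {G : Type*} [Group G] (g : G) (C : Subgroup G) : cj g⁻¹ (cj g C) = C := by
  have := cj_cj_inv g⁻¹ C
  rwa [inv_inv] at this

/-- a conjugate of an atom -/
theorem atR_cj (b : Bs X R) (g : X) {N : Subgroup X} (hN : cj g B ≤ N) (sq : ∀ c ∈ B, c * c = 1)
    (quad : ∀ a ∈ B, ∀ c ∈ B, ∀ w : W, a • (c • w + w) + (c • w + w) ∈ R) (four : 4 ≤ Nat.card B)
    (exact_ : (cmR R B).index = Nat.card B)
    (atom : ∀ C : Subgroup X, C ≤ B → C ≠ ⊥ → C ≠ B → Nat.card C < (cmR R C).index) : AtR R N (cj g B) where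
  BN := hN
  sq := by
    intro x hx
    obtain ⟨c, hc, rfl⟩ := mem_cj_iff.1 hx
    have e : g * c * g⁻¹ * (g * c * g⁻¹) = g * (c * c) * g⁻¹ := by group
    rw [e, sq c hc]; group
  quad := by
    intro x hx y hy w
    obtain ⟨a, ha, rfl⟩ := mem_cj_iff.1 hx
    obtain ⟨c, hc, rfl⟩ := mem_cj_iff.1 hy
    have h1 := quad a ha c hc (g⁻¹ • w)
    have e1 : (g * c * g⁻¹) • w + w = g • (c • g⁻¹ • w + g⁻¹ • w) := by
      rw [smul_add, smul_inv_smul, mul_smul, mul_smul]
    have e2 : (g * a * g⁻¹) • (g • (c • g⁻¹ • w + g⁻¹ • w)) + g • (c • g⁻¹ • w + g⁻¹ • w) =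
        g • (a • (c • g⁻¹ • w + g⁻¹ • w) + (c • g⁻¹ • w + g⁻¹ • w)) := by
      generalize c • g⁻¹ • w + g⁻¹ • w = v
      rw [smul_add, mul_smul, mul_smul, inv_smul_smul]
    rw [e1, e2, b.fixR g _ h1]
    exact h1
  four := by rw [card_cj]; exact four
  exact := by rw [index_cmR_cj b, card_cj]; exact exact_
  atom := by
    intro C hC hC1 hCB
    have h1 : cj g⁻¹ C ≤ B := by
      have h2 : cj g⁻¹ C ≤ cj g⁻¹ (cj g B) := map_mono hC
      rwa [cj_inv_cj] at h2
    have h2 := atom (cj g⁻¹ C) h1 (fun h => hC1 ?_) (fun h => hCB ?_)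
    · rwa [card_cj, index_cmR_cj b] at h2
    · rw [← cj_cj_inv g C, h]
      exact map_bot _
    · rw [← cj_cj_inv g C, h]

end conj

/-- exactness on `W / R` -/
theorem index_cv_eq {R : AddSubgroup W} (two : ∀ w : W, w + w = 0) (hR : ∀ x : X, ∀ r ∈ R, x • r = r) (C : Subgroup X) :
    letI := act (X := X) hR
    (cv (MR R) (C : Set X)).index = (cmR R C).index := by
  letI := act (X := X) hR
  have h1 := Subgroup.index_comap_of_surjective (cv (MR R) (C : Set X)) (mkH_surj R)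
  rw [← h1]
  have h2 : (cv (MR R) (C : Set X)).comap (mkH R) = AddSubgroup.toSubgroup (cmR R C) := by
    ext w
    rw [mem_comap, mem_cv]
    change (∀ a ∈ (C : Set X), a • mk R (Multiplicative.toAdd w) = mk R (Multiplicative.toAdd w)) ↔
      Multiplicative.toAdd w ∈ cmR R C
    rw [mem_cmR]
    constructor
    · intro h3 a ha
      exact (mk_eq' two).1 (h3 a ha)
    · intro h3 a ha
      exact (mk_eq' two).2 (h3 a ha)
  rw [h2]
  rfl

/-- **`FsR` and (LA) give `PsR`.** -/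
theorem psR_of {R : AddSubgroup W} {θ : W} {T B : Subgroup X} (F : FsR R θ T B) (hL : LaR R θ T) :
    letI := act (X := X) F.fixR
    letI := wactR X W
    PsR (X := X) (M := MR R) (W := Multiplicative W) T B (mkH R) (mk R θ) := by
  classical
  letI := act (X := X) F.fixR
  letI := wactR X W
  have hfX := F.finX
  have hfW := F.finW
  have b : Bs X R := ⟨F.two, F.fixR⟩
  have hsm : ∀ (x : X) (w : W), x • mk R w = mk R (x • w) := fun _ _ => rfl
  have hwm : ∀ (x : X) (w : Multiplicative W), x • w = Multiplicative.ofAdd (x • Multiplicative.toAdd w) :=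
    fun _ _ => rfl
  have hp : ∀ w : Multiplicative W, mkH R w = mk R (Multiplicative.toAdd w) := fun _ => rfl
  have hmi : ∀ w : W, (mk R w)⁻¹ = mk R w := by
    intro w
    rw [inv_eq_iff_mul_eq_one, ← mk_add, F.two, mk_zero]
  refine
    { known := F.known
      sq := fun w => congrArg Multiplicative.ofAdd (F.two (Multiplicative.toAdd w))
      eqv := fun x w => rfl
      surj := mkH_surj R
      ker := fun w hw x => ?_
      faith := fun x hx => F.faith x fun w => (mk_eq' F.two).1 (hx (mk R w))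
      core := ?_
      two := F.T2
      syl := F.syl
      fixT := fun w hw => ?_
      gen := ?_
      BT := F.BT
      el := F.sq
      quad := ?_
      four := F.four
      exact := ?_
      atom := ?_
      low := F.low
      nmax := F.nmax
      la := ⟨fun t ht => (mk_eq' F.two).2 (F.Tθ t ht), fun h => F.θR (mk_one.1 h), ?_⟩ }
  · rw [hp, mk_one] at hw
    rw [hwm, F.fixR x _ hw]; rfl
  · intro N hN hN2
    have : Fact (Nat.Prime 2) := ⟨Nat.prime_two⟩
    have h1 : IsPGroup 2 (T ⊔ N : Subgroup X) := F.T2.to_sup_of_normal_right hN2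
    have h2 : T ⊔ N = T := (F.T2.toSylow F.syl).is_maximal' h1 le_sup_left
    have hNT : N ≤ T := le_sup_right.trans h2.le
    rw [eq_bot_iff]
    intro n hn
    rw [mem_bot]
    refine F.faith n fun w => ?_
    have h3 : n ∈ kk b (sp R (⊤ : Subgroup X) θ) := by
      rw [mem_kk_sp]
      intro x _
      have h4 : x⁻¹ * n * x ∈ N := by
        have := hN.conj_mem n hn x⁻¹
        rwa [inv_inv] at this
      have h5 := F.Tθ _ (hNT h4)
      have e : n • x • θ + x • θ = x • ((x⁻¹ * n * x) • θ + θ) := by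
        rw [smul_add, mul_smul, mul_smul, smul_inv_smul]
      rw [e, F.fixR x _ h5]
      exact h5
    have h4 : sp R (⊤ : Subgroup X) θ = ⊤ := F.gen _ (le_sp R _ θ) fun x => smul_mem_sp' R θ (mem_top x)
    rw [h4] at h3
    exact h3 w (AddSubgroup.mem_top w)
  · rw [hp, mk_one]
    exact F.fixT _ fun t ht => congrArg Multiplicative.toAdd (hw t ht)
  · intro U hU hθ
    rw [eq_top_iff]
    intro m _
    obtain ⟨w, rfl⟩ := mk_surj m
    let V : AddSubgroup W :=
      { carrier := {w | mk R w ∈ U}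
        zero_mem' := by
          change mk R 0 ∈ U
          rw [mk_zero]; exact U.one_mem
        add_mem' := by
          intro v w hv hw
          change mk R (v + w) ∈ U
          rw [mk_add]; exact U.mul_mem hv hw
        neg_mem' := by
          intro w hw
          change mk R (-w) ∈ U
          have : mk R (-w) = (mk R w)⁻¹ := rfl
          rw [this]; exact U.inv_mem hw }
    have h1 : V = ⊤ := by
      refine F.gen V ?_ ?_
      · intro r hr
        change mk R r ∈ U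
        rw [mk_one.2 hr]; exact U.one_mem
      · intro x
        exact hU x _ hθ
    have h2 : w ∈ V := by rw [h1]; exact AddSubgroup.mem_top w
    exact h2
  · intro a ha c hc m
    obtain ⟨w, rfl⟩ := mk_surj m
    rw [hmi, hsm, ← mk_add, hsm, mk_eq' F.two]
    exact F.quad c hc a ha w
  · rw [index_cv_eq F.two F.fixR]
    exact F.exact
  · intro C hC hC1 hCB
    rw [index_cv_eq F.two F.fixR]
    exact F.atom C hC hC1 hCB
  · intro g hg Q hTQ hQ
    refine hL (MulAction.stabilizer X (mk R θ)) (fun x => ?_) (cj g B) ?_ Q hTQ hQ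
    · rw [MulAction.mem_stabilizer_iff, hsm, mk_eq' F.two]
    · exact atR_cj b g hg F.sq F.quad F.four F.exact F.atom

/-- **`FsR` with (LA) is impossible.** -/
theorem fsR_no {R : AddSubgroup W} {θ : W} {T B : Subgroup X} (hE : EndPieces.{u, u, u}) (F : FsR R θ T B)
    (hL : LaR R θ T) : False := by
  letI := act (X := X) F.fixR
  letI := wactR X W
  have hfX := F.finX
  have hfW := F.finW
  have : Finite (MR R) := Finite.of_surjective (mkH R) (mkH_surj R)
  have : Finite (Multiplicative W) := hfW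
  exact hE.false (psR_of F hL)

/-- **`SwR` with an atom of order at least 4 is impossible.** -/
theorem SwR.false {R : AddSubgroup W} {θ : W} {T N B : Subgroup X} (hML : ML.Final.MLK.{u, u})
    (hE : EndPieces.{u, u, u}) (S : SwR R θ T N) (hB : AtR R N B) : False := by
  obtain ⟨X', _, W', _, _, R', θ', T', B', F, hL⟩ := S.exists_fs hML hB
  exact fsR_no hE F hL

end Cfsg.Agent.Omega.FOne.QR

end

-- merged: Cfsg.Agent.Mrg.Omega.FOne.QR.Plug
section

/-!
# (F1) for `q ≥ 4`, every stage (helper69)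

`fOneR : MLK → EndPieces → FarB.FOneR`, `fOneB : MLK → EndPieces → NO3S.FOneB K` (over helper232's `front`, helper241's
`fOneB_of_R`, helper425's THEOREM A, helper728's nmax, helper854's `EndPieces`).
-/

set_option autoImplicit false

namespace Cfsg.Agent.Omega.FOne.QR

open Cfsg
open Cfsg.Agent.Omega.ML.Ex (EndPieces)

universe u

/-- **(F1), abstract form, `R` of any order.** -/
theorem fOneR (hML : ML.Final.MLK.{u, u}) (hE : EndPieces.{u, u, u}) : NO3S.FarB.FOneR.{u} := by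
  intro H W M _ _ _ _ _ T A V R π P
  obtain ⟨W', _, _, R', θ, N, B, S, hB⟩ := front hML P
  exact S.false hML hE hB

/-- **(F1) for `q ≥ 4`, every stage.** -/
theorem fOneB {K : Frame.Cls.{u}} (hML : ML.Final.MLK.{u, u}) (hE : EndPieces.{u, u, u}) : NO3S.FOneB K :=
  NO3S.FarB.fOneB_of_R hML (fOneR hML hE)

end Cfsg.Agent.Omega.FOne.QR

end

private theorem dce_ffcacfccad4e : _root_.True := by
  try have : _root_.True := by simp only [_root_.Cfsg.Agent.Omega.FOne.QR.kk.congr_simp]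
  try have : _root_.True := by simp only [_root_.Cfsg.Agent.Omega.FOne.QR.LX.eq_1]
  try have : _root_.True := by simp only [_root_.Cfsg.Agent.Omega.FOne.QR.stb.eq_1]
  try have : _root_.True := by simp only [_root_.Cfsg.Agent.Omega.FOne.QR.sp.eq_1]
  exact _root_.True.intro
end
end
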